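import Cfsg.Agent.WJ.Defs
import Cfsg.Agent.J4P.Main

/-! Project WJ: the model of `J₄`. -/

set_option autoImplicit false
set_option linter.unusedSectionVars false

namespace Cfsg.Agent.WJ

open Cfsg.Agent.SGJ4 Cfsg.Agent.J4P Cfsg.Agent.H14 AG Subgroup
open Cfsg.Agent.H42 (SylIn cj)
open scoped commutatorElement

variable {J : Type*} [Group J] (m : Md J)

theorem exists_md : Nonempty (Md Spor.J4) := by
  obtain ⟨S⟩ := nonempty_setup_J4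
  obtain ⟨A, h1, h2, h3⟩ := exists_amal_of_setup S
  exact ⟨⟨S, A, h1, h2, h3⟩⟩

theorem eq_zero_of_Ks {x : Vb} (hx : x ∈ Ev) (h : ∀ a ∈ Ks, a.m x = x) : x = 0 :=
  OfS.eq_zero_of_fix hx (h _ (KT_le_Ks inS_ckx.ofC_mem)) (h _ (KT_le_Ks inS_cku.ofC_mem))

theorem mem_Vs {a : AG} : a ∈ Vs ↔ ∃ v ∈ Ev, tr v = a := mem_trS

theorem e0_sq : e0 * e0 = 1 := by
  rw [← cd_inj, cd_mul, e0, cd_ee, cd_one]
  decide +kernel

theorem e0_435 : e0.m (Vb.of 435) = Vb.of 3072 := by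
  rw [m_of, e0, cd_ee]
  congr 1

theorem mem_435 : Vb.of 435 ∈ Ev := mem_Ev'.2 (by decide +kernel)

namespace Md

theorem f_mul {a b : AG} (ha : a ∈ Ns) (hb : b ∈ Ns) : m.f (a * b) = m.f a * m.f b := ex_mul ha hb
theorem f_one : m.f 1 = 1 := ex_one
theorem f_inv {a : AG} (ha : a ∈ Ns) : m.f a⁻¹ = (m.f a)⁻¹ := ex_inv ha
theorem f_inj {a b : AG} (ha : a ∈ Ns) (hb : b ∈ Ns) (h : m.f a = m.f b) : a = b :=
  OfS.ex_inj m.h ha hb h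
theorem f_tr {x : Vb} (hx : x ∈ Ev) : m.f (tr x) = m.S.th (tr x) := OfS.ex_tr m.h hx
theorem ττ : m.τ * m.τ = 1 := m.A.t_sq
theorem τ_comm {a : AG} (ha : a ∈ KT) : m.τ * m.f a = m.f a * m.τ := m.A.comm a ha

theorem f_pow {a : AG} (ha : a ∈ Ns) (n : ℕ) : m.f (a ^ n) = m.f a ^ n := ex_pow ha n
theorem f_conj {a b : AG} (ha : a ∈ Ns) (hb : b ∈ Ns) :
    m.f (a * b * a⁻¹) = m.f a * m.f b * (m.f a)⁻¹ := ex_conj ha hb
theorem f_sig {a : AG} (ha : a ∈ Ns) : m.f (sig a) = m.S.th a := by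
  rw [f, m.h _ (sig_mem_Ns.2 ha), sig_sig]
theorem φ_inj : Function.Injective m.A.φ := fun a b h =>
  Subtype.ext (m.f_inj a.2 b.2 (by rw [f, f, ex_coe, ex_coe, h]))
theorem mem_V {g : J} : g ∈ m.S.V ↔ ∃ x ∈ Ev, g = m.f (tr x) := by
  rw [Setup.mem_V]
  exact ⟨fun ⟨x, hx, e⟩ => ⟨x, hx, by rw [m.f_tr hx, e]⟩, fun ⟨x, hx, e⟩ =>
    ⟨x, hx, by rw [e, m.f_tr hx]⟩⟩

/-- the image of a subgroup of the model -/
def im (A : Subgroup AG) : Subgroup J := (A.subgroupOf Ns).map m.A.φ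

theorem mem_im {A : Subgroup AG} {g : J} : g ∈ m.im A ↔ ∃ a ∈ A, a ∈ Ns ∧ m.f a = g :=
  ⟨fun ⟨a, ha, e⟩ => ⟨a, ha, a.2, by rw [f, ex_coe, e]⟩, fun ⟨a, ha, h, e⟩ =>
    ⟨⟨a, h⟩, ha, by rw [← e, f, ex_eq h]⟩⟩

theorem card_im {A : Subgroup AG} (h : A ≤ Ns) : Nat.card (m.im A) = Nat.card A := by
  rw [im, card_map_of_injective m.φ_inj]
  exact Nat.card_congr (subgroupOfEquivOfLe h).toEquiv

theorem cV {g : J} (h : ∀ x ∈ Ev, Commute g (m.f (tr x))) : ∃ x ∈ Ev, g = m.f (tr x) :=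
  OfS.cent_V9 m.h fun _ hi => let ⟨_, _, _, _, _, _, h1⟩ := vb_data hi; h _ h1

theorem fix_of_comm {a : AG} (ha : a ∈ Ns) {v : Vb} (hv : v ∈ Ev)
    (e : Commute (m.f (tr v)) (m.f a)) : a.m v = v := OfS.fix_of_comm m.h ha hv e

variable [Finite J]

theorem nV {g : J} (h : ∀ x ∈ Ev, ∃ y ∈ Ev, g * m.f (tr x) * g⁻¹ = m.f (tr y)) :
    ∃ a ∈ Ns, g = m.f a := by
  have h1 : g ∈ m.S.N := by
    rw [Setup.N_eq]
    refine H42.mem_normalizer_of_conj_mem fun u hu => ?_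
    obtain ⟨x, hx, rfl⟩ := m.mem_V.1 hu
    exact m.mem_V.2 (h x hx)
  obtain ⟨a, ha, rfl⟩ := Setup.mem_N.1 h1
  exact ⟨sig a, sig_mem_Ns.2 ha, (m.f_sig ha).symm⟩

theorem inv {g : J} (h : g * g = 1) : ∃ k : J, ∃ x ∈ Ev, k * g * k⁻¹ = m.f (tr x) := by
  by_cases h1 : g = 1
  · exact ⟨1, 0, Ev.zero_mem, by rw [h1, tr_zero, m.f_one]; group⟩
  haveI : Fact (Nat.Prime 2) := ⟨Nat.prime_two⟩
  have h2 : orderOf g = 2 := orderOf_eq_prime (by rw [sq, h]) h1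
  rcases Setup.two' (S := m.S) h2 with h3 | h3
  · obtain ⟨k, hk⟩ := isConj_iff.1 h3.symm
    exact ⟨k, zs, tr_mem_Ns.1 zN_mem, by rw [hk, m.f_tr (tr_mem_Ns.1 zN_mem)]; exact Setup.th_zN.symm⟩
  · obtain ⟨k, hk⟩ := isConj_iff.1 h3.symm
    exact ⟨k, ts, tr_mem_Ns.1 tN_mem, by rw [hk, m.f_tr (tr_mem_Ns.1 tN_mem)]; rfl⟩

omit [Finite J] in
theorem ea_of_sq {B : Subgroup J} (h : ∀ b ∈ B, b * b = 1) : IsElementaryAbelian 2 B := by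
  refine ⟨⟨⟨fun a b => Subtype.ext ?_⟩⟩, fun a ha => by rw [sq, h a ha]⟩
  have h1 := h _ (mul_mem a.2 b.2)
  have h2 := inv_eq_of_mul_eq_one_right h1
  rw [mul_inv_rev, inv_eq_of_mul_eq_one_right (h _ a.2), inv_eq_of_mul_eq_one_right (h _ b.2)] at h2
  exact h2.symm

theorem rank_aux {B : Subgroup J} (h : ∀ b ∈ B, b * b = 1) (hc : 2 ^ 11 ≤ Nat.card B) :
    ∃ k : J, cj k B = m.S.V := by
  haveI : Fact (Nat.Prime 2) := ⟨Nat.prime_two⟩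
  have hV : IsPGroup 2 m.S.V := IsPGroup.of_card Setup.card_V
  obtain ⟨P, hP, hVP⟩ := H42.exists_sylIn hV (le_top : m.S.V ≤ ⊤)
  have hB : IsPGroup 2 B := ea_pgroup (ea_of_sq h)
  obtain ⟨k, -, hk⟩ := hP.exists_conj hB le_top
  have h1 : ∀ b ∈ cj k B, b * b = 1 := fun b hb => by
    have := h _ (H42.mem_cj.1 hb)
    rw [← back_mul, back_eq] at this
    rw [this]; group
  have h2 : cj k B ≤ P := H42.cj_le_iff.2 hk
  obtain ⟨A0, hA0⟩ := Sylow.exists_subgroup_card_pow_prime_of_le_card Nat.prime_two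
    (H42.isPGroup_cj k hB) (n := 11) (by rwa [H42.card_cj])
  obtain ⟨A, hA, hA'⟩ : ∃ A ≤ cj k B, Nat.card A = 2 ^ 11 := ⟨A0.map (cj k B).subtype,
    map_subtype_le _, by rw [card_map_of_injective (cj k B).subtype_injective, hA0]⟩
  have h4 : A = m.S.V := Setup.uniq' hP.isP hVP (hA.trans h2)
    (ea_of_sq fun b hb => h1 b (hA hb)) hA'
  refine ⟨k, le_antisymm (fun b hb => m.mem_V.2 (m.cV fun x hx => ?_)) (h4 ▸ hA)⟩
  have h5 : m.f (tr x) ∈ cj k B := hA (h4 ▸ m.mem_V.2 ⟨x, hx, rfl⟩)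
  exact congrArg Subtype.val ((ea_of_sq h1).1.is_comm.comm (⟨b, hb⟩ : cj k B) ⟨_, h5⟩)

include m in
theorem rank {B : Subgroup J} (h : ∀ b ∈ B, b * b = 1) : Nat.card B ≤ 2 ^ 11 := by
  by_contra hc
  obtain ⟨k, hk⟩ := m.rank_aux h (not_le.1 hc).le
  rw [← H42.card_cj k, hk, Setup.card_V] at hc
  exact hc le_rfl

theorem rank_eq {B : Subgroup J} (h : ∀ b ∈ B, b * b = 1) (hc : 2 ^ 11 ≤ Nat.card B) :
    ∃ k : J, ∀ b, b ∈ B ↔ ∃ x ∈ Ev, k * b * k⁻¹ = m.f (tr x) := by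
  obtain ⟨k, hk⟩ := m.rank_aux h hc
  exact ⟨k, fun b => by rw [← m.mem_V, ← hk, H42.conj_mem_cj_iff]⟩

include m in
/-- `V` is the only elementary abelian subgroup of order `2¹¹` of `T` -/
theorem uniq {T B : Subgroup AG} (hT : TS T) (hB : B ≤ T) (h : ∀ b ∈ B, b * b = 1) :
    Nat.card B ≤ 2 ^ 11 ∧ (2 ^ 11 ≤ Nat.card B → B = Vs) := by
  have hN : T ≤ Ns := hT.syl.le
  have h1 : ∀ b ∈ m.im B, b * b = 1 := fun b hb => by
    obtain ⟨a, ha, ha', rfl⟩ := m.mem_im.1 hb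
    rw [← m.f_mul ha' ha', h a ha, m.f_one]
  have h2 := m.rank h1
  rw [m.card_im (hB.trans hN)] at h2
  refine ⟨h2, fun h3 => ?_⟩
  have h4 : m.im B = m.S.V := by
    refine Setup.uniq' (T := m.im T) (IsPGroup.of_card ((m.card_im hN).trans hT.card))
      (fun g hg => ?_) (map_mono (comap_mono hB)) (ea_of_sq h1)
      ((m.card_im (hB.trans hN)).trans (le_antisymm h2 h3))
    obtain ⟨x, hx, rfl⟩ := m.mem_V.1 hg
    exact m.mem_im.2 ⟨_, hT.tr x hx, tr_mem_Ns.2 hx, rfl⟩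
  ext a
  constructor
  · intro ha
    obtain ⟨x, hx, e⟩ := m.mem_V.1 (h4 ▸ m.mem_im.2 ⟨a, ha, hN (hB ha), rfl⟩)
    exact mem_Vs.2 ⟨x, hx, (m.f_inj (hN (hB ha)) (tr_mem_Ns.2 hx) e).symm⟩
  · intro ha
    obtain ⟨x, hx, rfl⟩ := mem_Vs.1 ha
    obtain ⟨b, hb, hb', e⟩ := m.mem_im.1 (h4.symm ▸ m.mem_V.2 ⟨x, hx, rfl⟩)
    exact m.f_inj hb' (tr_mem_Ns.2 hx) e ▸ hb

/-- `T` is a Sylow 2-subgroup of `J` -/
theorem syl {T : Subgroup AG} (hT : TS T) {P : Subgroup J} (hP : IsPGroup 2 P)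
    (h : ∀ a ∈ T, m.f a ∈ P) : ∀ g ∈ P, ∃ a ∈ T, g = m.f a := by
  haveI : Fact (Nat.Prime 2) := ⟨Nat.prime_two⟩
  have hN : T ≤ Ns := hT.syl.le
  have h1 : m.im T ≤ P := fun g hg => by
    obtain ⟨a, ha, -, rfl⟩ := m.mem_im.1 hg
    exact h a ha
  obtain ⟨n, hn⟩ := IsPGroup.iff_card.1 hP
  have h2 : n ≤ 21 := by
    by_contra hc
    exact m.S.sylow ((pow_dvd_pow 2 (by omega)).trans (hn ▸ P.card_subgroup_dvd_card))
  have h3 : m.im T = P := eq_of_le_of_card_ge h1 (by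
    rw [m.card_im hN, hT.card, hn]
    exact Nat.pow_le_pow_right (by norm_num) h2)
  intro g hg
  obtain ⟨a, ha, -, e⟩ := m.mem_im.1 (h3.symm ▸ hg)
  exact ⟨a, ha, e.symm⟩

theorem gen {K : Subgroup J} (h1 : ∀ a ∈ Ns, m.f a ∈ K) (h2 : m.τ ∈ K) : K = ⊤ := by
  rw [eq_top_iff, ← gen_eq_top m.S m.A m.h m.tH m.tpi, Amal.gen, closure_le]
  rintro _ (⟨a, rfl⟩ | rfl)
  · have := h1 a a.2
    rwa [f, ex_coe] at this
  · exact h2

include m in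
theorem simple : IsSimpleGroup J := isSimpleGroup_of_setup m.S

include m in
theorem cent {g : J} (h : ∀ a, Commute g a) : g = 1 := by
  obtain ⟨x, hx, rfl⟩ := m.cV fun x _ => h _
  rw [eq_zero_of_Ks hx fun a ha => m.fix_of_comm (Ks_le_Ns ha) hx (h _), tr_zero, m.f_one]

include m in
theorem d8 : ∃ a b : J, orderOf a = 2 ∧ orderOf b = 2 ∧ orderOf (a * b) = 4 := by
  haveI : Fact (Nat.Prime 2) := ⟨Nat.prime_two⟩
  have h1 := tr_mem_Ns.2 mem_435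
  have h2 : e0 ∈ Ns := ee_mem' 1
  have ho : ∀ a ∈ Ns, orderOf (m.f a) = orderOf a := fun a ha => by
    rw [f, ex_eq ha, orderOf_injective _ m.φ_inj, orderOf_mk]
  have h3 : (tr (Vb.of 435) * e0) ^ 2 = tr (Vb.of 435 + Vb.of 3072) := by
    rw [sq, tr_mul_sq, e0_sq, e0_435, mul_one]
  refine ⟨m.f (tr (Vb.of 435)), m.f e0, ?_, ?_, ?_⟩
  · rw [ho _ h1]
    exact orderOf_eq_prime (by rw [sq, tr_mul_self]) (by rw [Ne, tr_eq_one, ← Vb.val_inj]; decide)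
  · rw [ho _ h2]
    refine orderOf_eq_prime (by rw [sq, e0_sq]) fun e => ?_
    have := e0_435
    rw [e, one_m, ← Vb.val_inj] at this
    exact absurd this (by decide)
  · rw [← m.f_mul h1 h2, ho _ (mul_mem h1 h2)]
    refine orderOf_eq_prime_pow (p := 2) (n := 1) ?_ ?_
    · rw [pow_one, h3, tr_eq_one, ← Vb.val_inj]; decide
    · rw [show 2 ^ (1 + 1) = 2 * 2 from rfl, pow_mul, h3, sq, tr_mul_self]

end Md

/-- a non-trivial subgroup of the complement that is normalised by it -/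
theorem Ks_le {L : Subgroup AG} (hn : ∀ a ∈ Ks, ∀ b ∈ L, b ∈ Ks → a * b * a⁻¹ ∈ L) {b : AG}
    (hb : b ∈ Ks) (hL : b ∈ L) (h1 : b ≠ 1) : Ks ≤ L := by
  have hb' : b ∈ Ns ⊓ L.comap lin := ⟨Ks_le_Ns hb, by
    show lin b ∈ L
    rwa [lin_eq_self.2 hb.2]⟩
  rcases normal_cases (M := Ns ⊓ L.comap lin) inf_le_left (fun a ha c hc =>
    ⟨Ns.mul_mem (Ns.mul_mem ha hc.1) (Ns.inv_mem ha), by
      show lin (a * c * a⁻¹) ∈ L
      rw [map_mul, map_mul, map_inv]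
      exact hn _ (lin_mem_Ks ha.1) _ hc.2 (lin_mem_Ks hc.1.1)⟩) with h | h | h
  · exact absurd (mem_bot.1 (h ▸ hb')) h1
  · obtain ⟨v, -, rfl⟩ := mem_Vs.1 (h ▸ hb')
    exact absurd (tr_eq_one.2 hb.2) h1
  · intro a ha
    have h2 : lin a ∈ L := (h.symm ▸ Ks_le_Ns ha : a ∈ Ns ⊓ L.comap lin).2
    rwa [lin_eq_self.2 ha.2] at h2

theorem perfect_Ns : ⁅(⊤ : Subgroup Ns), (⊤ : Subgroup Ns)⁆ = ⊤ := by
  have hx : kx ∈ Ns := Ks_le_Ns (KT_le_Ks inS_ckx.ofC_mem)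
  have hy : ky ∈ Ns := Ks_le_Ns inS_cky.ofC_mem
  have h0 : ⁅kx, ky⁆ ∈ (⁅(⊤ : Subgroup Ns), (⊤ : Subgroup Ns)⁆).map Ns.subtype :=
    ⟨⁅(⟨kx, hx⟩ : Ns), ⟨ky, hy⟩⁆, commutator_mem_commutator (mem_top _) (mem_top _), rfl⟩
  have h1 : (⁅kx, ky⁆ : AG).p ≠ 1 := fun e => by
    have e2 : (kx * ky).p = (ky * kx).p := by
      have : pr ⁅kx, ky⁆ = 1 := e
      rw [map_commutatorElement, commutatorElement_eq_one_iff_mul_comm] at this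
      exact this
    have e3 := congrArg GE.pk e2
    rw [← cP_cd, ← cP_cd, cd_mul, cd_mul, kx, ky, inS_ckx.cd_ofC, inS_cky.cd_ofC] at e3
    exact absurd e3 (by decide +kernel)
  rcases normal_cases (M := (⁅(⊤ : Subgroup Ns), (⊤ : Subgroup Ns)⁆).map Ns.subtype)
    (map_subtype_le _) (fun a ha c ⟨d, hd, e⟩ => ⟨⟨a, ha⟩ * d * ⟨a, ha⟩⁻¹,
      (inferInstance : (⁅(⊤ : Subgroup Ns), (⊤ : Subgroup Ns)⁆).Normal).conj_mem d hd _,
      e ▸ rfl⟩) with h | h | h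
  · rw [h, mem_bot] at h0
    rw [h0] at h1
    exact absurd rfl h1
  · obtain ⟨v, -, e⟩ := mem_Vs.1 (h ▸ h0)
    rw [← e] at h1
    exact absurd rfl h1
  · rw [eq_top_iff]
    intro a _
    obtain ⟨d, hd, e⟩ : (a : AG) ∈ (⁅(⊤ : Subgroup Ns), (⊤ : Subgroup Ns)⁆).map Ns.subtype :=
      h.symm ▸ a.2
    exact (Subtype.ext e : d = a) ▸ hd

theorem eq_one_of_cent_Ns {a : AG} (ha : a ∈ Ns) (h : ∀ b ∈ Ns, a * b = b * a) : a = 1 := by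
  have h1 : a = tr a.v := lin_eq_one.1 (lin_eq_one_of_Ev ha.1 fun v hv => by
    have := h _ (tr_mem_Ns.2 hv)
    rwa [mul_tr, mul_left_inj, tr_inj] at this)
  have h2 : a.v = 0 := eq_zero_of_Ks ha.2 fun b hb => by
    have := h _ (Ks_le_Ns hb)
    rw [h1, mul_tr, mul_left_inj, tr_inj] at this
    exact this.symm
  rw [h1, h2, tr_zero]

end Cfsg.Agent.WJ
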