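import Cfsg.Agent.WJ.BaseF

/-! Project WJ: common tools for the comparison of the frames of `N` and of its `τ`-conjugate. -/

set_option autoImplicit false

namespace Cfsg.Agent.WJ

open Cfsg.Agent.SGJ4 Cfsg.Agent.J4P Cfsg.Agent.H14 AG Subgroup
open Cfsg.Agent.H42 (SylIn cj)

variable {J G : Type*} [Group J] [Group G]

/-- `τ` conjugates the image of `p'` to the image of `p` -/
def Md.Rl (m : Md J) (p p' : AG) : Prop := p ∈ Ns ∧ p' ∈ Ns ∧ m.τ * m.f p' * m.τ = m.f p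

namespace Md.Rl

variable {m : Md J} {p p' q q' : AG}

theorem symm (h : m.Rl p p') : m.Rl p' p := ⟨h.2.1, h.1, by
  rw [← h.2.2, ← mul_assoc, ← mul_assoc, m.ττ, one_mul, mul_assoc, m.ττ, mul_one]⟩

theorem mul (h : m.Rl p p') (h' : m.Rl q q') : m.Rl (p * q) (p' * q') :=
  ⟨mul_mem h.1 h'.1, mul_mem h.2.1 h'.2.1, by
    rw [m.f_mul h.1 h'.1, m.f_mul h.2.1 h'.2.1, ← h.2.2, ← h'.2.2]
    calc _ = m.τ * m.f p' * (m.τ * m.τ) * m.f q' * m.τ := by rw [m.ττ]; group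
      _ = _ := by group⟩

theorem inv (h : m.Rl p p') : m.Rl p⁻¹ p'⁻¹ := ⟨inv_mem h.1, inv_mem h.2.1, by
  rw [m.f_inv h.1, m.f_inv h.2.1, ← h.2.2, mul_inv_rev, mul_inv_rev,
    inv_eq_of_mul_eq_one_right m.ττ, mul_assoc]⟩

theorem one : m.Rl 1 1 := ⟨one_mem _, one_mem _, by rw [m.f_one, mul_one, m.ττ]⟩

theorem unique (h : m.Rl p p') (h' : m.Rl p q') : p' = q' :=
  m.f_inj h.2.1 h'.2.1 (mul_left_cancel (mul_right_cancel (h.2.2.trans h'.2.2.symm)))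

theorem comm (h : m.Rl p p') (h' : m.Rl q q') (e : Commute p q) : Commute p' q' :=
  (h.mul h').unique (e.eq ▸ h'.mul h)

theorem kt {k : AG} (hk : k ∈ KT) : m.Rl k k :=
  ⟨Ks_le_Ns (KT_le_Ks hk), Ks_le_Ns (KT_le_Ks hk), by
    rw [m.τ_comm hk, mul_assoc, m.ττ, mul_one]⟩

theorem vb {i : ℕ} (hi : i < 9) : m.Rl (tr (vb i)) (al i) := by
  obtain ⟨-, -, -, -, -, h1, h2⟩ := vb_data hi
  refine Rl.symm ⟨N1_le_Ns h1, tr_mem_Ns.2 h2, ?_⟩
  have := m.A.toAmal0.alpha_basis hi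
  change m.τ * m.f _ = m.f _ * m.τ at this
  rw [this, mul_assoc, m.ττ, mul_one]

theorem v0 : m.Rl (tr v0) a0 := by
  refine Rl.symm ⟨inS_ca0.ofC_mem, tr_mem_Ns.2 v0_mem, ?_⟩
  have := m.A.alpha
  change m.τ * m.f _ = m.f _ * m.τ at this
  rw [this, mul_assoc, m.ττ, mul_one]

theorem zs : m.Rl (tr zs) (tr zs) := by
  refine ⟨zN_mem, zN_mem, ?_⟩
  have h1 : m.f (tr SGJ4.zs) = m.S.z := OfS.ex_zN m.h
  have h2 : m.τ * m.S.z = m.S.z * m.τ := m.S.mem_H.1 m.tH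
  rw [h1, h2, mul_assoc, m.ττ, mul_one]

theorem chk9 : force (cA (alT (2 ^ 0))) (fun A => force (cA (alT (2 ^ 2))) fun B =>
    force (cA (alT (2 ^ 6))) fun C => all2 64 64 fun n => force (Nat.xor n (ap A n)) fun w =>
      bimp (Nat.beq (pn n) 0 && Nat.beq (ap B w) w && Nat.beq (ap C w) w)
        (Nat.beq (ap OfS.B9 (ap IX n)) n)) = true := by decide +kernel

/-- a translation that is conjugated into `N` by `τ` lies in `V9` -/
theorem mem9 {x : Vb} (h : m.Rl (tr x) p') : ∃ u, hom OfS.B9 u = x := by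
  have k : ∀ i < 9, (al i).m (x + (al 0).m x) = x + (al 0).m x := fun i hi => by
    have h0 := (vb (m := m) (i := 0) (by omega)).symm
    have h1 := (h.mul h0).mul h.inv
    rw [conj_tr, tr_conj] at h1
    have h2 := h1.symm.comm (vb hi) (tr_comm _ _)
    have h3 := h0.symm.comm (vb hi) (tr_comm _ _)
    have h4 : Commute (tr (x + (al 0).m x)) (al i) := by
      have := h2.mul_left h3.inv_left
      rwa [mul_inv_cancel_right] at this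
    have h5 := h4.eq
    rwa [mul_tr, mul_left_inj, tr_inj, eq_comm] at h5
  have e : ∀ i < 9, ∀ v : Vb, ((al i).m v).val = ap (cA (alT (2 ^ i))) v.val := fun i hi v => by
    obtain ⟨-, -, -, -, h1, -⟩ := vb_data hi
    rw [val_m, h1]
  have h1 := chk9
  simp only [force_eq, all2_iff, bimp_iff, Bool.and_eq_true, beq_iff] at h1
  have h2 : (x + (al 0).m x).val = Nat.xor x.val (ap (cA (alT (2 ^ 0))) x.val) := by
    rw [← e 0 (by omega)]; rfl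
  refine ⟨hom IX x, Vb.ext ?_⟩
  rw [val_hom, val_hom]
  refine h1 _ x.lt ⟨⟨mem_Ev'.1 (tr_mem_Ns.1 h.1), ?_⟩, ?_⟩
  · rw [← h2, ← e 2 (by omega), k 2 (by omega)]
  · rw [← h2, ← e 6 (by omega), k 6 (by omega)]

end Md.Rl

theorem Cf.cen9 (c : Cf J G) {u : G} (ht : Commute u c.t) (h : ∀ i < 9, Commute u (c.v (vb i))) :
    ∃ w ∈ Ev, ∃ o ∈ c.O, u = c.v w * o ∨ u = c.t * c.v w * o := by
  obtain ⟨a, o, ho, e⟩ := c.cen u ht
  obtain ⟨w, hw, rfl⟩ := OfS.cent_V9 c.m.h (y := a) fun i hi => by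
    have h1 : Commute (c.ι a) (c.v (vb i)) := by
      have h2 : Commute o (c.v (vb i)) := (c.Oc o ho _).symm
      rcases e with e | e
      · have := (h i hi).mul_left h2.inv_left
        rwa [e, mul_inv_cancel_right] at this
      · have := ((c.vt (vb i)).symm.inv_left).mul_left ((h i hi).mul_left h2.inv_left)
        rwa [e, mul_inv_cancel_right, inv_mul_cancel_left] at this
    exact c.inj (by rw [map_mul, map_mul]; exact h1.eq)
  exact ⟨w, hw, o, ho, e⟩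

namespace Fr

variable (c : Fr J G)

/-- the frame of the conjugate of `N` under `τ` -/
noncomputable def Y (a : AG) : G := c.ι c.m.τ * c.l a * c.ι c.m.τ

theorem σσ : c.ι c.m.τ * c.ι c.m.τ = 1 := by rw [← map_mul, c.m.ττ, map_one]

theorem σ_inv : (c.ι c.m.τ)⁻¹ = c.ι c.m.τ := inv_eq_of_mul_eq_one_right c.σσ

theorem Y_eq (a : AG) : c.Y a = c.ι c.m.τ * c.l a * (c.ι c.m.τ)⁻¹ := by rw [c.σ_inv, Y]

theorem Y_mul {a b : AG} (ha : a ∈ Ns) (hb : b ∈ Ns) : c.Y (a * b) = c.Y a * c.Y b := by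
  rw [Y_eq, Y_eq, Y_eq, c.l_mul ha hb, conj_mul]

theorem Y_one : c.Y 1 = 1 := by rw [Y_eq, c.l_one, mul_one, mul_inv_cancel]

theorem Y_inv {a : AG} (ha : a ∈ Ns) : c.Y a⁻¹ = (c.Y a)⁻¹ := by
  rw [Y_eq, Y_eq, c.l_inv ha, conj_inv]

theorem tYt (a : AG) : c.t * c.Y a * c.t = c.ι c.m.τ * c.l' a * (c.ι c.m.τ)⁻¹ := by
  have h := (c.tc c.m.τ).eq
  rw [← c.tlt, c.σ_inv, Y]
  calc _ = (c.t * c.ι c.m.τ) * c.l a * (c.ι c.m.τ * c.t) := by group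
    _ = (c.ι c.m.τ * c.t) * c.l a * (c.t * c.ι c.m.τ) := by rw [h]
    _ = _ := by group

theorem σθ {p p' : AG} (h : c.m.Rl p p') : c.ι c.m.τ * c.θ p' * (c.ι c.m.τ)⁻¹ = c.θ p := by
  rw [c.σ_inv, Cf.θ, Cf.θ, ← h.2.2, map_mul, map_mul]

theorem Y_diag {p p' : AG} (h : c.m.Rl p p') : c.Y p' * (c.t * c.Y p' * c.t) = c.θ p := by
  rw [tYt, Y_eq, conj_mul, ← c.σθ h, ← c.κ_diag h.2.1, κ]

theorem Y_comm (a b : AG) : Commute (c.Y a) (c.t * c.Y b * c.t) := by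
  rw [tYt, Y_eq, Commute, SemiconjBy, conj_mul, conj_mul, (c.ll' a b).eq]

theorem Y_O (a : AG) {o : G} (h : o ∈ c.O) : Commute (c.Y a) o :=
  ((c.Oc o h _).mul_left (c.κ_left a ▸ c.κ_O a 1 h)).mul_left (c.Oc o h _)

theorem θ_Y {p p' a : AG} (h : c.m.Rl p p') (ha : a ∈ Ns) :
    c.θ p * c.Y a * (c.θ p)⁻¹ = c.Y (p' * a * p'⁻¹) := by
  rw [← c.σθ h, Y_eq, Y_eq, ← c.θ_l h.2.1 ha]; group

theorem Y_t {p p' : AG} (h : c.m.Rl p p') (h2 : p * p = 1) :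
    c.Y p' * c.t * (c.Y p')⁻¹ = c.θ p * c.t := by
  have h3 : p' * p' = 1 := (h.mul h).unique (by rw [h2]; exact Md.Rl.one)
  have h4 : (c.ι c.m.τ)⁻¹ * c.t * c.ι c.m.τ = c.t := by
    rw [mul_assoc, ← (c.tc c.m.τ).eq, inv_mul_cancel_left]
  rw [← c.σθ h, Y_eq]
  calc _ = c.ι c.m.τ * (c.l p' * ((c.ι c.m.τ)⁻¹ * c.t * c.ι c.m.τ) * (c.l p')⁻¹) *
        (c.ι c.m.τ)⁻¹ := by group
    _ = c.ι c.m.τ * c.θ p' * ((c.ι c.m.τ)⁻¹ * c.t * c.ι c.m.τ) * (c.ι c.m.τ)⁻¹ := by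
      rw [h4, c.l_t h.2.1 h3, mul_assoc _ (c.θ p')]
    _ = _ := by group

end Fr

end Cfsg.Agent.WJ
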