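import Cfsg.Agent.WJ.MJ

set_option autoImplicit false

namespace Cfsg.Agent.WJ

open Cfsg.Agent.SGJ4 Cfsg.Agent.J4P Cfsg.Agent.H14 AG Subgroup
open Cfsg.Agent.H42 (SylIn cj)
open scoped Pointwise

variable {J : Type*} [Group J] (m : Md J)

/-- the element that defines the fourth frame -/
def cn0 : ℕ := nat_lit 0xc0f7b43dab1d9b30021ede3a100040ecc001c754a14469d749198078e750c2c22ba37

theorem inS_cn0 : InS Ns cn0 := inS_Ns (by decide +kernel)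

namespace MH

/-- `g` lies in `H` and acts on the points as `P` -/
def HP (g : J) (P : ℕ) : Prop := g ∈ m.S.H ∧ GE.pk (m.S.pi g).p = P

variable {m} {g h : J} {P Q : ℕ}

theorem HP.mul (h1 : HP m g P) (h2 : HP m h Q) : HP m (g * h) (pmul P Q) :=
  ⟨mul_mem h1.1 h2.1, by rw [Setup1.pi_mul h1.1 h2.1, mul_p, GE.pk_mul, h1.2, h2.2]⟩

theorem HP.inv (h1 : HP m g P) : HP m g⁻¹ (pinv P) :=
  ⟨inv_mem h1.1, by rw [Setup1.pi_inv h1.1, inv_p, GE.pk_inv, h1.2]⟩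

theorem HP.mem (h1 : HP m g P) (e : pimg P 13062145 = 13062145) : ∃ a ∈ Ns, g = m.f a := by
  obtain ⟨n, hn⟩ := exists_gam_of_Yb (b := m.S.pi g) ⟨Setup1.pi_mem g, show (m.S.pi g).p • hex0 = hex0 by
    rw [hex0, H14.smul_bits, h1.2]; exact congrArg _ e⟩
  have h2 : n ∈ N1 := gam_fst hn
  have h3 := N1_le_Ns h2
  have k : ∀ a ∈ Ns, g = m.S.th a → ∃ a ∈ Ns, g = m.f a := fun a ha e =>
    ⟨sig a, sig_mem_Ns.2 ha, by rw [Md.f, m.h _ (sig_mem_Ns.2 ha), sig_sig, e]⟩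
  rcases (Setup1.pi_eq_iff h1.1 ((Setup.th_mem_H h3).2 h2)).1 (Setup.pi_th h3 hn).symm with e | e
  · exact k n h3 e
  · exact k _ (mul_mem h3 zN_mem) (by rw [Setup.th_mul h3 zN_mem, Setup.th_zN, e])

variable (m)

theorem hτ : HP m m.τ (cP cbt) := ⟨m.tH, by rw [Md.τ, m.tpi, ← cP_cd, OfS.cd_bt0]⟩

theorem hw (w : List ℕ) : ∃ a ∈ Ns, cd a = OfS.csig (cw gN w) ∧ HP m (m.f a) (cP (cw gH w)) :=
  let ⟨a, h1, h2, h3⟩ := OfS.gw m.h w
  ⟨a, N1_le_Ns h1, h2, (OfS.ex_mem_H m.h (N1_le_Ns h1)).2 h1, by rw [← h3, cP_cd]; rfl⟩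

theorem hw' (w : List ℕ) {a : AG} (e : OfS.csig (cw gN w) = cd a) : HP m (m.f a) (cP (cw gH w)) := by
  obtain ⟨b, -, h2, h3⟩ := hw m w
  rwa [cd_inj.1 (h2.trans e)] at h3

theorem adj (h1 : HP m g P) (w : List ℕ)
    (e : pimg (pmul (pmul (cP cbt) (pinv (cP (cw gH w)))) P) 13062145 = 13062145) :
    ∃ a ∈ Ns, ∃ b ∈ Ns, g = m.f a * m.τ * m.f b := by
  obtain ⟨a, ha, -, h3⟩ := hw m w
  obtain ⟨b, hb, h4⟩ := (((hτ m).mul h3.inv).mul h1).mem e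
  refine ⟨a, ha, b, hb, ?_⟩
  rw [← h4, ← mul_assoc, ← mul_assoc, mul_assoc _ m.τ m.τ, show m.τ * m.τ = 1 from m.A.t_sq, mul_one,
    mul_inv_cancel, one_mul]

theorem hn : HP m (m.f (ofC cn0)) (cP (cw gH [21, 19, 20, 18, 9, 19])) :=
  hw' m _ (by rw [inS_cn0.cd_ofC]; decide +kernel)

/-- words for the three translations -/
def wx (x : ℕ) : List ℕ := if x = 3 then [5, 6, 7, 9, 10] else if x = 343 then [4, 5, 7, 8, 9, 10] else [2, 5, 8, 10]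

def wa (x y : ℕ) : List ℕ := if x + y = 346 then [8] else if x + y = 438 then [9, 8] else [9]

theorem hx {x : Vb} (h : x.val ∈ [3, 343, 435]) : HP m (m.f (tr x)) (cP (cw gH (wx x.val))) :=
  hw' m _ (by rw [cd_tr]; revert h; generalize x.val = n; revert n; decide +kernel)

def cq2 : ℕ := nat_lit 0x49f4007b41000100400200809b3004e3ab1d0d93484a332396a6b2a74180f18ae5
def cq3 : ℕ := nat_lit 0x8e3a7b4ecc0040029b3c75800080040b667ad2673480bce45b0ea20d191520f0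
def cq4 : ℕ := nat_lit 0x12c0200043da9b3d4b01080004049f4001edc758b904142f20d8e030cb56ad3454dec

end MH

open MH

theorem Md.fix4 : ∃ a ∈ Ns, m.τ * (m.f (ofC cn0))⁻¹ * m.τ * m.f (ofC cn0) * m.τ = m.f a :=
  (((((hτ m).mul (hn m).inv).mul (hτ m)).mul (hn m)).mul (hτ m)).mem (by decide +kernel)

theorem Md.adj4 : ∃ a ∈ Ns, ∃ b ∈ Ns,
    (m.f (ofC cn0) * m.τ)⁻¹ * (m.f (tr (Vb.of 343)) * m.τ) = m.f a * m.τ * m.f b :=
  adj m (((hn m).mul (hτ m)).inv.mul ((hx m (x := Vb.of 343) (by decide +kernel)).mul (hτ m))) [19, 20, 18, 19]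
    (by decide +kernel)

/-- `τ` fixes the cosets of `x τ` for the three classes of `x` modulo `V9` -/
theorem Md.fix3 {x : Vb} (hx : x.val ∈ [3, 343, 435]) :
    ∃ a ∈ Ns, m.τ * m.f (tr x) * m.τ * m.f (tr x) * m.τ = m.f a :=
  (((((hτ m).mul (MH.hx m hx)).mul (hτ m)).mul (MH.hx m hx)).mul (hτ m)).mem
    (by revert hx; generalize x.val = n; revert n; decide +kernel)

theorem Md.adj3 {x y : Vb} (hx : x.val ∈ [3, 343, 435]) (hy : y.val ∈ [3, 343, 435]) (h : x ≠ y) :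
    ∃ a ∈ Ns, ∃ b ∈ Ns, (m.f (tr x) * m.τ)⁻¹ * (m.f (tr y) * m.τ) = m.f a * m.τ * m.f b :=
  adj m (((MH.hx m hx).mul (hτ m)).inv.mul ((MH.hx m hy).mul (hτ m))) (wa x.val y.val) (by
    have h1 : x.val ≠ y.val := fun e => h (Vb.ext e)
    revert h1 hy; generalize y.val = k; revert k hx; generalize x.val = n; revert n; decide +kernel)

/-- the elements of `V9 : KT` are conjugated into `N` by `τ` -/
theorem Md.alpha {a : AG} (ha : a ∈ Ns) (h : okD (cd a) = true) :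
    ∃ b ∈ Ns, m.τ * m.f b * m.τ = m.f a := by
  obtain ⟨⟨b, hb, e⟩, h2⟩ := alpha_ok N1_le_Ns le_rfl (fun a h _ => m.A.comm a h) (fun _ => m.A.alpha_basis)
    (inS_cd.2 ha) h
  rw [← e, ph_cd, ph_cd] at h2
  exact ⟨b, hb, by rw [Md.τ, Md.f, Md.f, mul_assoc, ← h2, ← mul_assoc, m.A.t_sq, one_mul]⟩

/-- a subgroup that contains the involutions of the four edge groups -/
theorem Ns_le_of_inv {C : Subgroup AG}
    (h3 : ∀ x : Vb, x.val ∈ [3, 343, 435] → ∀ p ∈ Ns, p * p = 1 →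
      okD (cd (tr x * p * tr x)) = true → p ∈ C)
    (h4 : ∀ p ∈ Ns, p * p = 1 → okD (cd ((ofC cn0)⁻¹ * p * ofC cn0)) = true → p ∈ C) :
    Ns ≤ C := by
  have k3 : ∀ x c : ℕ, (x = 3 ∨ x = 435) → (inNs c && Nat.beq (cmul c c) cone &&
      okD (cmul (cmul (ctr x) c) (ctr x))) = true → InS (C ⊓ Ns) c := fun x c hx e => by
    simp only [Bool.and_eq_true, beq_iff] at e
    obtain ⟨p, hp, rfl⟩ := inS_Ns e.1.1
    have hv : (Vb.of x).val = x := Vb.val_of_lt (by omega)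
    exact ⟨p, ⟨h3 (Vb.of x) (by rw [hv]; rcases hx with rfl | rfl <;> simp) p hp
      (cd_inj.1 (by rw [cd_mul, cd_one, e.1.2])) (by rw [cd_mul, cd_mul, cd_tr, hv, e.2]), hp⟩, rfl⟩
  have k4 : InS (C ⊓ Ns) cq4 := by
    obtain ⟨p, hp, e⟩ : InS Ns cq4 := inS_Ns (by decide +kernel)
    exact ⟨p, ⟨h4 p hp (cd_inj.1 (by rw [cd_mul, cd_one, e]; decide +kernel)) (by
      rw [cd_mul, cd_mul, cd_inv inS_cn0.ofC_mem.1, inS_cn0.cd_ofC, e]; decide +kernel), hp⟩, e⟩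
  have k1 := k3 3 ckx (.inl rfl) (by decide +kernel)
  have hK : Ks ≤ (C ⊓ Ns).map lin := by
    rw [Ks_eq, closure_le]
    rintro _ (rfl | rfl)
    · exact ⟨kx, k1.ofC_mem, lin_eq_self.2 (KT_le_Ks inS_ckx.ofC_mem).2⟩
    · obtain ⟨a, ha, e⟩ := inS_cw (L := [ckx, cq2, cq3, cq4]) (S := C ⊓ Ns) (by
        simp only [List.forall_mem_cons]
        exact ⟨k1, k3 3 _ (.inl rfl) (by decide +kernel), k3 435 _ (.inr rfl) (by decide +kernel), k4, by simp⟩)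
        [0, 1, 2, 1, 3, 2, 0, 1, 2, 0, 1, 0, 1, 2, 0, 1, 2]
      exact ⟨a, ha, cd_inj.1 (by rw [cd_lin, e, ky, inS_cky.cd_ofC]; decide +kernel)⟩
  have hV : Vs ≤ C := Gens.Vs_le (fun a ha v hv => by
      obtain ⟨c, hc, rfl⟩ := hK ha
      rw [lin_m, ← conj_tr]
      exact mul_mem (mul_mem hc.1 hv) (inv_mem hc.1)) zs_mem (by decide +kernel) (by
    obtain ⟨p, hp, e⟩ := k3 3 (ctr 834) (.inl rfl) (by decide +kernel)
    exact (cd_inj.1 (e.trans (cd_tr zs).symm)) ▸ hp.1)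
  intro a ha
  obtain ⟨c, hc, e⟩ := hK (lin_mem_Ks ha.1)
  rw [← tr_mul_lin a, ← e, eq_inv_mul_of_mul_eq (tr_mul_lin c)]
  exact mul_mem (hV ⟨_, ha.2, rfl⟩) (mul_mem (inv_mem (hV ⟨_, hc.2.2, rfl⟩)) hc.1)

end Cfsg.Agent.WJ
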