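import Cfsg.Agent.WJ.BaseF
import Cfsg.Agent.WJ.MH
import Cfsg.Agent.WJ.CompatX

set_option autoImplicit false

namespace Cfsg.Agent.WJ

open Cfsg.Agent.SGJ4 Cfsg.Agent.J4P Cfsg.Agent.H14 AG Subgroup
open Cfsg.Agent.H42 (SylIn cj)

variable {J G : Type*} [Group J] [Group G] [Finite J] [Finite G]

namespace Cp1

def cy1 : ℕ := nat_lit 0x8007b4ecc4009b3040c753da1edb66100b1dba4d6248083968a5cdaf8542c1b851
def cy2 : ℕ := nat_lit 0xd4b400e3aecc9b31008003dab1d49f0021ed15966252e8505a74beb384a2c281c3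

theorem inS_cy1 : InS KT cy1 := inS_KT (by decide +kernel)
theorem inS_cy2 : InS KT cy2 := inS_KT (by decide +kernel)

theorem fix_v0 {v : Vb} (hv : v ∈ Ev) (h : ∀ q ∈ KT, q.m v0 = v0 → q.m v = v) :
    v = 0 ∨ v = v0 := by
  have k : all2 64 64 (fun n => bimp (Nat.beq (pn n) 0 && Nat.beq (ap (cA cy1) n) n &&
      Nat.beq (ap (cA cy2) n) n) (Nat.beq n 0 || Nat.beq n 153)) = true := by
    decide +kernel
  have h1 := h _ inS_cy1.ofC_mem (Vb.ext (by rw [val_m, inS_cy1.cd_ofC]; decide +kernel))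
  have h2 := h _ inS_cy2.ofC_mem (Vb.ext (by rw [val_m, inS_cy2.cd_ofC]; decide +kernel))
  rw [← Vb.val_inj, val_m] at h1 h2
  rw [inS_cy1.cd_ofC] at h1
  rw [inS_cy2.cd_ofC] at h2
  have h3 := bimp_iff.1 (all2_iff.1 k _ v.lt) (by
    simp only [Bool.and_eq_true, beq_iff]
    exact ⟨⟨mem_Ev'.1 hv, h1⟩, h2⟩)
  simp only [Bool.or_eq_true, beq_iff] at h3
  exact h3.imp (fun h => Vb.ext h) fun h => Vb.ext h

omit [Finite J] [Finite G]

theorem spread (c : Fr J G) (g : Vb → G) (h0 : g 0 = 1)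
    (hadd : ∀ x ∈ Ev, ∀ y ∈ Ev, g (x + y) = g x * g y)
    (heqv : ∀ k ∈ Ns, ∀ x ∈ Ev, c.θ k * g x * (c.θ k)⁻¹ = g (k.m x)) (h1 : c.Y a0 = g v0)
    {x : Vb} {p' : AG} (h : c.m.Rl (tr x) p') : c.Y p' = g x := by
  obtain ⟨u, rfl⟩ := h.mem9
  obtain ⟨a, h2, h3⟩ := OfS.V9_ind (P := fun x => ∃ a, c.m.Rl (tr x) a ∧ c.Y a = g x)
    ⟨1, by rw [tr_zero]; exact Md.Rl.one, by rw [c.Y_one, h0]⟩ (fun i hi => ⟨al i, Md.Rl.vb hi, by
      obtain ⟨k, hk, e1, e2, -⟩ := vb_data hi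
      rw [← e1, ← e2, ← c.θ_Y (Md.Rl.kt hk) (show a0 ∈ Ns from inS_ca0.ofC_mem),
        ← heqv k (Ks_le_Ns (KT_le_Ks hk)) _ v0_mem, ← h1]⟩) (fun x y ⟨a, a1, a2⟩ ⟨b, b1, b2⟩ => ⟨a * b, by rw [tr_add]; exact a1.mul b1, by
      rw [c.Y_mul a1.2.1 b1.2.1, a2, b2, hadd x (tr_mem_Ns.1 a1.1) y (tr_mem_Ns.1 b1.1)]⟩) u
  rw [h.unique h2, h3]

theorem base (c : Fr J G) : c.Y a0 = c.s v0 ∨ c.Y a0 = c.t * c.s v0 * c.t := by
  have h0 := Md.Rl.v0 (m := c.m)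
  have hs := c.sec.mem _ v0_mem
  have h3 : a0 * a0 = 1 := (h0.mul h0).unique (by rw [tr_mul_self]; exact Md.Rl.one)
  have h4 : c.Y a0 * c.Y a0 = 1 := by rw [← c.Y_mul h0.2.1 h0.2.1, h3, c.Y_one]
  have h1 : c.Ph (c.Y a0) v0 := (c.Y_t h0 (tr_mul_self _)).trans (c.vt v0).eq
  have ht := Cf.Ph.comm _ (c.sec.φ _ v0_mem) h1
  obtain ⟨w, hw, o, ho, e⟩ := c.cen9 ht fun i hi => by
    have h5 := Md.Rl.vb (m := c.m) hi
    refine (c.R_comm hs (c.s1.vR _ (tr_mem_Ns.1 h5.1))).inv_left.mul_left ?_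
    rw [Cf.v, ← c.Y_diag h5]
    refine Commute.mul_right ?_ (c.Y_comm _ _)
    rw [Commute, SemiconjBy, ← c.Y_mul h0.2.1 h5.2.1, ← c.Y_mul h5.2.1 h0.2.1,
      (h0.comm h5 (tr_comm _ _)).eq]
  have hv := c.s1.vR w hw
  have hodd : o ^ 2 ^ 2 = 1 → o = 1 := fun h11 => by
    rw [← orderOf_eq_one_iff]
    exact Nat.eq_one_of_dvd_coprimes ((Nat.coprime_two_right.2 (c.Oodd o ho)).pow_right 2) dvd_rfl
      (orderOf_dvd_of_pow_eq_one h11)
  rw [inv_mul_eq_iff_eq_mul, inv_mul_eq_iff_eq_mul] at e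
  rcases e with e | e
  · have h5 : o = 1 := hodd (by
      have h6 := mul_mem hs hv
      rw [e, ← mul_assoc (c.s v0) (c.v w) o, (c.s1.cO _ h6 o ho).symm.mul_mul_mul_comm,
        c.s1.sq _ h6, one_mul] at h4
      calc _ = o * o * (o * o) := by rw [show 2 ^ 2 = 2 + 2 from rfl, pow_add, pow_two]
        _ = 1 := by rw [h4, one_mul])
    rw [h5, mul_one] at e
    rcases fix_v0 hw fun q hq hq1 => by
      have hq' := Ks_le_Ns (KT_le_Ks hq)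
      have h6 := ((Md.Rl.kt (m := c.m) hq).mul h0).mul (Md.Rl.kt hq).inv
      rw [conj_tr, hq1] at h6
      have h7 := c.θ_Y (Md.Rl.kt hq) h0.2.1
      rw [h6.unique h0, e, ← conj_mul, c.sec.eqv q hq' _ v0_mem, hq1, c.conj_v hq' hw,
        mul_right_inj] at h7
      exact c.v_inj ((m_mem_Ev hq'.1).2 hw) hw h7 with rfl | rfl
    · left; rw [e, c.v_zero, mul_one]
    · right; rw [e, c.tst v0_mem]
  · exfalso
    have h5 : Commute (c.s v0 * c.t) (c.v w * o) :=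
      ((c.R_comm hs hv).mul_left (c.vt w).symm).mul_right
        ((c.s1.cO _ hs o ho).mul_left (c.Ot o ho).symm)
    have h6 : c.v v0 * (o * o) = 1 := by
      rw [e, mul_assoc c.t, ← mul_assoc (c.s v0) c.t, h5.symm.mul_mul_mul_comm,
        (c.s1.cO _ hv o ho).symm.mul_mul_mul_comm, c.v_sq hw, one_mul, mul_assoc (c.s v0),
        ← mul_assoc c.t, c.tst v0_mem, ← mul_assoc (c.s v0) (c.s v0), c.s1.sq _ hs, one_mul] at h4
      exact h4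
    have h7 : o = 1 := hodd (by
      have h8 := c.v_sq v0_mem
      rw [eq_inv_of_mul_eq_one_left h6, ← mul_inv_rev, inv_eq_one] at h8
      rw [← h8, show 2 ^ 2 = 2 + 2 from rfl, pow_add, pow_two])
    rw [h7, mul_one, mul_one, ← c.v_zero] at h6
    exact absurd (congrArg Vb.val (c.v_inj v0_mem Ev.zero_mem h6)) (by decide +kernel)

end Cp1

theorem Fr.compat1 (c : Fr J G) : ∀ x ∈ Ev, ∀ p' ∈ Ns,
    c.m.τ * c.m.f p' * c.m.τ = c.m.f (tr x) → c.ι c.m.τ * c.l p' * c.ι c.m.τ = c.s x := by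
  intro x hx p' hp' e
  rcases Cp1.base c with h | h
  · exact Cp1.spread c c.s c.s_zero c.sec.add c.sec.eqv h ⟨tr_mem_Ns.2 hx, hp', e⟩
  exfalso
  have ht : ∀ g : G, c.t * g * c.t = c.t * g * c.t⁻¹ := fun g => by rw [c.t_inv]
  have h1 := Cp1.spread c (fun x => c.t * c.s x * c.t) (by rw [c.s_zero, mul_one, c.tt])
    (fun x hx y hy => by rw [c.sec.add x hx y hy, ht, ht, ht, conj_mul])
    (fun k hk x hx => by
      rw [← c.sec.eqv k hk x hx]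
      calc _ = (c.θ k * c.t) * c.s x * (c.θ k * c.t)⁻¹ := by rw [ht]; group
        _ = _ := by rw [(c.θt k).eq, ht]; group) h Md.Rl.zs
  have hr : r1 ∈ KS := inS_cr1.ofC_mem
  have hr' := Ks_le_Ns (KS_le_Ks hr)
  have h2 := c.sec.eqv r1 hr' _ zs_mem
  rw [(mem_KS.1 hr).2] at h2
  have h3 : (c.ι c.m.τ * c.θ r1) ^ 3 = 1 := by
    rw [Cf.θ, ← map_mul, ← map_pow]
    exact (congrArg c.ι c.m.A.tri).trans (map_one _)
  rw [Fr.Y_eq, c.l_tr zs_mem] at h1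
  have h4 : c.ι c.m.τ * c.θ r1 * c.s zs * (c.ι c.m.τ * c.θ r1)⁻¹ = c.t * c.s zs * c.t⁻¹ := by
    rw [← ht, ← h1, ← h2]; rw [h2]; nth_rw 2 [← h2]; group
  have h5 : Commute (c.ι c.m.τ * c.θ r1) c.t := (c.tc _).mul_left (c.θt _)
  generalize c.ι c.m.τ * c.θ r1 = g at h3 h4 h5
  have h6 : g * (c.t * c.s zs * c.t⁻¹) * g⁻¹ = c.s zs := by
    calc _ = (g * c.t) * c.s zs * (g * c.t)⁻¹ := by group
      _ = c.t * (g * c.s zs * g⁻¹) * c.t⁻¹ := by rw [h5.eq]; group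
      _ = (c.t * c.t) * c.s zs * (c.t * c.t)⁻¹ := by rw [h4]; group
      _ = _ := by rw [c.tt]; group
  have h7 : c.s zs = c.t * c.s zs * c.t⁻¹ := by
    calc _ = g ^ 3 * c.s zs * (g ^ 3)⁻¹ := by rw [h3]; group
      _ = g * (g * (g * c.s zs * g⁻¹) * g⁻¹) * g⁻¹ := by rw [pow_three]; group
      _ = _ := by rw [h4, h6, h4]
  rw [← ht, c.tst zs_mem, left_eq_mul, ← c.v_zero] at h7
  exact absurd (congrArg Vb.val (c.v_inj zs_mem Ev.zero_mem h7)) (by decide +kernel)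

end Cfsg.Agent.WJ
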