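import Cfsg.Agent.WJ.Defs
import Cfsg.Agent.H97.M24Cls
import Cfsg.Agent.H56.OctStab

set_option autoImplicit false

namespace Cfsg.Agent.WJ

open Cfsg.Agent.SGJ4 Cfsg.Agent.J4P Cfsg.Agent.H14 AG Subgroup
open Cfsg.Agent.H42 (SylIn cj)
open scoped Pointwise

theorem ee_zero : ee 0 = 1 := cd_inj.1 (by rw [cd_ee, cd_one]; decide +kernel)

theorem ee_mul {i j : ℕ} (hi : i < 16) (hj : j < 16) : ee i * ee j = ee (i ^^^ j) := by
  have h : allN 16 (fun i => allN 16 fun j =>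
      Nat.beq (cmul (nthD eL cone i) (nthD eL cone j)) (nthD eL cone (i ^^^ j))) = true := by decide +kernel
  rw [← cd_inj, cd_mul, cd_ee, cd_ee, cd_ee]
  exact beq_iff.1 (allN_iff.1 (allN_iff.1 h i hi) j hj)

theorem ee_inj {i j : ℕ} (hi : i < 16) (hj : j < 16) (h : ee i = ee j) : i = j := by
  have k : allN 16 (fun i => allN 16 fun j =>
      bimp (Nat.beq (nthD eL cone i) (nthD eL cone j)) (Nat.beq i j)) = true := by decide +kernel
  exact beq_iff.1 (bimp_iff.1 (allN_iff.1 (allN_iff.1 k i hi) j hj) (beq_iff.2 (by rw [← cd_ee, h, cd_ee])))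

theorem ee_ge {i : ℕ} (hi : 16 ≤ i) : ee i = 1 :=
  cd_inj.1 (by rw [cd_ee, cd_one, OfS.nthD_ge (show eL.length ≤ i from hi)])

theorem ee_fix (i : ℕ) : (ee i).m ts = ts ∧ (ee i).m zs = zs := by
  by_cases hi : i < 16
  · have k : allN 16 (fun i => Nat.beq (ap (cA (nthD eL cone i)) ts.val) ts.val &&
        Nat.beq (ap (cA (nthD eL cone i)) zs.val) zs.val) = true := by decide +kernel
    have := allN_iff.1 k i hi
    rw [Bool.and_eq_true, beq_iff, beq_iff] at this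
    rw [← Vb.val_inj, ← Vb.val_inj, val_m, val_m, cd_ee]
    exact this
  · rw [ee_ge (not_lt.1 hi)]; exact ⟨rfl, rfl⟩

namespace MOct

noncomputable def fxN (c : ℕ) : ℕ := force (cA c) fun A => cnt2 64 64 fun n => Nat.beq (pn n) 0 && Nat.beq (ap A n) n

theorem ncard_fx (a : AG) : (Fx {a}).ncard = fxN (cd a) := by
  rw [fxN, force_eq]
  exact Vb.ncard_eq _ _ fun v => by
    rw [Bool.and_eq_true, beq_iff, beq_iff, ← val_m, Vb.val_inj, mem_Ev']; simp

theorem oct : bits oc3 ∈ octads := bits_mem_octads (by decide +kernel) (by decide +kernel)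

theorem eq_of_p {a b : AG} (ha : a ∈ Ks) (hb : b ∈ Ks) (h : a.p = b.p) : a = b :=
  (lin_eq_self.2 ha.2).symm.trans ((lin_eq_of_p ha.1 hb.1 h).trans (lin_eq_self.2 hb.2))

theorem ee_p (i : ℕ) (x : GolayPt) : (ee i).p x = pt (papp (cP (nthD eL cone i)) (idx x)) := by
  rw [← cd_ee, ← p_pt _ (idx_lt x), pt_idx]

theorem ee_pt (i : ℕ) {x : GolayPt} (hx : x ∈ bits oc3) : (ee i).p x = x := by
  by_cases hi : i < 16
  · have k : allN 16 (fun i => allN 24 fun n => bimp (tb oc3 n)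
        (Nat.beq (papp (cP (nthD eL cone i)) n) n)) = true := by decide +kernel
    rw [ee_p, beq_iff.1 (bimp_iff.1 (allN_iff.1 (allN_iff.1 k i hi) _ (idx_lt x))
      (by rw [tb_eq]; exact mem_bits.1 hx)), pt_idx]
  · rw [ee_ge (not_lt.1 hi)]; rfl

theorem ee_trans {x y : GolayPt} (hx : x ∉ bits oc3) (hy : y ∉ bits oc3) : ∃ i < 16, (ee i).p x = y := by
  have k : allN 24 (fun n => allN 24 fun m => tb oc3 n || (tb oc3 m ||
      anyN 16 fun i => Nat.beq (papp (cP (nthD eL cone i)) n) m)) = true := by decide +kernel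
  have := allN_iff.1 (allN_iff.1 k _ (idx_lt x)) _ (idx_lt y)
  simp only [Bool.or_eq_true, tb_eq, ← mem_bits, hx, hy, false_or, anyN_iff, beq_iff] at this
  obtain ⟨i, hi, e⟩ := this
  exact ⟨i, hi, by rw [ee_p, e, pt_idx]⟩

theorem mem_of_e0 {x : GolayPt} (h : e0.p x = x) : x ∈ bits oc3 := by
  have k : allN 24 (fun n => bimp (Nat.beq (idx (pt (papp (cP (nthD eL cone 1)) n))) n) (tb oc3 n)) = true := by
    decide +kernel
  have := bimp_iff.1 (allN_iff.1 k _ (idx_lt x)) (beq_iff.2 (by rw [← ee_p]; exact congrArg idx h))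
  rwa [tb_eq, ← mem_bits] at this

theorem sto_of_comm {b : AG} (h : b * e0 = e0 * b) : StO b := fun x hx => mem_of_e0 (by
  have := congrArg (fun a : AG => a.p x) h
  simp only [mul_p, Equiv.Perm.mul_apply] at this
  rw [← this, e0, ee_pt 1 hx])

theorem StO.inv {a : AG} (h : StO a) : StO a⁻¹ := fun _ hx => Equiv.Perm.perm_symm_on_of_perm_on_finset h hx

theorem StO.not_mem {a : AG} (h : StO a) {x : GolayPt} (hx : x ∉ bits oc3) : a.p x ∉ bits oc3 := fun e =>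
  hx (by simpa [inv_p] using StO.inv h _ e)

theorem fx_conj {k : AG} (hk : k ∈ Ks) {s t : Set AG} (h : ∀ a ∈ t, k * a * k⁻¹ ∈ s) :
    (Fx s).ncard ≤ (Fx t).ncard :=
  Set.ncard_le_ncard_of_injOn k⁻¹.m (fun v hv => ⟨(m_mem_Ev (Ks.inv_mem hk).1).2 hv.1, fun a ha => by
    have := congrArg k⁻¹.m (hv.2 _ (h a ha))
    rwa [mul_m, mul_m, inv_m_m] at this⟩) k⁻¹.m.injective.injOn

theorem conj_of_p {a r : AG} (ha : a ∈ Ks) (hr : r ∈ Ks) {g : Equiv.Perm GolayPt} (hg : g ∈ M24)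
    (h : g * GE.perm (cP (cd r)) * g⁻¹ = a.p) : ∃ k ∈ Ks, k * r * k⁻¹ = a :=
  have hk := kof_mem ⟨g, hg⟩
  ⟨_, hk, eq_of_p (mul_mem (mul_mem hk hr) (inv_mem hk)) ha (by
    rw [mul_p, mul_p, inv_p, kof_p, ← h, cP_cd, GE.perm_pk])⟩

def cA2 : ℕ := nat_lit 0x800e3a0400020102000200803da004100001bae4d8563343a8cb28cf3a4a410c01
def cB2 : ℕ := nat_lit 0xc750200800402001004006e3e3a0020047b404672ad2c35b5c97a18a31c8580457
def cK : ℕ := nat_lit 0x9b33da0027b4100e3a004200eccb1d040d4b221a9a2dd532a421841684caf3c6ec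

/-- the two classes of involutions -/
theorem cls {a : AG} (ha : a ∈ Ks) (h2 : a * a = 1) (h1 : a ≠ 1) :
    (∃ k ∈ Ks, k * e0 * k⁻¹ = a) ∨ (Fx {a}).ncard ≤ 64 := by
  have hA : InS Ks cA2 := inS_Ks (by decide +kernel)
  have hB : InS Ks cB2 := inS_Ks (by decide +kernel)
  have hK : InS Ks cK := inS_Ks (by decide +kernel)
  have ho : orderOf a.p = 2 := orderOf_eq_prime (by rw [pow_two, ← mul_p, h2, one_p])
    fun e => h1 (eq_of_p ha Ks.one_mem e)
  rcases H97.m24_order2 ha.1.1 ho with ⟨⟨g, hg, e⟩, -⟩ | ⟨⟨g, hg, e⟩, -⟩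
  · obtain ⟨k, hk, rfl⟩ := conj_of_p ha hA.ofC_mem hg (by rw [hA.cd_ofC]; exact e)
    have : ofC cK * e0 = ofC cA2 * ofC cK := cd_inj.1 (by
      rw [cd_mul, cd_mul, e0, cd_ee, hA.cd_ofC, hK.cd_ofC]; decide +kernel)
    exact .inl ⟨k * ofC cK, mul_mem hk hK.ofC_mem, by rw [mul_assoc k, this]; group⟩
  · obtain ⟨k, hk, rfl⟩ := conj_of_p ha hB.ofC_mem hg (by rw [hB.cd_ofC]; exact e)
    refine .inr ((fx_conj hk (t := {ofC cB2}) (by rintro _ rfl; rfl)).trans ?_)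
    rw [ncard_fx, hB.cd_ofC]; decide +kernel

end MOct

open MOct

theorem ncard_fx_ee {i : ℕ} (hi : i < 16) (h : i ≠ 0) : (Fx {ee i}).ncard = 128 := by
  have k : allN 16 (fun i => Nat.beq i 0 || Nat.beq (fxN (nthD eL cone i)) 128) = true := by decide +kernel
  have := allN_iff.1 k i hi
  rw [Bool.or_eq_true, beq_iff, beq_iff] at this
  rw [ncard_fx, cd_ee, this.resolve_left h]

theorem ncard_fx_E : (Fx (Set.range ee)).ncard = 64 :=
  (Vb.ncard_eq _ (fun n => Nat.beq (pn n) 0 && allN 16 fun i => Nat.beq (ap (cA (nthD eL cone i)) n) n) fun v => by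
    simp only [Bool.and_eq_true, beq_iff, allN_iff, ← cd_ee, ← val_m, Vb.val_inj, mem_Ev', Set.forall_mem_range]
    refine and_congr_right fun _ => ⟨fun h i => ?_, fun h i _ => h i⟩
    by_cases hi : i < 16
    · exact h i hi
    · rw [ee_ge (not_lt.1 hi)]; rfl).trans (by decide +kernel)

/-- an element of the complement that fixes the octad pointwise -/
theorem exists_ee_of_fix {a : AG} (ha : a ∈ Ks) (h : ∀ x ∈ bits oc3, a.p x = x) :
    ∃ i < 16, a = ee i := by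
  have h4 : pt 4 ∉ bits oc3 := by decide +kernel
  obtain ⟨i, hi, e⟩ := ee_trans h4 (StO.not_mem (fun x hx => (h x hx).symm ▸ hx) h4)
  refine ⟨i, hi, eq_of_p ha (ee_mem i) (inv_mul_eq_one.1 (mem_bot.1 ((H56.octK_inf oct h4).le ⟨?_, ?_⟩))).symm⟩
  · exact (H56.octK _).mul_mem ((H56.octK _).inv_mem (H56.mem_octK.2 ⟨(ee_mem i).1.1, fun _ => ee_pt i⟩))
      (H56.mem_octK.2 ⟨ha.1.1, h⟩)
  · exact (ee i).p.inv_eq_iff_eq.2 e.symm

theorem ncard_fx_le {a : AG} (ha : a ∈ Ks) (h2 : a * a = 1) (h1 : a ≠ 1) :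
    (Fx {a}).ncard ≤ 128 := by
  rcases cls ha h2 h1 with ⟨k, hk, rfl⟩ | h
  · exact (fx_conj hk (t := {ee 1}) (by rintro _ rfl; rfl)).trans (ncard_fx_ee (by omega) one_ne_zero).le
  · omega

theorem conj_e0 {a : AG} (ha : a ∈ Ks) (h2 : a * a = 1) (h1 : a ≠ 1) (h : 128 ≤ (Fx {a}).ncard) :
    ∃ k ∈ Ks, k * e0 * k⁻¹ = a := (cls ha h2 h1).resolve_right (by omega)

namespace MOct

/-- `v + b v` takes at most two values on the fixed points of `e₀` -/
theorem two_val {b : AG} (h : 64 ≤ (Fx {e0, b}).ncard) {u v : Vb} (hu : u ∈ Fx {e0}) (hv : v ∈ Fx {e0}) :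
    b.m u = u ∨ b.m v = v ∨ b.m (u + v) = u + v := by
  by_contra! H
  have add : ∀ u ∈ Fx {e0}, ∀ w ∈ Fx {e0, b}, w + u ∈ Fx {e0} := fun u hu w hw =>
    ⟨add_mem hw.1 hu.1, by rintro _ rfl; rw [map_add, hw.2 _ (by simp), hu.2 _ rfl]⟩
  have h0 : (0 : Vb) ∈ Fx {e0} := ⟨zero_mem _, fun a _ => map_zero _⟩
  have t : ∀ i : Fin 3, ![0, u, v] i ∈ Fx {e0} := fun i => by fin_cases i; exacts [h0, hu, hv]
  have := Nat.card_le_card_of_injective (α := Fx {e0, b} × Fin 3) (β := Fx {e0})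
    (fun x => ⟨x.1.1 + ![0, u, v] x.2, add _ (t _) _ x.1.2⟩) fun x y e => by
      have e : x.1.1 + ![0, u, v] x.2 = y.1.1 + ![0, u, v] y.2 := congrArg Subtype.val e
      have e2 : ![0, u, v] x.2 + ![0, u, v] y.2 = x.1.1 + y.1.1 := by
        rw [← Vb.add_add_cancel x.1.1 (![0, u, v] x.2), e, add_assoc, add_assoc, Vb.add_self, add_zero]
      have e3 : b.m (![0, u, v] x.2 + ![0, u, v] y.2) = ![0, u, v] x.2 + ![0, u, v] y.2 := by
        rw [e2, map_add, x.1.2.2 _ (by simp), y.1.2.2 _ (by simp)]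
      have e4 : x.2 = y.2 := by
        generalize x.2 = i at e3
        generalize y.2 = j at e3
        have H' := add_comm u v ▸ H.2.2
        fin_cases i <;> fin_cases j <;> simp_all
      rw [e4] at e
      exact Prod.ext (Subtype.ext (add_right_cancel e)) e4
  rw [Nat.card_prod, Nat.card_coe_set_eq, Nat.card_coe_set_eq, e0, ncard_fx_ee (by omega) one_ne_zero,
    Nat.card_fin] at this
  rw [e0] at h
  omega

theorem pair_mem {x y : GolayPt} (hx : x ∈ bits oc3) (hy : y ∈ bits oc3) (h : x ≠ y) : cl {x, y} ∈ Fx {e0} :=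
  ⟨IsDuad.mem_Ev ⟨x, y, h, rfl⟩, by
    rintro _ rfl; rw [e0, (ee_mem 1).1.2, H81.J4.smul_pair, ee_pt 1 hx, ee_pt 1 hy]⟩

theorem fix_pair {b : AG} (hb : b ∈ Ks) {x y : GolayPt} (h : x ≠ y) (e : b.m (cl {x, y}) = cl {x, y}) :
    b.p x = x ∨ b.p x = y := by
  rw [hb.1.2, H81.J4.smul_pair] at e
  have h3 : b.p x ∈ ({x, y} : Finset GolayPt) := cl_pair_inj h e.symm ▸ Finset.mem_insert_self _ _
  simpa using h3

end MOct

theorem exists_ee_of_comm {b : AG} (hb : b ∈ Ks) (hc : b * e0 = e0 * b)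
    (h : 64 ≤ (Fx {e0, b}).ncard) : ∃ i < 16, b = ee i := by
  refine exists_ee_of_fix hb fun x hx => by_contra fun n => ?_
  have hs := sto_of_comm hc
  have k1 : ∀ y ∈ bits oc3, ∀ z ∈ bits oc3, y ≠ x → y ≠ b.p x → z ≠ x → z ≠ b.p x → y ≠ z →
      b.p y = y ∨ b.p y = z := fun y hy z hz a1 a2 a3 a4 a5 => by
    rcases two_val h (pair_mem hx hy a1.symm) (pair_mem hx hz a3.symm) with e | e | e
    · exact absurd ((fix_pair hb a1.symm e).resolve_left n).symm a2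
    · exact absurd ((fix_pair hb a3.symm e).resolve_left n).symm a4
    · rw [H81.J4.cl_pair a1.symm, H81.J4.cl_pair a3.symm, add_add_add_comm, Vb.add_self, zero_add,
        ← H81.J4.cl_pair a5] at e
      exact fix_pair hb a5 e
  have k2 : ∀ y ∈ bits oc3, y ≠ x → y ≠ b.p x → b.p y = y := fun y hy a1 a2 => by_contra fun n' => by
    obtain ⟨z, hz, h1⟩ := Finset.exists_mem_notMem_of_card_lt_card (s := {x, b.p x, y, b.p y}) (t := bits oc3)
      (Finset.card_le_four.trans_lt (by rw [octad_card oct]; omega))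
    simp only [Finset.mem_insert, Finset.mem_singleton, not_or] at h1
    exact h1.2.2.2 ((k1 y hy z hz a1 a2 h1.1 h1.2.1 (Ne.symm h1.2.2.1)).resolve_left n').symm
  have k3 : b.p (b.p x) = x := by_contra fun n' =>
    have n2 : b.p (b.p x) ≠ b.p x := fun e => n (b.p.injective e)
    n2 (b.p.injective (k2 _ (hs _ (hs _ hx)) n' n2))
  have hH : b.p ∈ H56.octH (bits oc3) := ⟨hb.1.1, Finset.eq_of_subset_of_card_le (by
    intro y hy
    obtain ⟨z, hz, rfl⟩ := Finset.mem_smul_finset.1 hy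
    exact hs z hz) (Finset.card_smul_finset _ _).ge⟩
  have k4 : H56.octRes _ ⟨_, hH⟩ = Equiv.swap ⟨x, hx⟩ ⟨b.p x, hs x hx⟩ := Equiv.ext fun y => by
    by_cases a1 : y = ⟨x, hx⟩
    · rw [a1, Equiv.swap_apply_left]; rfl
    by_cases a2 : y = ⟨b.p x, hs x hx⟩
    · rw [a2, Equiv.swap_apply_right]; exact Subtype.ext k3
    · rw [Equiv.swap_apply_of_ne_of_ne a1 a2]
      exact Subtype.ext (k2 _ y.2 (fun e => a1 (Subtype.ext e)) fun e => a2 (Subtype.ext e))
  have k5 := (H56.range_octRes oct).le ⟨_, k4⟩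
  rw [Equiv.Perm.mem_alternatingGroup, Equiv.Perm.sign_swap fun e => n (congrArg Subtype.val e).symm] at k5
  exact absurd k5 (by decide)

theorem exists_ee_of_cent {b : AG} (hb : b ∈ Ks) (hc : ∀ i, b * ee i = ee i * b) :
    ∃ i < 16, b = ee i := by
  have h4 : pt 4 ∉ bits oc3 := by decide +kernel
  obtain ⟨i, hi, e⟩ := ee_trans h4 (StO.not_mem (sto_of_comm (hc 1)) h4)
  have k := fix_of_rigidOK (mul_mem (inv_mem (ee_mem i)) hb).1.1 (F := oc3 ^^^ 16777215) (F' := oc3)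
    [1413139, 7438406, 3444840, 2969648, 2854977] (by decide +kernel) fun x hx => by
      rw [bits_compl, Finset.mem_compl] at hx
      obtain ⟨j, hj, rfl⟩ := ee_trans h4 hx
      have h1 := congrArg (fun a : AG => a.p (pt 4)) (hc j)
      have h2 := congrArg (fun a : AG => a.p (pt 4)) ((ee_mul hi hj).trans ((ee_mul hj hi).trans
        (by rw [Nat.xor_comm])).symm)
      simp only [mul_p, Equiv.Perm.mul_apply] at h1 h2
      rw [mul_p, Equiv.Perm.mul_apply, h1, ← e, ← h2, inv_p, Equiv.Perm.inv_eq_iff_eq]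
  refine exists_ee_of_fix hb fun x hx => ?_
  have := k x hx
  rwa [mul_p, Equiv.Perm.mul_apply, inv_p, Equiv.Perm.inv_eq_iff_eq, ee_pt i hx] at this

/-- the octad group is the only one of its kind in the stabiliser of the octad -/
theorem octU {B : Subgroup AG} (hB : B ≤ Ks) (hO : ∀ b ∈ B, StO b) (h1 : ∀ b ∈ B, b * b = 1)
    (h2 : ∃ b ∈ B, b ≠ 1 ∧ 128 ≤ (Fx {b}).ncard) (h3 : 64 ≤ (Fx (B : Set AG)).ncard)
    (h4 : 16 ≤ Nat.card B) : ∀ b ∈ B, ∃ i < 16, b = ee i := by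
  obtain ⟨b0, m0, n0, f0⟩ := h2
  obtain ⟨k, hk, rfl⟩ := conj_e0 (hB m0) (h1 _ m0) n0 f0
  have k1 : ∀ b : B, ∃ i : Fin 16, b.1 = k * ee i * k⁻¹ := fun b => by
    obtain ⟨i, hi, e⟩ := exists_ee_of_comm (b := k⁻¹ * b * k) (mul_mem (mul_mem (inv_mem hk) (hB b.2)) hk) (by
      have := comm_of_mul_self h1 b.2 m0
      rw [show k⁻¹ * b * k * e0 = k⁻¹ * (b * (k * e0 * k⁻¹)) * k by group, this]; group)
      (h3.trans (fx_conj hk (by
        rintro _ (rfl | rfl)
        · exact m0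
        · simp [mul_assoc])))
    exact ⟨⟨i, hi⟩, by rw [← e]; group⟩
  choose j hj using k1
  have k2 := (Function.Injective.bijective_of_nat_card_le (f := j)
    (fun a b e => Subtype.ext (by rw [hj a, hj b, e])) (by rwa [Nat.card_fin])).2
  have k3 : ∀ x ∈ bits oc3, k⁻¹.p x ∈ bits oc3 := fun x hx => by_contra fun n => by
    have : (bits oc3)ᶜ ⊆ k⁻¹.p • bits oc3 := fun y hy => by
      obtain ⟨i, hi, rfl⟩ := ee_trans n (Finset.mem_compl.1 hy)
      obtain ⟨b, e⟩ := k2 ⟨i, hi⟩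
      have := hO b b.2 x hx
      rw [hj b, e] at this
      exact Finset.mem_smul_finset.2 ⟨_, this, by simp [mul_p, inv_p]⟩
    have := Finset.card_le_card this
    rw [Finset.card_smul_finset, Finset.card_compl, octad_card oct, card_golayPt] at this
    omega
  refine fun b hb => exists_ee_of_fix (hB hb) fun x hx => ?_
  rw [show b = _ from hj ⟨b, hb⟩, mul_p, mul_p, Equiv.Perm.mul_apply, Equiv.Perm.mul_apply, ee_pt _ (k3 x hx)]
  simp [inv_p]

/-- an element that maps the octad to itself normalises the octad group -/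
theorem conj_ee {a : AG} (ha : a ∈ Ns) (h : StO a) (i : ℕ) :
    ∃ j < 16, lin (a * ee i * a⁻¹) = ee j :=
  exists_ee_of_fix (lin_mem_Ks (mul_mem (mul_mem ha (ee_mem' i)) (inv_mem ha)).1) fun x hx => by
    rw [lin_p, mul_p, mul_p, Equiv.Perm.mul_apply, Equiv.Perm.mul_apply, ee_pt _ (StO.inv h x hx)]
    simp [inv_p]

end Cfsg.Agent.WJ
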