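import Cfsg.Agent.WJ.Base2
import Cfsg.Agent.WJ.MOct

set_option autoImplicit false

namespace Cfsg.Agent.WJ

open Cfsg.Agent.SGJ4 Cfsg.Agent.J4P Cfsg.Agent.H14 AG Subgroup
open Cfsg.Agent.H42 (SylIn cj)

variable {J G : Type*} [Group J] [Group G] [Finite J] [Finite G]

theorem conjW_ee : e0 * e0 = 1 :=
  (ee_mul (i := 1) (j := 1) (by norm_num) (by norm_num)).trans ee_zero

/-- the subgroup generated by `u` and its centraliser in the elementary abelian group `R` -/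
def conjW_B (R : Subgroup G) (u : G) (hu : u * u = 1) (hR : ∀ r ∈ R, r * r = 1) : Subgroup G where
  carrier := {g | ∃ r ∈ R, Commute r u ∧ (g = r ∨ g = r * u)}
  one_mem' := ⟨1, R.one_mem, Commute.one_left u, Or.inl rfl⟩
  mul_mem' := by
    rintro _ _ ⟨r, hr, cr, e⟩ ⟨s, hs, cs, e'⟩
    refine ⟨r * s, R.mul_mem hr hs, cr.mul_left cs, ?_⟩
    rcases e with rfl | rfl <;> rcases e' with rfl | rfl
    · exact Or.inl rfl
    · exact Or.inr (mul_assoc _ _ _).symm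
    · exact Or.inr (by rw [mul_assoc, ← cs.eq, mul_assoc])
    · exact Or.inl (by rw [mul_assoc, ← mul_assoc u, ← cs.eq, mul_assoc s, hu, mul_one])
  inv_mem' := by
    rintro _ ⟨r, hr, cr, e⟩
    refine ⟨r, hr, cr, ?_⟩
    rcases e with rfl | rfl
    · exact Or.inl (inv_eq_of_mul_eq_one_right (hR _ hr))
    · refine Or.inr (inv_eq_of_mul_eq_one_right ?_)
      rw [mul_assoc, ← mul_assoc u, ← cr.eq, mul_assoc r, hu, mul_one, hR r hr]

theorem Sp.exists_conj (c : Sp J G) : ∃ n, c.NV n ∧ n * c.t * n⁻¹ = c.t * c.θ e0 := by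
  have he : e0 ∈ Ns := ee_mem' 1
  have θθ : c.θ e0 * c.θ e0 = 1 := by rw [← c.θ_mul he he, conjW_ee, c.θ_one]
  have ee : ∀ x, e0.m (e0.m x) = x := fun x => by
    rw [← mul_m, conjW_ee]; rfl
  set u := c.t * c.θ e0 with hudef
  have uu : u * u = 1 := by
    rw [hudef, mul_assoc, ← mul_assoc (c.θ e0), (c.θt e0).eq, mul_assoc c.t, θθ, mul_one, c.tt]
  have ui : u⁻¹ = u := inv_eq_of_mul_eq_one_right uu
  have cvR : ∀ r ∈ c.R, c.CV r := fun r hr s hs => c.R_comm hr hs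
  have tv : ∀ x ∈ Ev, IsConj c.t (c.t * c.v x) := fun x hx =>
    c.all _ (c.inj (by rw [map_mul, map_one]; exact c.v_sq hx))
  have tu : IsConj c.t u := c.all _ (c.inj (by rw [map_mul, map_one]; exact θθ))
  have act := Sp.Act.mul c c.act_t (c.act_θ he)
  have unv : c.NV u := Sp.Act.nv c act
  let B := conjW_B c.R u uu c.s1.sq
  let V' := c.R ⊓ centralizer {u}
  have hV : V' ≤ B := fun r hr => ⟨r, hr.1, mem_centralizer_singleton_iff.1 hr.2, Or.inl rfl⟩
  have uB : u ∈ B := ⟨1, c.R.one_mem, Commute.one_left u, Or.inr (one_mul u).symm⟩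
  have c1 : 2 ^ 11 ≤ Nat.card V' := by
    have mE : ∀ x ∈ Ev, e0.m x ∈ Ev := fun x hx => (m_mem_Ev he.1).2 hx
    let j : Ev → V' := fun x => ⟨c.P x (e0.m x), c.P_mem x.2 (mE _ x.2), by
      have := (act x x.2 _ (mE _ x.2)).2.2
      simp only [ee] at this
      exact mem_centralizer_singleton_iff.2 (mul_inv_eq_iff_eq_mul.1 this).symm⟩
    have hj : Function.Injective j := fun x y h =>
      Subtype.ext (c.P_inj x.2 (mE _ x.2) y.2 (mE _ y.2) (congrArg Subtype.val h)).1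
    have := Nat.card_le_card_of_injective j hj
    rwa [card_Ev] at this
  have c2 : 2 ^ 12 ≤ Nat.card B := by
    obtain ⟨m, hm⟩ := card_dvd_of_le hV
    have hp : 0 < Nat.card B := Nat.card_pos
    have m1 : m ≠ 1 := by
      rintro rfl
      have := eq_of_le_of_card_ge hV (by omega)
      exact c.not_conj (cvR u (this ▸ uB : u ∈ V').1) tu
    have m0 : m ≠ 0 := by rintro rfl; omega
    have : 2 ≤ m := by omega
    nlinarith
  obtain ⟨h0, hh0⟩ := isConj_iff.1 tu.symm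
  have Bsq : ∀ b ∈ B, b * b = 1 ∧ Commute b u := by
    rintro _ ⟨r, hr, cr, rfl | rfl⟩
    · exact ⟨c.s1.sq _ hr, cr⟩
    · refine ⟨?_, cr.mul_left (Commute.refl u)⟩
      rw [mul_assoc, ← mul_assoc u, ← cr.eq, mul_assoc r, uu, mul_one, c.s1.sq r hr]
  obtain ⟨k, hk⟩ := c.elem12 (B := B.map (MulAut.conj h0).toMonoidHom)
    (by
      rintro _ ⟨b, hb, rfl⟩
      rw [← map_mul, (Bsq b hb).1, map_one])
    (by
      rintro _ ⟨b, hb, rfl⟩
      rw [← hh0]
      exact (Bsq b hb).2.map (MulAut.conj h0))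
    (by rwa [card_map_of_injective (MulAut.conj h0).injective])
  set h := c.ι k * h0 with hdef
  have hu : h * u * h⁻¹ = c.t := by
    calc _ = c.ι k * (h0 * u * h0⁻¹) * (c.ι k)⁻¹ := by rw [hdef]; group
      _ = c.t := by rw [hh0, (c.tc k).eq, mul_inv_cancel_right]
  have hk' : ∀ b, b ∈ B ↔ ∃ x ∈ Ev, h * b * h⁻¹ = c.v x ∨ h * b * h⁻¹ = c.t * c.v x := fun b => by
    have e : h * b * h⁻¹ = c.ι k * (h0 * b * h0⁻¹) * (c.ι k)⁻¹ := by rw [hdef]; group
    rw [e, ← hk]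
    exact ⟨fun hb => ⟨b, hb, rfl⟩, fun ⟨b', hb', e'⟩ => (MulAut.conj h0).injective e' ▸ hb'⟩
  have ha : ∀ r ∈ c.R, Commute r u → ∃ x ∈ Ev, h * r * h⁻¹ = c.v x := fun r hr cr => by
    obtain ⟨x, hx, e | e⟩ := (hk' r).1 ⟨r, hr, cr, Or.inl rfl⟩
    · exact ⟨x, hx, e⟩
    · exact absurd ((tv x hx).trans (isConj_iff.2 ⟨h, e⟩).symm) (c.not_conj (cvR r hr))
  have hb : ∀ x ∈ Ev, ∃ r ∈ c.R, h * r * h⁻¹ = c.v x := fun x hx => by
    obtain ⟨r, hr, cr, e | e⟩ := (hk' (h⁻¹ * c.v x * h)).2 ⟨x, hx, Or.inl (by group)⟩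
    · exact ⟨r, hr, by rw [← e]; group⟩
    · obtain ⟨y, hy, e'⟩ := ha r hr cr
      have e2 : c.v x = c.v y * c.t := by
        rw [← e', ← hu, conj_mul, ← e]; group
      have e3 : c.t = c.v (y + x) := by
        rw [c.v_add hy hx, e2, ← mul_assoc, c.v_sq hy, one_mul]
      exact absurd (e3 ▸ IsConj.refl c.t : IsConj c.t (c.v (y + x))) (c.nfus _)
  have hn : c.NV h := fun r hr => by
    obtain ⟨w, hw⟩ : ∃ w, w = u * r * u⁻¹ * r⁻¹ := ⟨_, rfl⟩
    have r2 : w ∈ c.R := hw ▸ c.R.mul_mem (unv r hr) (c.R.inv_mem hr)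
    have e1 : r * u * r⁻¹ = u * w := by
      calc _ = u * u * r * u⁻¹ * r⁻¹ := by rw [uu, ui, one_mul]
        _ = _ := by rw [hw]; group
    have e2 : Commute w u := by
      have e3 : u * w * (u * w) = 1 := by
        rw [← e1, conj_mul, uu]; group
      have e4 := inv_eq_of_mul_eq_one_right e3
      rwa [mul_inv_rev, ui, inv_eq_of_mul_eq_one_right (c.s1.sq _ r2)] at e4
    obtain ⟨x, hx, e⟩ := ha _ r2 e2
    have ph : c.Ph (h * r * h⁻¹) x := by
      change h * r * h⁻¹ * c.t * (h * r * h⁻¹)⁻¹ = c.t * c.v x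
      rw [← e, ← hu, conj_mul (a := u) (b := h), ← e1]; group
    by_cases x0 : x = 0
    · subst x0
      rw [c.v_zero, conj_eq_one_iff] at e
      rw [e, mul_one] at e1
      obtain ⟨y, hy, e'⟩ := ha r hr (mul_inv_eq_iff_eq_mul.1 e1)
      rw [e']
      exact c.s1.vR y hy
    · refine c.s1.max _ (by rw [conj_mul, c.s1.sq r hr]; group) (fun y hy => ?_) ⟨x, hx, x0, ph⟩
      obtain ⟨r', hr', e'⟩ := hb y hy
      rw [← e']
      exact (c.R_comm hr hr').map (MulAut.conj h)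
  refine ⟨h⁻¹, c.nv_iff_mem.2 (inv_mem (c.nv_iff_mem.1 hn)), ?_⟩
  rw [← hu]; group

end Cfsg.Agent.WJ
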