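import Cfsg.Agent.WJ.Base
import Cfsg.Agent.BEND.Basic

/-! Project WJ: the subgroups `V` and `⟨t⟩ × V`. -/

set_option autoImplicit false
set_option linter.unusedSectionVars false

namespace Cfsg.Agent.WJ

open Cfsg.Agent.SGJ4 Cfsg.Agent.J4P Cfsg.Agent.H14 AG Subgroup
open Cfsg.Agent.H42 (SylIn cj)

variable {J G : Type*} [Group J] [Group G]

namespace DblX

variable (c : Cf J G)

theorem tv_sq {x : Vb} (hx : x ∈ Ev) : c.t * c.v x * (c.t * c.v x) = 1 := by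
  rw [mul_assoc, ← mul_assoc (c.v x), (c.vt x).eq, ← mul_assoc, ← mul_assoc, c.tt, one_mul, c.v_sq hx]

/-- the subgroup `V` -/
def V0 : Subgroup G where
  carrier := {b | ∃ x ∈ Ev, b = c.v x}
  one_mem' := ⟨0, zero_mem _, c.v_zero.symm⟩
  mul_mem' := by
    rintro _ _ ⟨x, hx, rfl⟩ ⟨y, hy, rfl⟩
    exact ⟨_, add_mem hx hy, (c.v_add hx hy).symm⟩
  inv_mem' := by
    rintro _ ⟨x, hx, rfl⟩
    exact ⟨x, hx, inv_eq_of_mul_eq_one_right (c.v_sq hx)⟩

/-- the subgroup `⟨t⟩ × V` -/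
def B0 : Subgroup G where
  carrier := {b | ∃ x ∈ Ev, b = c.v x ∨ b = c.t * c.v x}
  one_mem' := ⟨0, zero_mem _, Or.inl c.v_zero.symm⟩
  mul_mem' := by
    rintro _ _ ⟨x, hx, rfl | rfl⟩ ⟨y, hy, rfl | rfl⟩
    · exact ⟨_, add_mem hx hy, Or.inl (c.v_add hx hy).symm⟩
    · exact ⟨_, add_mem hx hy, Or.inr (by rw [c.v_add hx hy, ← mul_assoc, (c.vt x).eq, mul_assoc])⟩
    · exact ⟨_, add_mem hx hy, Or.inr (by rw [c.v_add hx hy, mul_assoc])⟩
    · exact ⟨_, add_mem hx hy, Or.inl (by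
        rw [c.v_add hx hy, mul_assoc, ← mul_assoc (c.v x), (c.vt x).eq, ← mul_assoc, ← mul_assoc,
          c.tt, one_mul])⟩
  inv_mem' := by
    rintro _ ⟨x, hx, rfl | rfl⟩
    · exact ⟨x, hx, Or.inl (inv_eq_of_mul_eq_one_right (c.v_sq hx))⟩
    · exact ⟨x, hx, Or.inr (inv_eq_of_mul_eq_one_right (tv_sq c hx))⟩

theorem t_mem : c.t ∈ B0 c := ⟨0, zero_mem _, Or.inr (by rw [c.v_zero, mul_one])⟩

theorem B0_sq {b : G} (hb : b ∈ B0 c) : b * b = 1 := by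
  obtain ⟨x, hx, rfl | rfl⟩ := hb
  · exact c.v_sq hx
  · exact tv_sq c hx

theorem B0_comm {a b : G} (ha : a ∈ B0 c) (hb : b ∈ B0 c) : a * b = b * a := by
  rw [← inv_eq_of_mul_eq_one_right (B0_sq c (mul_mem ha hb)), mul_inv_rev,
    inv_eq_of_mul_eq_one_right (B0_sq c ha), inv_eq_of_mul_eq_one_right (B0_sq c hb)]

theorem not_conj (x : Vb) : ¬ IsConj c.t (c.v x) := c.nfus _

theorem card_B0 : Nat.card (B0 c) = 2 ^ 12 := by
  let f : Ev × Bool → B0 c := fun p =>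
    ⟨if p.2 then c.t * c.v p.1 else c.v p.1, p.1, p.1.2, by cases p.2 <;> simp⟩
  have ne : ∀ x ∈ Ev, ∀ y ∈ Ev, c.t * c.v x ≠ c.v y := fun x hx y hy e => not_conj c (y + x) (by
    rw [c.v_add hy hx, ← e, mul_assoc, c.v_sq hx, mul_one])
  have hf : Function.Bijective f := by
    constructor
    · rintro ⟨x, b⟩ ⟨y, b'⟩ k
      have k := congrArg Subtype.val k
      cases b <;> cases b' <;> simp only [f, if_true, Bool.false_eq_true, if_false] at k
      · rw [Subtype.ext (c.v_inj x.2 y.2 k)]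
      · exact absurd k.symm (ne _ y.2 _ x.2)
      · exact absurd k (ne _ x.2 _ y.2)
      · rw [Subtype.ext (c.v_inj x.2 y.2 (mul_left_cancel k))]
    · rintro ⟨_, x, hx, rfl | rfl⟩
      · exact ⟨(⟨x, hx⟩, false), rfl⟩
      · exact ⟨(⟨x, hx⟩, true), rfl⟩
  rw [← Nat.card_eq_of_bijective f hf, Nat.card_prod, card_Ev]
  simp

theorem ph_of_norm {g : G} (hg : g ∈ normalizer (B0 c : Set G)) : ∃ x ∈ Ev, c.Ph g x := by
  obtain ⟨x, hx, e | e⟩ := H42.conj_mem_of_mem_normalizer hg (t_mem c)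
  · exact absurd (isConj_iff.2 ⟨g, e⟩) (not_conj c x)
  · exact ⟨x, hx, e⟩

theorem θ_tv {a : AG} (ha : a ∈ Ns) {x : Vb} (hx : x ∈ Ev) :
    c.θ a * (c.t * c.v x) * (c.θ a)⁻¹ = c.t * c.v (a.m x) := by
  rw [← c.conj_v ha hx, ← mul_assoc, (c.θt a).eq]; group

theorem card_tv (S : Set Vb) (hS : ∀ x ∈ S, x ∈ Ev) :
    Nat.card ((fun x => c.t * c.v x) '' S) = S.ncard := by
  rw [Nat.card_coe_set_eq, Set.InjOn.ncard_image]
  exact fun x hx y hy e => c.v_inj (hS x hx) (hS y hy) (mul_left_cancel e)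

theorem card_v (S : Set Vb) (hS : ∀ x ∈ S, x ∈ Ev) : Nat.card (c.v '' S) = S.ncard := by
  rw [Nat.card_coe_set_eq, Set.InjOn.ncard_image]
  exact fun x hx y hy e => c.v_inj (hS x hx) (hS y hy) e

theorem ncard_Ev : (Ev : Set Vb).ncard = 2048 := by rw [← Nat.card_coe_set_eq]; exact card_Ev

variable [Finite G]

theorem norm_V0 {g : G} : g ∈ normalizer (V0 c : Set G) ↔ c.NmV g :=
  ⟨fun h x hx => H42.conj_mem_of_mem_normalizer h ⟨x, hx, rfl⟩, fun h =>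
    H42.mem_normalizer_of_conj_mem (by rintro _ ⟨x, hx, rfl⟩; exact h x hx)⟩

theorem norm_B0 {g : G} {x : Vb} (h : c.NmV g) (hx : x ∈ Ev) (hp : c.Ph g x) :
    g ∈ normalizer (B0 c : Set G) := by
  refine H42.mem_normalizer_of_conj_mem ?_
  rintro _ ⟨y, hy, rfl | rfl⟩
  · obtain ⟨y', hy', e⟩ := h y hy
    exact ⟨y', hy', Or.inl e⟩
  · obtain ⟨y', hy', e⟩ := h y hy
    refine ⟨x + y', add_mem hx hy', Or.inr ?_⟩
    rw [c.v_add hx hy', ← mul_assoc c.t, ← e, ← show g * c.t * g⁻¹ = _ from hp, conj_mul]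

omit [Finite G] in
theorem dvd_aut {R A : Subgroup G} (hA : A ≤ normalizer (R : Set G)) :
    (centralizer (R : Set G)).relIndex A ∣ Nat.card (MulAut R) := by
  let φ : A →* MulAut R := R.normalizerMonoidHom.comp (inclusion hA)
  have : φ.ker = (centralizer (R : Set G)).subgroupOf A := by
    ext x
    rw [← MonoidHom.comap_ker, normalizerMonoidHom_ker]
    simp [mem_subgroupOf]
  rw [relIndex, ← this, index_ker]
  exact card_subgroup_dvd_card _

end DblX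

end Cfsg.Agent.WJ
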