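import Cfsg.Agent.WJ.Base
import Cfsg.Agent.WJ.DblX

/-! Project WJ: all of `t V` is fused to `t`. -/

set_option autoImplicit false
set_option linter.unusedSectionVars false

namespace Cfsg.Agent.WJ

open Cfsg.Agent.SGJ4 Cfsg.Agent.J4P Cfsg.Agent.H14 AG Subgroup
open Cfsg.Agent.H42 (SylIn cj)

variable {J G : Type*} [Group J] [Group G] [Finite J] [Finite G]

namespace DblX

theorem aut12 {V : Type*} [Group V] [Finite V] (sq : ∀ a : V, a * a = 1) (h : Nat.card V = 2 ^ 12) :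
    ¬ 277 ∣ Nat.card (MulAut V) ∧ ¬ 443 ∣ Nat.card (MulAut V) := by
  have cm : ∀ a b : V, a * b = b * a := fun a b => by
    rw [← inv_eq_of_mul_eq_one_right (sq (a * b)), mul_inv_rev, inv_eq_of_mul_eq_one_right (sq a),
      inv_eq_of_mul_eq_one_right (sq b)]
  obtain ⟨n, -, ρ, h1, -, h2, -⟩ := H51.exists_matrix_rep V 2 cm fun a => (pow_two a).trans (sq a)
  obtain rfl : 12 = n := Nat.pow_right_injective le_rfl (h.symm.trans h1)
  have := card_dvd_of_injective (H := GL (Fin 12) (ZMod 2)) ρ.toHomUnits fun a b e =>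
    h2 (congrArg Units.val e)
  rw [Matrix.card_GL_field, ZMod.card] at this
  exact ⟨fun d => absurd (d.trans this) (by decide +kernel), fun d => absurd (d.trans this) (by decide +kernel)⟩

variable (c : Cf J G)

theorem exists_norm {x : Vb} (hx : x ∈ Ev) (h : IsConj c.t (c.t * c.v x)) :
    ∃ g ∈ normalizer (B0 c : Set G), c.Ph g x := by
  obtain ⟨g, hg⟩ := isConj_iff.1 h
  have m : ∀ b, b ∈ cj g⁻¹ (B0 c) ↔ g * b * g⁻¹ ∈ B0 c := fun b => by rw [H42.mem_cj, inv_inv]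
  obtain ⟨k, hk⟩ := c.elem12 (B := cj g⁻¹ (B0 c))
    (fun b hb => by
      calc b * b = g⁻¹ * (g * b * g⁻¹ * (g * b * g⁻¹)) * g := by group
        _ = 1 := by rw [B0_sq c ((m b).1 hb)]; group)
    (fun b hb => by
      have e := B0_comm c ((m b).1 hb) ⟨x, hx, Or.inr rfl⟩
      rw [← hg, conj_mul, conj_mul, mul_left_inj, mul_right_inj] at e
      exact e)
    (by rw [H42.card_cj, card_B0])
  refine ⟨g * (c.ι k)⁻¹, H42.mem_normalizer_of_conj_mem fun b hb => ?_, ?_⟩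
  · have h1 : (c.ι k)⁻¹ * b * c.ι k ∈ cj g⁻¹ (B0 c) := (hk _).2 (by
      rw [show c.ι k * ((c.ι k)⁻¹ * b * c.ι k) * (c.ι k)⁻¹ = b by group]; exact hb)
    rw [m] at h1
    convert h1 using 1
    group
  · change _ = _
    rw [← hg, mul_assoc g, (c.tc k).inv_left.eq]
    group

theorem conj_m {x : Vb} (hx : x ∈ Ev) (h : IsConj c.t (c.t * c.v x)) {a : AG} (ha : a ∈ Ks) :
    IsConj c.t (c.t * c.v (a.m x)) :=
  h.trans (isConj_iff.2 ⟨_, θ_tv c (Ks_le_Ns ha) hx⟩)

theorem ι_conj (a k : J) : IsConj (c.t * c.ι a) (c.t * c.ι (k * a * k⁻¹)) :=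
  isConj_iff.2 ⟨c.ι k, by rw [map_mul, map_mul, map_inv, ← mul_assoc, (c.tc k).eq]; group⟩

theorem all_conj {x : Vb} (hx : x ∈ Ev) : IsConj c.t (c.t * c.v x) := by
  let Ω : Set Vb := {x | x ∈ Ev ∧ IsConj c.t (c.t * c.v x)}
  have h1 : Ω.ncard ∣ Nat.card (MulAut (B0 c)) := by
    rw [← card_tv c Ω fun x hx => hx.1, ← BEND.relIndex_cent_eq (normalizer (B0 c : Set G)) c.t _ fun y => ⟨?_, ?_⟩]
    · refine (relIndex_dvd_of_le_left _ fun g hg => ?_).trans (dvd_aut le_rfl)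
      exact mem_centralizer_singleton_iff.2 (hg _ (t_mem c)).symm
    · rintro ⟨x, hx, rfl⟩
      exact exists_norm c hx.1 hx.2
    · rintro ⟨g, hg, rfl⟩
      obtain ⟨x, hx, e⟩ := ph_of_norm c hg
      exact ⟨x, ⟨hx, isConj_iff.2 ⟨g, e⟩⟩, e.symm⟩
  obtain ⟨n1, n2⟩ := aut12 (V := B0 c) (fun a => Subtype.ext (B0_sq c a.2)) (card_B0 c)
  have ts_mem : ts ∈ Ev := tr_mem_Ns.1 tN_mem
  have zs_mem : zs ∈ Ev := tr_mem_Ns.1 zN_mem
  have h0 : IsConj c.t (c.t * c.v 0) := by rw [c.v_zero, mul_one]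
  have hD : ∀ x, IsDuad x → (IsConj c.t (c.t * c.v x) ↔ IsConj c.t (c.t * c.v ts)) := fun x hx => by
    obtain ⟨a, ha, e⟩ := duad_trans hx
    refine ⟨fun h => ?_, fun h => e ▸ conj_m c ts_mem h ha⟩
    have := conj_m c hx.mem_Ev h (inv_mem ha)
    rwa [← e, inv_m_m] at this
  have hS : ∀ x ∈ Ev, x ≠ 0 → ¬ IsDuad x → (IsConj c.t (c.t * c.v x) ↔ IsConj c.t (c.t * c.v zs)) :=
    fun x hx h0 hd => by
      obtain ⟨a, ha, e⟩ := sextet_trans hx h0 hd
      refine ⟨fun h => ?_, fun h => e ▸ conj_m c zs_mem h ha⟩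
      have := conj_m c hx h (inv_mem ha)
      rwa [← e, inv_m_m] at this
  have nd0 : ¬ IsDuad 0 := by rw [isDuad_iff]; decide +kernel
  have both : IsConj c.t (c.t * c.v ts) ∧ IsConj c.t (c.t * c.v zs) := by
    by_cases d : IsConj c.t (c.t * c.v ts) <;> by_cases s : IsConj c.t (c.t * c.v zs)
    · exact ⟨d, s⟩
    · have e : Ω = insert 0 {v | IsDuad v} := by
        ext y
        refine ⟨fun hy => ?_, ?_⟩
        · by_contra k
          rw [Set.mem_insert_iff, not_or] at k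
          exact s ((hS y hy.1 k.1 k.2).1 hy.2)
        · rintro (rfl | hy)
          · exact ⟨zero_mem _, h0⟩
          · exact ⟨IsDuad.mem_Ev hy, (hD y hy).2 d⟩
      rw [e, Set.ncard_insert_of_notMem (s := {v | IsDuad v}) nd0, ncard_duad] at h1
      exact absurd h1 n1
    · have e : Ω = insert 0 {v | v ∈ Ev ∧ v ≠ 0 ∧ ¬ IsDuad v} := by
        ext y
        refine ⟨fun hy => ?_, ?_⟩
        · by_cases k : y = 0
          · exact Or.inl k
          · exact Or.inr ⟨hy.1, k, fun k2 => d ((hD y k2).1 hy.2)⟩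
        · rintro (rfl | hy)
          · exact ⟨zero_mem _, h0⟩
          · exact ⟨hy.1, (hS y hy.1 hy.2.1 hy.2.2).2 s⟩
      rw [e, Set.ncard_insert_of_notMem fun k => k.2.1 rfl, ncard_sextet] at h1
      exact absurd (Dvd.dvd.trans (by norm_num) h1) n2
    · obtain ⟨a, a2, a1, ha⟩ := c.fus
      obtain ⟨k, y, hy, e⟩ := c.m.inv a2
      have h2 : IsConj c.t (c.t * c.v y) := by
        have := ha.trans (ι_conj c a k)
        rwa [e] at this
      have y0 : y ≠ 0 := by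
        rintro rfl
        rw [tr_zero, c.m.f_one] at e
        exact a1 (by simpa using e)
      by_cases k : IsDuad y
      · exact absurd ((hD y k).1 h2) d
      · exact absurd ((hS y hy y0 k).1 h2) s
  by_cases k0 : x = 0
  · rwa [k0]
  · by_cases k : IsDuad x
    · exact (hD x k).2 both.1
    · exact (hS x hx k0 k).2 both.2

end DblX

open DblX

theorem Cf.dbl1 (c : Cf J G) : ∀ x ∈ Ev, ∃ g, c.NmV g ∧ c.Ph g x := by
  intro x hx
  obtain ⟨g, hg, h⟩ := exists_norm c hx (all_conj c hx)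
  refine ⟨g, fun y hy => ?_, h⟩
  obtain ⟨y', hy', e | e⟩ := H42.conj_mem_of_mem_normalizer hg (show c.v y ∈ B0 c from ⟨y, hy, Or.inl rfl⟩)
  · exact ⟨y', hy', e⟩
  · exact absurd ((all_conj c hy').trans (isConj_iff.2 ⟨g, e⟩).symm) (not_conj c y)

theorem Cf.conj_all (c : Cf J G) (a : J) (h : a * a = 1) : IsConj c.t (c.t * c.ι a) := by
  obtain ⟨k, y, hy, e⟩ := c.m.inv h
  have := ι_conj c a k
  rw [e] at this
  exact (all_conj c hy).trans this.symm

end Cfsg.Agent.WJ
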