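import Cfsg.Agent.WJ.Base
import Cfsg.Agent.WJ.DblX

/-! Project WJ: the centraliser of `V` is transitive on `t V`. -/

set_option autoImplicit false
set_option linter.unusedSectionVars false

namespace Cfsg.Agent.WJ

open Cfsg.Agent.SGJ4 Cfsg.Agent.J4P Cfsg.Agent.H14 AG Subgroup
open Cfsg.Agent.H42 (SylIn cj)

variable {J G : Type*} [Group J] [Group G] [Finite J] [Finite G]

namespace DblX

variable (c : Cf J G)

/-- the automorphisms of `V` induced in the centraliser of `t` -/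
theorem idx_dvd {L : Subgroup G} (h1 : L ≤ normalizer (V0 c : Set G)) (h2 : L ≤ centralizer {c.t})
    (h3 : ∀ a ∈ Ns, c.θ a ∈ L) : (centralizer (V0 c : Set G)).relIndex L ∣ Nat.card Ns := by
  haveI : ((centralizer (V0 c : Set G)).subgroupOf L).Normal := normal_subgroupOf_of_le_normalizer
    (h1.trans (H42.normalizer_le_normalizer_centralizer _))
  let φ : Ns →* L := MonoidHom.mk' (fun a => ⟨c.θ a, h3 a a.2⟩) fun a b => Subtype.ext (c.θ_mul a.2 b.2)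
  refine card_dvd_of_surjective ((QuotientGroup.mk' ((centralizer (V0 c : Set G)).subgroupOf L)).comp φ)
    fun q => ?_
  obtain ⟨g, rfl⟩ := QuotientGroup.mk_surjective q
  obtain ⟨a, ha, o, ho, e⟩ := c.cenN (mem_centralizer_singleton_iff.1 (h2 g.2)) ((norm_V0 c).1 (h1 g.2))
  refine ⟨⟨a, ha⟩, QuotientGroup.eq.2 ?_⟩
  have ho' : o ∈ centralizer (V0 c : Set G) := by
    rintro _ ⟨x, -, rfl⟩
    exact (c.Oc o ho _).eq
  have ht' : c.t ∈ centralizer (V0 c : Set G) := by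
    rintro _ ⟨x, -, rfl⟩
    exact (c.vt x).eq
  change (c.θ a)⁻¹ * g ∈ centralizer (V0 c : Set G)
  rcases e with e | e
  · rwa [e, inv_mul_cancel_left]
  · rw [e, ← (c.θt a).eq, mul_assoc, inv_mul_cancel_left]
    exact mul_mem ht' ho'

theorem duad (h : ∀ x ∈ Ev, ∃ g, c.NmV g ∧ c.Ph g x) {g : G} (hg : c.NmV g) {x : Vb} (hx : x ∈ Ev)
    (hp : c.Ph g x) {u w : Vb} (hu : IsDuad u) (hw : w ∈ Ev) (e : g * c.v u * g⁻¹ = c.v w) : IsDuad w := by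
  by_contra hd
  have nd0 : ¬ IsDuad 0 := by rw [isDuad_iff]; decide +kernel
  have ts_mem : ts ∈ Ev := tr_mem_Ns.1 tN_mem
  have zs_mem : zs ∈ Ev := tr_mem_Ns.1 zN_mem
  have ne : ∀ (d : G), ∀ y ∈ Ev, y ≠ 0 → ∀ y', d * c.v y * d⁻¹ = c.v y' → y' ≠ 0 := by
    rintro d y hy y0 _ k rfl
    rw [c.v_zero, mul_inv_eq_one, mul_eq_left, ← c.v_zero] at k
    exact y0 (c.v_inj hy (zero_mem _) k)
  have w0 : w ≠ 0 := ne g u hu.mem_Ev (fun k => nd0 (k ▸ hu)) w e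
  let M : Subgroup G := normalizer (V0 c : Set G) ⊓ normalizer (B0 c : Set G)
  have hM : ∀ g, c.NmV g → ∀ x ∈ Ev, c.Ph g x → g ∈ M := fun g hg x hx hp =>
    ⟨(norm_V0 c).2 hg, norm_B0 c hg hx hp⟩
  have hθ : ∀ a ∈ Ns, c.θ a ∈ M := fun a ha => hM _ (c.nmV_θ ha) 0 (zero_mem _) (c.ph_zero.2 (c.θt a))
  have i1 : (centralizer {c.t}).relIndex M = 2048 := by
    rw [BEND.relIndex_cent_eq M c.t ((fun x => c.t * c.v x) '' Ev) fun y => ⟨?_, ?_⟩,
      card_tv c _ fun _ k => k, ncard_Ev]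
    · rintro ⟨x, hx, rfl⟩
      obtain ⟨d, h1, h2⟩ := h x hx
      exact ⟨d, hM d h1 x hx h2, h2⟩
    · rintro ⟨d, hd, rfl⟩
      obtain ⟨x, hx, e⟩ := ph_of_norm c hd.2
      exact ⟨x, hx, e.symm⟩
  have i2 : (centralizer {c.v ts}).relIndex M = 2047 := by
    rw [BEND.relIndex_cent_eq M (c.v ts) (c.v '' ((Ev : Set Vb) \ {0})) fun y => ⟨?_, ?_⟩,
      card_v c _ fun _ k => k.1, Set.ncard_sdiff_singleton_of_mem (zero_mem Ev), ncard_Ev]
    · rintro ⟨y, hy, rfl⟩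
      by_cases k : IsDuad y
      · obtain ⟨a, ha, rfl⟩ := duad_trans k
        exact ⟨_, hθ a (Ks_le_Ns ha), c.conj_v (Ks_le_Ns ha) ts_mem⟩
      · obtain ⟨a1, h1, rfl⟩ := duad_trans hu
        obtain ⟨a2, h2, rfl⟩ := sextet_trans hw w0 hd
        obtain ⟨a3, h3, rfl⟩ := sextet_trans hy.1 hy.2 k
        refine ⟨c.θ a3 * (c.θ a2)⁻¹ * g * c.θ a1, mul_mem (mul_mem (mul_mem (hθ _ (Ks_le_Ns h3))
          (inv_mem (hθ _ (Ks_le_Ns h2)))) (hM g hg x hx hp)) (hθ _ (Ks_le_Ns h1)), ?_⟩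
        calc _ = c.θ a3 * ((c.θ a2)⁻¹ * (g * (c.θ a1 * c.v ts * (c.θ a1)⁻¹) * g⁻¹) * c.θ a2) * (c.θ a3)⁻¹ := by
              group
          _ = _ := by
            rw [c.conj_v (Ks_le_Ns h1) ts_mem, e, ← c.conj_v (Ks_le_Ns h2) zs_mem,
              ← c.conj_v (Ks_le_Ns h3) zs_mem]
            group
    · rintro ⟨d, hd, rfl⟩
      obtain ⟨y, hy, k⟩ := (norm_V0 c).1 hd.1 ts ts_mem
      exact ⟨y, ⟨hy, ne d ts ts_mem (by decide +kernel) y k⟩, k.symm⟩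
  have i3 := idx_dvd c (L := centralizer {c.t} ⊓ M) (inf_le_right.trans inf_le_left) inf_le_left
    fun a ha => ⟨mem_centralizer_singleton_iff.2 (c.θt a).eq, hθ a ha⟩
  have i4 : (centralizer {c.v ts}).relIndex M ∣
      (centralizer (V0 c : Set G) ⊓ (centralizer {c.t} ⊓ M)).relIndex M :=
    relIndex_dvd_of_le_left _ fun d hd => mem_centralizer_singleton_iff.2 (hd.1 _ ⟨ts, ts_mem, rfl⟩).symm
  rw [← relIndex_mul_relIndex _ (centralizer {c.t} ⊓ M) M inf_le_right inf_le_right, inf_relIndex_right,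
    inf_relIndex_right, i1, i2] at i4
  rw [card_Ns] at i3
  exact absurd (i4.trans (Nat.mul_dvd_mul_right i3 2048)) (by norm_num)

end DblX

open DblX

theorem Cf.dbl2 (c : Cf J G) (h : ∀ x ∈ Ev, ∃ g, c.NmV g ∧ c.Ph g x) :
    ∀ x ∈ Ev, ∃ g, c.CmV g ∧ c.Ph g x := by
  intro x hx
  obtain ⟨g, hg, hp⟩ := h x hx
  have hg' := hg
  choose! f f1 f2 using hg'
  obtain ⟨a, ha, e⟩ := exists_Ks_of_duad f
    (fun v hv w hw => c.v_inj (f1 _ (add_mem hv hw)) (add_mem (f1 v hv) (f1 w hw)) (by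
      rw [c.v_add (f1 v hv) (f1 w hw), ← f2 _ (add_mem hv hw), ← f2 v hv, ← f2 w hw, c.v_add hv hw, conj_mul]))
    (fun v hv k => c.v_inj hv (zero_mem _) (by
      have := f2 v hv
      rwa [k, c.v_zero, mul_inv_eq_one, mul_eq_left, ← c.v_zero] at this))
    fun v hv => duad c h hg hx hp hv (f1 v hv.mem_Ev) (f2 v hv.mem_Ev)
  have ha' := Ks_le_Ns ha
  refine ⟨g * (c.θ a)⁻¹, fun y hy => mul_inv_eq_iff_eq_mul.1 ?_, ?_⟩
  · have hy' : a⁻¹.m y ∈ Ev := (m_mem_Ev (inv_mem ha).1).2 hy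
    calc _ = g * (c.θ a⁻¹ * c.v y * (c.θ a⁻¹)⁻¹) * g⁻¹ := by rw [c.θ_inv ha']; group
      _ = _ := by rw [c.conj_v (inv_mem ha') hy, f2 _ hy', ← e _ hy', m_inv_m]
  · change _ = _
    rw [← show g * c.t * g⁻¹ = _ from hp, mul_assoc g, (c.θt a).inv_left.eq]
    group

end Cfsg.Agent.WJ
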