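import Cfsg.Agent.WJ.Base

/-! Project WJ: the 2-group of order `2²³` over `⟨t⟩ × V`. -/

set_option autoImplicit false

namespace Cfsg.Agent.WJ

open Cfsg.Agent.SGJ4 Cfsg.Agent.J4P Cfsg.Agent.H14 AG Subgroup
open Cfsg.Agent.H42 (SylIn cj)

variable {J G : Type*} [Group J] [Group G] [Finite J] [Finite G]

namespace Dbl3

theorem h_mem : kx * ky ∈ Ns :=
  Ks_le_Ns (mul_mem (KT_le_Ks inS_ckx.ofC_mem) inS_cky.ofC_mem)

theorem h_fpf {y : Vb} (hy : y ∈ Ev) (h : (kx * ky).m y = y) : y = 0 := by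
  have k : force (cA (cmul ckx cky)) (fun A => allN 64 fun i => allN 64 fun j => force (64 * i + j) fun n =>
      !(Nat.beq (pn n) 0 && Nat.beq (ap A n) n) || Nat.beq n 0) = true := by decide +kernel
  rw [force_eq] at k
  have h1 := allN_iff.1 (allN_iff.1 k (y.val / 64) (by have := y.lt; omega)) (y.val % 64) (by omega)
  rw [Nat.div_add_mod] at h1
  have h2 := val_m (kx * ky) y
  rw [h, cd_mul, show cd kx = ckx from inS_ckx.cd_ofC, show cd ky = cky from inS_cky.cd_ofC] at h2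
  rw [force_eq, ← h2, mem_Ev'.1 hy] at h1
  simp only [Nat.beq_refl, Bool.and_self, Bool.not_true, Bool.false_or, beq_iff] at h1
  exact Vb.ext h1

theorem h_surj {x : Vb} (hx : x ∈ Ev) : ∃ y ∈ Ev, y + (kx * ky).m y = x := by
  let f : Ev → Ev := fun y => ⟨y + (kx * ky).m y, add_mem y.2 ((m_mem_Ev (Ns_le_Nf h_mem)).2 y.2)⟩
  have hf : Function.Injective f := fun a b e => by
    have e : a.1 + (kx * ky).m a = b + (kx * ky).m b := congrArg Subtype.val e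
    refine Subtype.ext (Vb.add_eq_zero'.1 (h_fpf (add_mem a.2 b.2) ?_))
    rw [map_add, ← Vb.add_eq_zero']
    calc _ = (a.1 + (kx * ky).m a) + (b + (kx * ky).m b) := by abel
      _ = 0 := by rw [e, Vb.add_self]
  obtain ⟨y, e⟩ := Finite.surjective_of_injective hf ⟨x, hx⟩
  exact ⟨y, y.2, congrArg Subtype.val e⟩

omit [Finite G] in
theorem comm_conj {g x y : G} (h : Commute x (g⁻¹ * y * g)) : Commute (g * x * g⁻¹) y := by
  rw [Commute, SemiconjBy]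
  calc _ = g * (x * (g⁻¹ * y * g)) * g⁻¹ := by group
    _ = _ := by rw [h.eq]; group

variable (c : Cf J G)

/-- the elements centralising `V` and normalising `⟨t⟩ × V` -/
def Mm : Subgroup G where
  carrier := {g | c.CmV g ∧ ∃ x ∈ Ev, c.Ph g x}
  one_mem' := ⟨fun _ _ => Commute.one_left _, 0, zero_mem _, c.ph_zero.2 (Commute.one_left _)⟩
  mul_mem' := by
    rintro a b ⟨ha, x, hx, k⟩ ⟨hb, y, hy, l⟩
    exact ⟨fun z hz => (ha z hz).mul_left (hb z hz), _, add_mem hx hy, Cf.Ph.mul c k l ha hx hy⟩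
  inv_mem' := by
    rintro a ⟨ha, x, hx, k⟩
    exact ⟨fun z hz => (ha z hz).inv_left, x, hx, Cf.Ph.inv c k ha hx⟩

/-- those that also centralise `O` -/
def M0 : Subgroup G := Mm c ⊓ centralizer (c.O : Set G)

variable {c}

omit [Finite J] [Finite G] in
theorem O_v {o : G} (ho : o ∈ c.O) (x : Vb) : Commute o (c.v x) := (c.Oc o ho _).symm

theorem Mm_O {g o : G} (hg : g ∈ Mm c) (ho : o ∈ c.O) : g * o * g⁻¹ ∈ c.O := by
  refine c.mem_O (comm_conj ?_) (fun x hx => comm_conj ?_) ?_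
  · obtain ⟨-, x, -, k⟩ := (Mm c).inv_mem hg
    rw [Cf.Ph, inv_inv] at k
    rw [k]
    exact (c.Ot o ho).mul_right (O_v ho x)
  · rw [(hg.1 x hx).inv_left.eq, inv_mul_cancel_right]
    exact O_v ho x
  · rw [← MulAut.conj_apply, MulEquiv.orderOf_eq]
    exact c.Oodd o ho

omit [Finite J] [Finite G] in
theorem θ_Mm {a : AG} (ha : a ∈ Ns) {g : G} (hg : g ∈ Mm c) : c.θ a * g * (c.θ a)⁻¹ ∈ Mm c := by
  obtain ⟨h1, x, hx, k⟩ := hg
  refine ⟨fun y hy => comm_conj ?_, _, (m_mem_Ev (Ns_le_Nf ha)).2 hx, Cf.Ph.conj c k ha hx⟩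
  have := c.conj_v (inv_mem ha) hy
  rw [c.θ_inv ha, inv_inv] at this
  rw [this]
  exact h1 _ ((m_mem_Ev (Ns_le_Nf (inv_mem ha))).2 hy)

/-- the centraliser of `⟨t⟩ × V` -/
theorem cent {g : G} (ht : Commute g c.t) (hV : c.CmV g) :
    ∃ a ∈ M0 c, ∃ o ∈ c.O, a * a = 1 ∧ g = a * o := by
  obtain ⟨x, hx, o, ho, k⟩ := c.cenV ht hV
  have hv : c.v x ∈ M0 c := ⟨⟨fun y hy => c.v_comm hx hy, 0, zero_mem _, c.ph_zero.2 (c.vt x)⟩,
    fun o ho => (O_v ho x).eq⟩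
  rcases k with k | k
  · exact ⟨_, hv, o, ho, c.v_sq hx, k⟩
  · refine ⟨_, mul_mem ⟨⟨fun y _ => (c.vt y).symm, 0, zero_mem _, c.ph_zero.2 (Commute.refl _)⟩,
      fun o ho => (c.Ot o ho).eq⟩ hv, o, ho, ?_, k⟩
    rw [mul_assoc, ← mul_assoc (c.v x), (c.vt x).eq, ← mul_assoc, ← mul_assoc, c.tt, one_mul, c.v_sq hx]

omit [Finite J] [Finite G] in
theorem sq_t {u : G} (hu : u ∈ Mm c) : Commute (u * u) c.t := by
  obtain ⟨h1, x, hx, k⟩ := hu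
  have := Cf.Ph.mul c k k h1 hx hx
  rwa [Vb.add_self, c.ph_zero] at this

theorem pow4 {u : G} (hu : u ∈ Mm c) : u ^ 2 ^ 2 ∈ c.O := by
  obtain ⟨a, ha, o, ho, a2, e⟩ := cent (sq_t hu) (mul_mem hu hu).1
  rw [show u ^ 2 ^ 2 = u * u * (u * u) by
    rw [← pow_two, ← pow_two, ← pow_mul]; rfl, e, mul_assoc,
    ← mul_assoc o, ha.2 o ho, ← mul_assoc, ← mul_assoc, a2, one_mul]
  exact mul_mem ho ho

variable (c) in
/-- the 2-elements of `M0` -/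
def Qq : Subgroup G where
  carrier := {q | q ∈ M0 c ∧ ∃ k : ℕ, q ^ 2 ^ k = 1}
  one_mem' := ⟨one_mem _, 0, one_pow _⟩
  mul_mem' := by
    rintro a b ⟨ha, i, h1⟩ ⟨hb, j, h2⟩
    exact ⟨mul_mem ha hb, WR.two_mul (U := M0 c) (Z := c.O)
      (fun o ho => ⟨c.Oodd o ho, fun u hu => hu.2 o ho⟩) (fun u hu => ⟨2, pow4 hu.1⟩) ha hb h1 h2⟩
  inv_mem' := by
    rintro a ⟨ha, i, h1⟩
    exact ⟨inv_mem ha, i, by rw [inv_pow, h1, inv_one]⟩

theorem onto (h : ∀ x ∈ Ev, ∃ g, c.CmV g ∧ c.Ph g x) {x : Vb} (hx : x ∈ Ev) :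
    ∃ q ∈ Qq c, c.Ph q x := by
  obtain ⟨y, hy, rfl⟩ := h_surj hx
  obtain ⟨m, mV, km⟩ := h y hy
  have hm : m ∈ Mm c := ⟨mV, y, hy, km⟩
  have lO : ∀ o ∈ c.O, Commute (c.θ (kx * ky)) o := fun o ho => c.Oc o ho _
  have kx' := Cf.Ph.mul c km (Cf.Ph.conj c (Cf.Ph.inv c km mV hy) h_mem hy) mV hy
    ((m_mem_Ev (Ns_le_Nf h_mem)).2 hy)
  have hx : m * (c.θ (kx * ky) * m⁻¹ * (c.θ (kx * ky))⁻¹) ∈ M0 c := by
    refine ⟨mul_mem hm (θ_Mm h_mem (inv_mem hm)), fun o ho => ?_⟩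
    have h1 := Mm_O (inv_mem hm) ho
    rw [inv_inv] at h1
    generalize c.θ (kx * ky) = l at lO
    symm
    calc _ = m * (l * (m⁻¹ * (l⁻¹ * o) * m)) * m⁻¹ := by group
      _ = m * (l * (m⁻¹ * o * m) * m⁻¹ * l⁻¹ * m) * m⁻¹ := by
        rw [(lO o ho).inv_left.eq]; group
      _ = _ := by rw [(lO _ h1).eq]; group
  generalize m * (c.θ (kx * ky) * m⁻¹ * (c.θ (kx * ky))⁻¹) = g at hx kx'
  obtain ⟨q, o, i, hq, ho, q2, oo, e, -⟩ := WR.exists_parts g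
  have ot : Commute o c.t := mem_centralizer_singleton_iff.1 (WR.mem_of_sq_mem oo
    (mem_centralizer_singleton_iff.2 (sq_t (zpowers_le.2 hx ho).1).eq))
  refine ⟨q, ⟨zpowers_le.2 hx hq, i, q2⟩, ?_⟩
  rw [Cf.Ph] at kx' ⊢
  rw [← kx', e, mul_assoc q o, ot.eq]
  group

end Dbl3

open Dbl3 in
theorem Cf.dbl3 (c : Cf J G) (h : ∀ x ∈ Ev, ∃ g, c.CmV g ∧ c.Ph g x) : ∃ Q, DD c Q := by
  refine ⟨Qq c, ?_, fun q hq => hq.1.1.1, fun q hq o ho => (hq.1.2 o ho).symm, fun q hq => hq.1.1.2,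
    fun x hx => onto h hx, ?_⟩
  · rintro ⟨q, hq, k, h1⟩
    exact ⟨k, Subtype.ext h1⟩
  · rintro g k h1 h2 ⟨x, hx, h3⟩
    obtain ⟨q, hq, h4⟩ := onto h hx
    obtain ⟨a, ha, o, ho, a2, e⟩ := cent (Cf.Ph.comm c h4 h3)
      fun y hy => (hq.1.1.1 y hy).inv_left.mul_left (h2 y hy)
    have hb : q * a ∈ Qq c := mul_mem hq ⟨ha, 1, by rw [pow_one, pow_two, a2]⟩
    obtain ⟨j, hj⟩ := hb.2
    rwa [WR.two_unique (c.Oodd o ho) (hb.1.2 o ho) h1 hj (by rw [mul_assoc, ← e, mul_inv_cancel_left])]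

end Cfsg.Agent.WJ
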