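import Cfsg.Agent.WJ.Cen
import Cfsg.Agent.WJ.MOct
import Cfsg.Agent.H46.Generation
import Cfsg.Agent.H18.Four

set_option autoImplicit false
set_option linter.unusedSectionVars false

namespace Cfsg.Agent.WJ

open Cfsg.Agent.SGJ4 Cfsg.Agent.J4P Cfsg.Agent.H14 AG Subgroup
open Cfsg.Agent.H42 (SylIn cj)

variable {J G : Type*} [Group J] [Group G] [Finite J] [Finite G]

namespace Frame1X

variable {c : Sp J G} {O' : Subgroup G}

theorem nv_inv {g : G} (hg : c.NV g) : c.NV g⁻¹ := c.nv_iff_mem.2 (inv_mem (c.nv_iff_mem.1 hg))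

theorem conj_O (h : Cn c O') {g o : G} (hg : c.NV g) (ho : o ∈ O') : g * o * g⁻¹ ∈ O' := by
  obtain ⟨h1, h2⟩ := (h.mem o).1 ho
  refine (h.mem _).2 ⟨fun r hr => ?_, by rwa [← (MulAut.conj g).orderOf_eq o] at h2⟩
  have := ((h1 _ (nv_inv hg r hr)).map (MulAut.conj g))
  simpa [mul_assoc] using this

theorem norm_O (h : Cn c O') {g : G} (hg : c.NV g) : g ∈ normalizer (O' : Set G) :=
  H42.mem_normalizer_of_conj_mem fun _ ho => conj_O h hg ho

theorem conj_cent (h : Cn c O') {g u : G} (hg : c.NV g) (hu : ∀ o ∈ O', Commute u o) :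
    ∀ o ∈ O', Commute (g * u * g⁻¹) o := fun o ho => by
  have := (hu _ (conj_O h (nv_inv hg) ho)).map (MulAut.conj g)
  simpa [mul_assoc] using this

theorem memO (h : Cn c O') {o : G} (ho : o ∈ O') (ht : Commute o c.t) : o ∈ c.O :=
  c.toCf.mem_O ht (fun x hx => ((h.mem o).1 ho).1 _ (c.s1.vR x hx)) ((h.mem o).1 ho).2

theorem e0_sq : e0 * e0 = 1 := (ee_mul (i := 1) (j := 1) (by decide) (by decide)).trans ee_zero

theorem e0_ne : e0 ≠ 1 := fun e =>
  absurd (ee_inj (i := 1) (j := 0) (by decide) (by decide) (e.trans ee_zero.symm)) (by decide)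

theorem exists_nc : ∃ m ∈ Ks, e0 * m * e0⁻¹ * m⁻¹ ≠ 1 := by
  by_contra! hc
  have k : ∀ m ∈ Ks, m * e0 * m⁻¹ = e0 := fun m hm => by
    have := hc m hm
    rw [mul_inv_eq_one, mul_inv_eq_iff_eq_mul] at this
    rw [← this, mul_inv_cancel_right]
  have := Ks_le (L := H18.four e0 1 e0_sq (mul_one 1) (by simp)) (b := e0) (by
    rintro a ha b (rfl | rfl | rfl | rfl) _
    · exact .inl (by simp)
    · exact .inr (.inl (k a ha))
    · exact .inl (by simp)
    · exact .inr (.inl (by rw [mul_one, k a ha]))) (ee_mem 1) (.inr (.inl rfl)) e0_ne (ee_mem 2)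
  have n0 : ee 2 ≠ 1 := fun e =>
    absurd (ee_inj (i := 2) (j := 0) (by decide) (by decide) (e.trans ee_zero.symm)) (by decide)
  have n1 : ee 2 ≠ e0 := fun e => absurd (ee_inj (i := 2) (j := 1) (by decide) (by decide) e) (by decide)
  rcases this with e | e | e | e
  exacts [n0 e, n1 e, n0 e, n1 (e.trans (mul_one _))]

theorem act_inv {g : G} {a b : AG} (ha : a ∈ Ns) (hb : b ∈ Ns) (h : c.Act g fun u w => (a.m u, b.m w)) :
    c.Act g⁻¹ fun u w => (a⁻¹.m u, b⁻¹.m w) := fun u hu w hw => by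
  have h1 := (m_mem_Ev (inv_mem ha).1).2 hu
  have h2 := (m_mem_Ev (inv_mem hb).1).2 hw
  refine ⟨h1, h2, ?_⟩
  have := (h _ h1 _ h2).2.2
  simp only [m_inv_m] at this
  rw [← this]; group

theorem act_mul {g g' : G} {a b a' b' : AG} (h : c.Act g fun u w => (a.m u, b.m w))
    (h' : c.Act g' fun u w => (a'.m u, b'.m w)) : c.Act (g * g') fun u w => ((a * a').m u, (b * b').m w) :=
  Sp.Act.congr c (Sp.Act.mul c h h') fun _ _ _ _ => rfl

theorem act_swap {g : G} {a b : AG} (h : c.Act g fun u w => (a.m u, b.m w)) :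
    c.Act (c.t * g * c.t) fun u w => (b.m u, a.m w) :=
  Sp.Act.congr c (Sp.Act.mul c (Sp.Act.mul c c.act_t h) c.act_t) fun _ _ _ _ => rfl

theorem comm_e0 (h : Cn c O') {n : G} (hn : c.NV n) (ht : n * c.t * n⁻¹ = c.t * c.θ e0) :
    O' ≤ centralizer {c.θ e0} := by
  have eN : e0 ∈ Ns := ee_mem' 1
  have sq : c.θ e0 * c.θ e0 = 1 := by rw [← c.toCf.θ_mul eN eN, e0_sq, c.toCf.θ_one]
  have k4 := H18.isKleinFour_four c.tt sq (c.toCf.θt e0).symm.eq c.toCf.t_ne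
    (fun e => e0_ne (c.toCf.θ_inj eN (one_mem _) (e.trans c.toCf.θ_one.symm)))
    (fun e => c.nfus (c.m.f e0) (isConj_iff.2 ⟨1, by rw [one_mul, inv_one, mul_one]; exact e⟩))
  have odd : ¬ 2 ∣ Nat.card O' := fun hd => by
    obtain ⟨o, ho⟩ := exists_prime_orderOf_dvd_card' 2 hd
    have := ((h.mem o).1 o.2).2
    rw [orderOf_coe, ho] at this
    exact absurd this (by decide)
  refine H46.le_of_forall_element (p := 2) (IsPGroup.of_card (n := 2) k4.card_four)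
    IsKleinFour.isMulCommutative k4.not_isCyclic odd
    (H18.four_le (norm_O h (Sp.Act.nv c c.act_t)) (norm_O h (Sp.Act.nv c (c.act_θ eN)))) ?_
  rintro a (rfl | rfl | rfl | rfl) a1 x ⟨x1, x2⟩
  · exact absurd rfl a1
  · exact mem_centralizer_singleton_iff.2
      (c.Oc x (memO h x1 (mem_centralizer_singleton_iff.1 x2)) _).symm.eq
  · exact x2
  · have pull : ∀ y, Commute y (c.t * c.θ e0) → Commute (n⁻¹ * y * n⁻¹⁻¹) c.t := fun y hy => by
      have := (ht ▸ hy).map (MulAut.conj n⁻¹)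
      simpa [mul_assoc] using this
    have x3 := memO h (conj_O h (nv_inv hn) x1) (pull x (mem_centralizer_singleton_iff.1 x2))
    obtain ⟨a, ha⟩ := c.exists_ι (g := n⁻¹ * c.θ e0 * n⁻¹⁻¹) (by rw [conj_mul, sq]; simp)
      (pull _ ((c.toCf.θt e0).mul_right (Commute.refl _)))
      (fun k => c.nfus (c.m.f e0) (k.trans (isConj_iff.2 ⟨n⁻¹, rfl⟩).symm))
    have := (ha ▸ c.Oc _ x3 a).map (MulAut.conj n)
    refine mem_centralizer_singleton_iff.2 (Commute.eq (Commute.symm ?_))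
    simpa [mul_assoc] using this

end Frame1X

open Frame1X

theorem Cn.comm_θ {c : Sp J G} {O' : Subgroup G} (h : Cn c O') {n : G} (hn : c.NV n)
    (ht : n * c.t * n⁻¹ = c.t * c.θ e0) : ∀ a ∈ Ns, ∀ o ∈ O', Commute (c.θ a) o := by
  let L : Subgroup AG :=
    { carrier := {a | a ∈ Ns ∧ ∀ o ∈ O', Commute (c.θ a) o}
      one_mem' := ⟨one_mem _, fun o _ => by rw [c.toCf.θ_one]; exact Commute.one_left o⟩
      mul_mem' := fun {a b} ha hb => ⟨mul_mem ha.1 hb.1, fun o ho => by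
        rw [c.toCf.θ_mul ha.1 hb.1]; exact (ha.2 o ho).mul_left (hb.2 o ho)⟩
      inv_mem' := fun {a} ha => ⟨inv_mem ha.1, fun o ho => by
        rw [c.toCf.θ_inv ha.1]; exact (ha.2 o ho).inv_left⟩ }
  have hK : Ks ≤ L := Ks_le (L := L) (b := e0) (fun a ha b hb _ => by
    have aN := Ks_le_Ns ha
    refine ⟨mul_mem (mul_mem aN hb.1) (inv_mem aN), ?_⟩
    rw [c.toCf.θ_conj aN hb.1]
    exact conj_cent h (Sp.Act.nv c (c.act_θ aN)) hb.2) (ee_mem 1)
    ⟨ee_mem' 1, fun o ho => (mem_centralizer_singleton_iff.1 (comm_e0 h hn ht ho)).symm⟩ e0_ne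
  intro a ha
  have : tr a.v * lin a ∈ L := mul_mem
    ⟨tr_mem_Ns.2 ha.2, fun o ho => (((h.mem o).1 ho).1 _ (c.s1.vR _ ha.2)).symm⟩ (hK (lin_mem_Ks ha.1))
  rw [tr_mul_lin] at this
  exact this.2

theorem Cn.frame1 {c : Sp J G} {O' : Subgroup G} (h : Cn c O')
    (hO : ∀ a ∈ Ns, ∀ o ∈ O', Commute (c.θ a) o) {x : G} (hx : c.Act x fun u w => (u, e0.m w)) :
    ∀ a ∈ Ks, ∃ g, (∀ o ∈ O', Commute g o) ∧ c.Act g fun u w => (a.m u, w) := by
  let L : Subgroup AG :=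
    { carrier := {a | a ∈ Ns ∧ ∃ g, (∀ o ∈ O', Commute g o) ∧
        c.Act g fun u w => (a.m u, (1 : AG).m w)}
      one_mem' := ⟨one_mem _, 1, fun o _ => Commute.one_left o,
        c.cv_iff.1 fun r _ => Commute.one_left r⟩
      mul_mem' := fun {a b} ⟨ha, g, g1, g2⟩ ⟨hb, k, k1, k2⟩ =>
        ⟨mul_mem ha hb, g * k, fun o ho => (g1 o ho).mul_left (k1 o ho), by
          have := act_mul g2 k2
          rwa [mul_one] at this⟩
      inv_mem' := fun {a} ⟨ha, g, g1, g2⟩ =>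
        ⟨inv_mem ha, g⁻¹, fun o ho => (g1 o ho).inv_left, by
          have := act_inv ha (one_mem _) g2
          rwa [inv_one] at this⟩ }
  obtain ⟨m, hm, ne⟩ := exists_nc
  have mN := Ks_le_Ns hm
  have eN : e0 ∈ Ns := ee_mem' 1
  have bK : e0 * m * e0⁻¹ * m⁻¹ ∈ Ks := mul_mem (mul_mem (mul_mem (ee_mem 1) hm) (inv_mem (ee_mem 1))) (inv_mem hm)
  have hx' : c.Act x fun u w => ((1 : AG).m u, e0.m w) := hx
  have a1 := act_mul (act_mul (act_mul hx' (c.act_θ mN)) (act_inv (one_mem _) eN hx'))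
    (act_inv mN mN (c.act_θ mN))
  have hK : Ks ≤ L := Ks_le (L := L) (fun a ha b ⟨hb, g, g1, g2⟩ _ => by
    have aN := Ks_le_Ns ha
    refine ⟨mul_mem (mul_mem aN hb) (inv_mem aN), _, conj_cent h (Sp.Act.nv c (c.act_θ aN)) g1, ?_⟩
    have := act_mul (act_mul (c.act_θ aN) g2) (act_inv aN aN (c.act_θ aN))
    rwa [mul_one, mul_inv_cancel] at this) bK
    ⟨Ks_le_Ns bK, c.t * (x * c.θ m * x⁻¹ * (c.θ m)⁻¹) * c.t⁻¹,
      conj_cent h (Sp.Act.nv c c.act_t) fun o ho =>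
        (conj_cent h (Sp.Act.nv c hx) (hO m mN) o ho).mul_left (hO m mN o ho).inv_left, by
      rw [one_mul, inv_one, mul_one, mul_inv_cancel] at a1
      rw [c.toCf.t_inv]
      exact act_swap a1⟩ ne
  exact fun a ha => (hK ha).2

end Cfsg.Agent.WJ
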