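import Cfsg.Agent.WJ.Cen
import Cfsg.Agent.H81.Hopf
import Cfsg.Agent.S2038

set_option autoImplicit false

namespace Cfsg.Agent.WJ

open Cfsg.Agent.SGJ4 Cfsg.Agent.J4P Cfsg.Agent.H14 AG Subgroup
open Cfsg.Agent.H42 (SylIn cj)
open scoped commutatorElement

namespace F2X

variable {J G : Type*} [Group J] [Group G]

/-- the first component of a homomorphism into a product of two swapped commuting subgroups -/
theorem exists_lam {H : Type*} [Group H] (M : Subgroup G) {t : G} (tt : t * t = 1) (θ : H →* G)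
    (θt : ∀ h, Commute (θ h) t)
    (hc : ∀ a ∈ M, ∀ b ∈ M, Commute a (t * b * t))
    (hi : ∀ a ∈ M, t * a * t ∈ M → a = 1)
    (hd : ∀ h, ∃ a ∈ M, ∃ b ∈ M, θ h = a * (t * b * t)) :
    ∃ lam : H →* G, (∀ h, lam h ∈ M) ∧ (∀ h, lam h * (t * lam h * t) = θ h) ∧
      ∀ h, ∀ a ∈ M, ∀ b ∈ M, θ h = a * (t * b * t) → lam h = a := by
  have ti : t⁻¹ = t := inv_eq_of_mul_eq_one_right tt
  have ttt : ∀ a : G, t * (t * a * t) * t = a := fun a => by
    rw [show t * (t * a * t) * t = (t * t) * a * (t * t) by group, tt, one_mul, mul_one]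
  have tm : ∀ a b : G, t * (a * b) * t = (t * a * t) * (t * b * t) := fun a b => by
    rw [show (t * a * t) * (t * b * t) = t * a * (t * t) * b * t by group, tt]; group
  have un : ∀ a ∈ M, ∀ b ∈ M, ∀ a' ∈ M, ∀ b' ∈ M, a * (t * b * t) = a' * (t * b' * t) →
      a = a' ∧ b = b' := by
    intro a ha b hb a' ha' b' hb' e
    have e1 : a'⁻¹ * a = t * (b' * b⁻¹) * t := by
      rw [tm, show t * b⁻¹ * t = (t * b * t)⁻¹ by rw [mul_inv_rev, mul_inv_rev, ti]; group,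
        eq_mul_inv_iff_mul_eq, mul_assoc, e]
      group
    have e2 : a'⁻¹ * a = 1 := hi _ (M.mul_mem (M.inv_mem ha') ha) (by
      rw [e1, ttt]; exact M.mul_mem hb' (M.inv_mem hb))
    have e3 : a = a' := (inv_mul_eq_one.1 e2).symm
    refine ⟨e3, ?_⟩
    rw [e3, mul_right_inj] at e
    rw [← ttt b, e, ttt]
  choose f hf g hg e using hd
  have gf : ∀ h, g h = f h := fun h => by
    have e1 : θ h = g h * (t * f h * t) := by
      have : t * θ h * t = θ h := by rw [← (θt h).eq, mul_assoc, tt, mul_one]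
      rw [← this, e h, tm, ttt, (hc _ (hg h) _ (hf h)).eq]
    exact ((un _ (hf h) _ (hg h) _ (hg h) _ (hf h) ((e h).symm.trans e1)).1).symm
  refine ⟨MonoidHom.mk' f fun x y => ?_, hf, fun h => ?_, fun h a ha b hb e' => ?_⟩
  · refine (un _ (hf _) _ (hg (x * y)) _ (M.mul_mem (hf x) (hf y)) _ (M.mul_mem (hg x) (hg y)) ?_).1
    rw [← e, map_mul, e, e, tm]
    have := (hc _ (hf y) _ (hg x)).eq
    calc f x * (t * g x * t) * (f y * (t * g y * t))
        = f x * ((t * g x * t) * f y) * (t * g y * t) := by group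
      _ = _ := by rw [← this]; group
  · show f h * (t * f h * t) = θ h
    rw [e h, gf]
  · exact (un _ (hf _) _ (hg _) _ ha _ hb ((e h).symm.trans e')).1

variable (c : Sp J G)

/-- coordinatewise action -/
def A2 (g : G) (a b : AG) : Prop := c.Act g fun u w => (a.m u, b.m w)

variable {c}

theorem A2.mul {g h : G} {a b a' b' : AG} (h1 : A2 c g a b) (h2 : A2 c h a' b') :
    A2 c (g * h) (a * a') (b * b') :=
  Sp.Act.congr c (Sp.Act.mul c (show c.Act g _ from h1) (show c.Act h _ from h2))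
    fun _ _ _ _ => by simp only [mul_m]

theorem A2.inv {g : G} {a b : AG} (h1 : A2 c g a b) (ha : a ∈ Nf) (hb : b ∈ Nf) :
    A2 c g⁻¹ a⁻¹ b⁻¹ := by
  intro x hx y hy
  have hx' := (m_mem_Ev (Nf.inv_mem ha)).2 hx
  have hy' := (m_mem_Ev (Nf.inv_mem hb)).2 hy
  refine ⟨hx', hy', ?_⟩
  have := (h1 _ hx' _ hy').2.2
  simp only [m_inv_m] at this
  rw [← this]; group

theorem A2.t {g : G} {a b : AG} (h1 : A2 c g a b) : A2 c (c.t * g * c.t) b a :=
  Sp.Act.congr c (Sp.Act.mul c (Sp.Act.mul c c.act_t (show c.Act g _ from h1)) c.act_t)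
    fun _ _ _ _ => by simp only

theorem A2.one_iff {g : G} : A2 c g 1 1 ↔ c.CV g := c.cv_iff.symm

theorem A2.unique {g : G} {a b a' b' : AG} (h1 : A2 c g a b) (h2 : A2 c g a' b') (ha : a ∈ Ks)
    (hb : b ∈ Ks) (ha' : a' ∈ Ks) (hb' : b' ∈ Ks) : a = a' ∧ b = b' := by
  have k : ∀ a ∈ Ks, ∀ a' ∈ Ks, (∀ x ∈ Ev, a.m x = a'.m x) → a = a' := fun a ha a' ha' h => by
    have h3 := Ks.mul_mem (Ks.inv_mem ha') ha
    have := lin_eq_one_of_Ev h3.1 fun v hv => by rw [mul_m, h v hv, inv_m_m]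
    rw [lin_eq_self.2 h3.2] at this
    exact (inv_mul_eq_one.1 this).symm
  exact ⟨k _ ha _ ha' fun x hx => congrArg Prod.fst (Sp.Act.unique c h1 h2 x hx 0 Ev.zero_mem),
    k _ hb _ hb' fun x hx => congrArg Prod.snd (Sp.Act.unique c h1 h2 0 Ev.zero_mem x hx)⟩

variable (c) (O' : Subgroup G)

/-- coordinatewise action and centralising `O'` -/
def D : Subgroup G where
  carrier := {g | (∀ o ∈ O', Commute g o) ∧ ∃ a ∈ Ks, ∃ b ∈ Ks, A2 c g a b}
  one_mem' := ⟨fun o _ => Commute.one_left o, 1, Ks.one_mem, 1, Ks.one_mem,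
    A2.one_iff.2 fun r _ => Commute.one_left r⟩
  mul_mem' := by
    rintro g h ⟨h1, a, ha, b, hb, h2⟩ ⟨h3, a', ha', b', hb', h4⟩
    exact ⟨fun o ho => (h1 o ho).mul_left (h3 o ho), _, Ks.mul_mem ha ha', _, Ks.mul_mem hb hb',
      h2.mul h4⟩
  inv_mem' := by
    rintro g ⟨h1, a, ha, b, hb, h2⟩
    exact ⟨fun o ho => (h1 o ho).inv_left, _, Ks.inv_mem ha, _, Ks.inv_mem hb, h2.inv ha.1 hb.1⟩

/-- action on the first coordinate only -/
def D1 : Subgroup G where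
  carrier := {g | (∀ o ∈ O', Commute g o) ∧ ∃ a ∈ Ks, A2 c g a 1}
  one_mem' := ⟨fun o _ => Commute.one_left o, 1, Ks.one_mem,
    A2.one_iff.2 fun r _ => Commute.one_left r⟩
  mul_mem' := by
    rintro g h ⟨h1, a, ha, h2⟩ ⟨h3, a', ha', h4⟩
    exact ⟨fun o ho => (h1 o ho).mul_left (h3 o ho), _, Ks.mul_mem ha ha', by
      simpa only [mul_one] using h2.mul h4⟩
  inv_mem' := by
    rintro g ⟨h1, a, ha, h2⟩
    exact ⟨fun o ho => (h1 o ho).inv_left, _, Ks.inv_mem ha, by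
      simpa only [inv_one] using h2.inv ha.1 Nf.one_mem⟩

/-- the first factor of `V*` -/
def V1 : Subgroup G where
  carrier := {g | ∃ x ∈ Ev, g = c.s x}
  one_mem' := ⟨0, Ev.zero_mem, c.s_zero.symm⟩
  mul_mem' := by
    rintro _ _ ⟨x, hx, rfl⟩ ⟨y, hy, rfl⟩
    exact ⟨_, Ev.add_mem hx hy, (c.sec.add x hx y hy).symm⟩
  inv_mem' := by
    rintro _ ⟨x, hx, rfl⟩
    exact ⟨x, hx, inv_eq_of_mul_eq_one_right (c.s1.sq _ (c.sec.mem x hx))⟩

/-- the first factor of the product -/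
def M1 : Subgroup G := ⁅D1 c O', D1 c O'⁆ ⊔ V1 c

variable {c O'}

theorem D1_le : D1 c O' ≤ D c O' := fun _ ⟨h1, a, ha, h2⟩ => ⟨h1, a, ha, 1, Ks.one_mem, h2⟩

theorem conj_D1 {h g : G} (hh : h ∈ D c O') (hg : g ∈ D1 c O') : h * g * h⁻¹ ∈ D1 c O' := by
  obtain ⟨h1, a, ha, b, hb, h2⟩ := hh
  obtain ⟨h3, a', ha', h4⟩ := hg
  refine ⟨fun o ho => ((h1 o ho).mul_left (h3 o ho)).mul_left (h1 o ho).inv_left, _,
    Ks.mul_mem (Ks.mul_mem ha ha') (Ks.inv_mem ha), ?_⟩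
  simpa only [mul_one, mul_inv_cancel] using (h2.mul h4).mul (h2.inv ha.1 hb.1)

theorem conj_V1 {h g : G} (hh : h ∈ D c O') (hg : g ∈ V1 c) : h * g * h⁻¹ ∈ V1 c := by
  obtain ⟨-, a, ha, b, hb, h2⟩ := hh
  obtain ⟨x, hx, rfl⟩ := hg
  obtain ⟨h3, -, h4⟩ := h2 x hx 0 Ev.zero_mem
  refine ⟨_, h3, ?_⟩
  simpa only [map_zero, Sp.P_left] using h4

theorem conj_M1 {h g : G} (hh : h ∈ D c O') (hg : g ∈ M1 c O') : h * g * h⁻¹ ∈ M1 c O' := by
  have : M1 c O' ≤ (M1 c O').comap (MulAut.conj h).toMonoidHom := by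
    refine sup_le (commutator_le.2 fun x hx y hy => ?_) fun x hx => ?_
    · rw [mem_comap, map_commutatorElement]
      exact mem_sup_left (commutator_mem_commutator (conj_D1 hh hx) (conj_D1 hh hy))
    · exact mem_sup_right (conj_V1 hh hx)
  exact this hg

section
variable (h : Cn c O')
include h

theorem R_le : c.R ≤ D1 c O' := fun _ hr =>
  ⟨fun o ho => (((h.mem o).1 ho).1 _ hr).symm, 1, Ks.one_mem,
    A2.one_iff.2 fun _ hr' => c.R_comm hr hr'⟩

theorem M1_le : M1 c O' ≤ D1 c O' :=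
  sup_le (commutator_le.2 fun _ hx _ hy =>
    mul_mem (mul_mem (mul_mem hx hy) (inv_mem hx)) (inv_mem hy)) fun _ ⟨x, hx, e⟩ => R_le h (e ▸ c.sec.mem x hx)

theorem t_O {o : G} (ho : o ∈ O') : c.t * o * c.t ∈ O' := by
  obtain ⟨h1, h2⟩ := (h.mem o).1 ho
  refine (h.mem _).2 ⟨A2.one_iff.1 (A2.one_iff.2 h1).t, ?_⟩
  have : c.t * o * c.t = MulAut.conj c.t o := by rw [MulAut.conj_apply, c.toCf.t_inv]
  rwa [this, MulEquiv.orderOf_eq]

theorem t_D {g : G} (hg : g ∈ D c O') : c.t * g * c.t ∈ D c O' := by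
  obtain ⟨h1, a, ha, b, hb, h2⟩ := hg
  refine ⟨fun o ho => ?_, b, hb, a, ha, h2.t⟩
  have := ((h1 _ (t_O h ho)).map (MulAut.conj c.t))
  simp only [MulAut.conj_apply, c.toCf.t_inv] at this
  rwa [show c.t * (c.t * o * c.t) * c.t = (c.t * c.t) * o * (c.t * c.t) by group, c.tt, one_mul,
    mul_one] at this

/-- the Schur multiplier of `M₂₄` is trivial -/
theorem mem_V1 {g : G} (hg : g ∈ M1 c O') (h1 : ∀ a ∈ Ks, ∃ g ∈ D1 c O', A2 c g a 1)
    (hc : c.CV g) : g ∈ V1 c := by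
  have k : ∀ g : D1 c O', ∃ a : Ks, A2 c g a 1 := fun g =>
    let ⟨a, ha, e⟩ := g.2.2; ⟨⟨a, ha⟩, e⟩
  choose f hf using k
  have un : ∀ (g : D1 c O') (a : Ks), A2 c g a 1 → f g = a := fun g a e =>
    Subtype.ext ((hf g).unique e (f g).2 Ks.one_mem a.2 Ks.one_mem).1
  let π : D1 c O' →* Ks := MonoidHom.mk' f fun x y => un _ _ (by
    simpa only [mul_one, coe_mul] using (hf x).mul (hf y))
  let W : Subgroup (D1 c O') := (V1 c).subgroupOf (D1 c O')
  haveI : W.Normal := ⟨fun n hn g => conj_V1 (D1_le g.2) hn⟩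
  have hW : W ≤ (ksEquiv.toMonoidHom.comp π).ker := by
    rintro n ⟨x, hx, e⟩
    have e' : (n : G) = c.s x := e
    have : π n = 1 := un _ _ (A2.one_iff.2 fun r hr => by
      rw [e']; exact c.R_comm (c.sec.mem x hx) hr)
    rw [MonoidHom.mem_ker, MonoidHom.comp_apply, this, map_one]
  let ξ := QuotientGroup.lift W (ksEquiv.toMonoidHom.comp π) hW
  have hs : Function.Surjective ξ := fun y => by
    obtain ⟨a, rfl⟩ := ksEquiv.surjective y
    obtain ⟨g, hg, e⟩ := h1 a a.2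
    exact ⟨QuotientGroup.mk ⟨g, hg⟩, congrArg ksEquiv (un ⟨g, hg⟩ a e)⟩
  have hk : ∀ n : D1 c O', ξ (QuotientGroup.mk n) = 1 ↔ c.CV n := fun n => by
    rw [← A2.one_iff]
    constructor
    · intro e
      have e1 : ksEquiv (f n) = 1 := e
      have := hf n
      rwa [(map_eq_one_iff _ ksEquiv.injective).1 e1] at this
    · intro e
      exact (congrArg ksEquiv (un n 1 e)).trans (map_one _)
  have hz : ξ.ker ≤ center _ := by
    intro q hq
    obtain ⟨n, rfl⟩ := QuotientGroup.mk_surjective q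
    rw [mem_center_iff]
    intro q'
    obtain ⟨g, rfl⟩ := QuotientGroup.mk_surjective q'
    obtain ⟨r, hr, o, ho, e⟩ := h.dec _ ((hk n).1 hq)
    obtain ⟨x, hx, y, hy, rfl⟩ := c.exists_P hr
    obtain ⟨h3, -, h4⟩ := hf g x hx y hy
    rw [← commutatorElement_eq_one_iff_mul_comm, commutatorElement_def, ← QuotientGroup.mk_mul,
      ← QuotientGroup.mk_inv, ← QuotientGroup.mk_inv, ← QuotientGroup.mk_mul,
      ← QuotientGroup.mk_mul, QuotientGroup.eq_one_iff]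
    refine ⟨_, Ev.add_mem h3 hx, ?_⟩
    show (g : G) * n * (g : G)⁻¹ * (n : G)⁻¹ = _
    have h5 := c.P_add h3 hy hx hy
    rw [Vb.add_self, c.P_left] at h5
    have h6 : (c.P x y)⁻¹ = c.P x y := inv_eq_of_mul_eq_one_right (c.s1.sq _ (c.P_mem hx hy))
    simp only [one_m] at h4
    rw [h5, ← h4, e, mul_inv_rev, h6, show (g : G) * (c.P x y * o) * (g : G)⁻¹ =
      (g : G) * c.P x y * (o * (g : G)⁻¹) by group, ← (g.2.1 o ho).inv_left.eq]
    group
  have := H81.ker_inf_commutator_eq_bot S2038.result hs hz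
  have h2 : M1 c O' ≤ (((commutator _).comap (QuotientGroup.mk' W))).map (D1 c O').subtype := by
    refine sup_le (commutator_le.2 fun x hx y hy => ⟨⁅(⟨x, hx⟩ : D1 c O'), ⟨y, hy⟩⁆, ?_, rfl⟩) fun x hx => ?_
    · rw [SetLike.mem_coe, mem_comap, map_commutatorElement]
      exact commutator_mem_commutator (mem_top _) (mem_top _)
    · refine ⟨⟨x, M1_le h (mem_sup_right hx)⟩, ?_, rfl⟩
      rw [SetLike.mem_coe, mem_comap, QuotientGroup.mk'_apply,
        (QuotientGroup.eq_one_iff (N := W) _).2 hx]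
      exact one_mem _
  obtain ⟨n, hn, rfl⟩ := h2 hg
  have h3 : (QuotientGroup.mk n : D1 c O' ⧸ W) ∈ ξ.ker ⊓ commutator _ := ⟨(hk n).2 hc, hn⟩
  rw [this, mem_bot, QuotientGroup.eq_one_iff] at h3
  exact h3

end

end F2X

open F2X

variable {J G : Type*} [Group J] [Group G] [Finite J] [Finite G]

theorem Cn.frame2 {c : Sp J G} {O' : Subgroup G} (h : Cn c O')
    (hO : ∀ a ∈ Ns, ∀ o ∈ O', Commute (c.θ a) o)
    (h1 : ∀ a ∈ Ks, ∃ g, (∀ o ∈ O', Commute g o) ∧ c.Act g fun u w => (a.m u, w)) :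
    ∃ lam, HF c lam := by
  have h1' : ∀ a ∈ Ks, ∃ g ∈ D1 c O', A2 c g a 1 := fun a ha =>
    let ⟨g, e, e'⟩ := h1 a ha; ⟨g, ⟨e, a, ha, e'⟩, e'⟩
  have ti := c.toCf.t_inv
  have ttt : ∀ a : G, c.t * (c.t * a * c.t) * c.t = a := fun a => by
    rw [show c.t * (c.t * a * c.t) * c.t = (c.t * c.t) * a * (c.t * c.t) by group, c.tt, one_mul,
      mul_one]
  have tm : ∀ a b : G, c.t * (a * b) * c.t = (c.t * a * c.t) * (c.t * b * c.t) := fun a b => by
    rw [show (c.t * a * c.t) * (c.t * b * c.t) = c.t * a * (c.t * c.t) * b * c.t by group, c.tt]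
    group
  have tv : ∀ a : G, c.t * a⁻¹ * c.t = (c.t * a * c.t)⁻¹ := fun a => by
    rw [mul_inv_rev, mul_inv_rev, ti]; group
  have hi : ∀ a ∈ M1 c O', c.t * a * c.t ∈ M1 c O' → a = 1 := by
    intro a ha ha'
    obtain ⟨-, α, hα, e⟩ := M1_le h ha
    obtain ⟨-, β, hβ, e'⟩ := M1_le h ha'
    obtain ⟨e1, e2⟩ := e.t.unique e' Ks.one_mem hα hβ Ks.one_mem
    rw [e2] at e
    rw [← e1] at e'
    obtain ⟨x, hx, e3⟩ := mem_V1 h ha h1' (A2.one_iff.1 e)
    obtain ⟨y, hy, e4⟩ := mem_V1 h ha' h1' (A2.one_iff.1 e')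
    have : c.P x 0 = c.P 0 y := by rw [c.P_left, c.P_right, ← e4, ttt, e3]
    rw [e3, (c.P_inj hx Ev.zero_mem Ev.zero_mem hy this).1, c.s_zero]
  have MD : M1 c O' ≤ D c O' := (M1_le h).trans D1_le
  have hc : ∀ a ∈ M1 c O', ∀ b ∈ M1 c O', Commute a (c.t * b * c.t) := by
    intro a ha b hb
    rw [← commutatorElement_eq_one_iff_commute]
    refine hi _ ?_ ?_
    · have := (M1 c O').mul_mem ha (conj_M1 (t_D h (MD hb)) ((M1 c O').inv_mem ha))
      rwa [commutatorElement_def, mul_assoc, mul_assoc, ← mul_assoc (c.t * b * c.t)]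
    · have := (M1 c O').mul_mem (conj_M1 (t_D h (MD ha)) hb) ((M1 c O').inv_mem hb)
      rwa [commutatorElement_def, tm, tm, tm, tv, tv, ttt]
  -- the first factor covers `M₂₄`
  have hK : ∀ a ∈ Ks, ∃ n ∈ M1 c O', A2 c n a 1 := by
    let L : Subgroup AG :=
      { carrier := {a | a ∈ Ks ∧ ∃ n ∈ M1 c O', A2 c n a 1}
        one_mem' := ⟨Ks.one_mem, 1, one_mem _, A2.one_iff.2 fun r _ => Commute.one_left r⟩
        mul_mem' := by
          rintro a b ⟨ha, n, hn, e⟩ ⟨hb, n', hn', e'⟩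
          exact ⟨Ks.mul_mem ha hb, _, mul_mem hn hn', by simpa only [mul_one] using e.mul e'⟩
        inv_mem' := by
          rintro a ⟨ha, n, hn, e⟩
          exact ⟨Ks.inv_mem ha, _, inv_mem hn, by
            simpa only [inv_one] using e.inv ha.1 Nf.one_mem⟩ }
    have : (⊤ : Subgroup Ns) ≤ L.comap (lin.comp Ns.subtype) := by
      rw [← perfect_Ns]
      refine commutator_le.2 fun x _ y _ => ?_
      have hx := lin_mem_Ks x.2.1
      have hy := lin_mem_Ks y.2.1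
      obtain ⟨g, hg, e⟩ := h1' _ hx
      obtain ⟨g', hg', e'⟩ := h1' _ hy
      rw [mem_comap, map_commutatorElement]
      refine ⟨mul_mem (mul_mem (mul_mem hx hy) (inv_mem hx)) (inv_mem hy), ⁅g, g'⁆,
        mem_sup_left (commutator_mem_commutator hg hg'), ?_⟩
      have := ((e.mul e').mul (e.inv hx.1 Nf.one_mem)).mul (e'.inv hy.1 Nf.one_mem)
      simp only [mul_one, inv_one] at this
      exact this
    intro a ha
    have h2 := (this (mem_top ⟨a, Ks_le_Ns ha⟩)).2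
    rwa [show (lin.comp Ns.subtype) ⟨a, Ks_le_Ns ha⟩ = a from lin_eq_self.2 ha.2] at h2
  let L : Subgroup G :=
    { carrier := {g | ∃ a ∈ M1 c O', ∃ b ∈ M1 c O', g = a * (c.t * b * c.t)}
      one_mem' := ⟨1, one_mem _, 1, one_mem _, by rw [mul_one, one_mul, c.tt]⟩
      mul_mem' := by
        rintro _ _ ⟨a, ha, b, hb, rfl⟩ ⟨a', ha', b', hb', rfl⟩
        refine ⟨_, mul_mem ha ha', _, mul_mem hb hb', ?_⟩
        rw [tm]
        have := (hc _ ha' _ hb).eq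
        calc a * (c.t * b * c.t) * (a' * (c.t * b' * c.t))
            = a * ((c.t * b * c.t) * a') * (c.t * b' * c.t) := by group
          _ = _ := by rw [← this]; group
      inv_mem' := by
        rintro _ ⟨a, ha, b, hb, rfl⟩
        refine ⟨_, inv_mem ha, _, inv_mem hb, ?_⟩
        rw [(hc _ ha _ hb).eq, mul_inv_rev, tv] }
  have LD : L ≤ D c O' := by
    rintro _ ⟨a, ha, b, hb, rfl⟩
    exact mul_mem (MD ha) (t_D h (MD hb))
  have hdec : ∀ g ∈ D c O', ∃ l ∈ L, ∃ z ∈ O', g = l * z := by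
    rintro g ⟨-, a, ha, b, hb, e⟩
    obtain ⟨n, hn, e1⟩ := hK a ha
    obtain ⟨n', hn', e2⟩ := hK b hb
    have e3 := e1.mul e2.t
    rw [mul_one, one_mul] at e3
    obtain ⟨r, hr, o, ho, e4⟩ := h.dec _ (Sp.Act.cv c e3 e)
    obtain ⟨x, hx, y, hy, rfl⟩ := c.exists_P hr
    refine ⟨_, L.mul_mem ⟨n, hn, n', hn', rfl⟩ ⟨c.s x, mem_sup_right ⟨x, hx, rfl⟩, c.s y,
      mem_sup_right ⟨y, hy, rfl⟩, rfl⟩, o, ho, ?_⟩
    rw [mul_assoc, ← Sp.P, ← e4, mul_inv_cancel_left]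
  let θ : Ns →* G := MonoidHom.mk' (fun a => c.θ a) fun a b => c.toCf.θ_mul a.2 b.2
  have θD : ∀ a : Ns, θ a ∈ D c O' := fun a =>
    ⟨hO a a.2, _, lin_mem_Ks a.2.1, _, lin_mem_Ks a.2.1, c.act_θ a.2⟩
  have hL : (⊤ : Subgroup Ns) ≤ L.comap θ := by
    rw [← perfect_Ns]
    refine commutator_le.2 fun x _ y _ => ?_
    obtain ⟨l, hl, z, hz, e⟩ := hdec _ (θD x)
    obtain ⟨l', hl', z', hz', e'⟩ := hdec _ (θD y)
    rw [mem_comap, map_commutatorElement]
    have c1 : Commute (θ y) z := (θD y).1 z hz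
    have c2 : Commute l z' := (LD hl).1 z' hz'
    have : ⁅θ x, θ y⁆ = ⁅l, l'⁆ := by
      rw [e, commutatorElement_def, commutatorElement_def,
        show l * z * θ y * (l * z)⁻¹ = l * (z * θ y * z⁻¹) * l⁻¹ by group, ← c1.eq,
        mul_inv_cancel_right, e',
        show l * (l' * z') * l⁻¹ * (l' * z')⁻¹ = l * l' * (z' * l⁻¹ * z'⁻¹) * l'⁻¹ by group,
        ← c2.inv_left.eq, mul_inv_cancel_right]
    rw [this]
    exact mul_mem (mul_mem (mul_mem hl hl') (inv_mem hl)) (inv_mem hl')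
  obtain ⟨lam, l1, l2, l3⟩ := exists_lam (M1 c O') c.tt θ (fun a => c.toCf.θt a) hc hi
    fun a => hL (mem_top a)
  have lm : ∀ a, ex lam a ∈ M1 c O' := fun a => by
    obtain ⟨b, e⟩ := ex_mem_range (φ := lam) a
    exact e ▸ l1 b
  refine ⟨lam, fun a b => hc _ (lm a) _ (lm b), fun a ha => ?_, fun a o ho => ?_, fun x hx => ?_⟩
  · rw [ex_eq ha]; exact l2 _
  · exact (M1_le h (lm a)).1 o ((h.mem o).2 ⟨c.cv_O ho, c.Oodd o ho⟩)
  · rw [ex_eq (tr_mem_Ns.2 hx)]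
    exact l3 _ _ (mem_sup_right ⟨x, hx, rfl⟩) _ (mem_sup_right ⟨x, hx, rfl⟩) (c.P_diag hx).symm

end Cfsg.Agent.WJ
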