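import Cfsg.Agent.WJ.Base
import Cfsg.Agent.WJ.MOct

/-! Project WJ: the homocyclic case is impossible. -/

set_option autoImplicit false

namespace Cfsg.Agent.WJ

open Cfsg.Agent.SGJ4 Cfsg.Agent.J4P Cfsg.Agent.H14 AG Subgroup
open Cfsg.Agent.H42 (SylIn cj)

variable {J G : Type*} [Group J] [Group G] [Finite J] [Finite G]

namespace Ho

/-- elements of order seven that normalise the three hyperplanes -/
def lL : List ℕ := [nat_lit 0x8001ede3a0087b4ecc49f0803dac75010200b9d6f49833402156a996951c488ca2,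
  nat_lit 0x8001ed1000800403dad4b200010b66002e3ab9e9392055815ab49acf5300470471,
  nat_lit 0x8001edecce3a4000080040807b449f010b1db9ccbb3dd34860a64a88ab40489443]

theorem inS_lL (i : ℕ) : InS Ks (nthD lL cone i) := by
  by_cases h : i < 3
  · exact inS_Ks (allN_iff.1 (show allN 3 (fun i => inKs (nthD lL cone i)) = true by
      decide +kernel) i h)
  · rw [OfS.nthD_ge (show lL.length ≤ i from not_lt.1 h)]
    exact InS.one _

noncomputable def l (i : ℕ) : AG := ofC (nthD lL cone i)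

theorem l_mem (i : ℕ) : l i ∈ Ns := Ks_le_Ns (inS_lL i).ofC_mem
theorem cd_l (i : ℕ) : cd (l i) = nthD lL cone i := (inS_lL i).cd_ofC

/-- index of the `j`-th element of the `k`-th hyperplane -/
def ix (k j : ℕ) : ℕ := j % 4 + 4 * (k + 1) * (j / 4)

def pi1 (j : ℕ) : ℕ := [0, 2, 4, 6, 3, 1, 7, 5].getD j 0

def pi2 (j : ℕ) : ℕ := [1, 0, 3, 2, 5, 4, 7, 6].getD j 0

theorem l_ee {k j : ℕ} (hk : k < 3) (hj : j < 8) : l k * ee (ix k j) = ee (ix k (pi1 j)) * l k := by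
  rw [← cd_inj, cd_mul, cd_mul, cd_l, cd_ee, cd_ee]
  exact beq_iff.1 (allN_iff.1 (allN_iff.1 (show allN 3 (fun k => allN 8 fun j =>
    Nat.beq (cmul (nthD lL cone k) (nthD eL cone (ix k j)))
      (cmul (nthD eL cone (ix k (pi1 j))) (nthD lL cone k))) = true by decide +kernel) k hk) j hj)

theorem e_ee {k j : ℕ} (hk : k < 3) (hj : j < 8) : ee 1 * ee (ix k j) = ee (ix k (pi2 j)) := by
  have : ∀ k < 3, ∀ j < 8, ix k j < 16 ∧ 1 ^^^ ix k j = ix k (pi2 j) := by decide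
  rw [ee_mul (by decide) (this k hk j hj).1, (this k hk j hj).2]

theorem sum_val (n : ℕ) (f : ℕ → Vb) :
    (∑ j ∈ Finset.range n, f j).val = Nat.rec 0 (fun j ih => Nat.xor ih (f j).val) n := by
  induction n with
  | zero => rfl
  | succ n ih => rw [Finset.sum_range_succ, Vb.val_add, ih]; rfl

theorem sum8 {k : ℕ} (hk : k < 3) (u : Vb) : ∑ j ∈ Finset.range 8, (ee (ix k j)).m u = 0 := by
  induction u using Vb.induction with
  | h0 => simp
  | ha a b h1 h2 => simp only [map_add, Finset.sum_add_distrib, h1, h2, add_zero]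
  | he i hi =>
    refine Vb.ext ?_
    rw [sum_val]
    simp only [val_m, cd_ee, val_e hi]
    exact beq_iff.1 (allN_iff.1 (allN_iff.1 (show allN 3 (fun k => allN 12 fun i => Nat.beq
      (Nat.rec 0 (fun j ih => Nat.xor ih (ap (cA (nthD eL cone (ix k j))) (2 ^ i))) 8) 0) = true by
        decide +kernel) k hk) i hi)

theorem sum4 : ∑ j ∈ Finset.range 4, (ee j).m (Vb.of 435) ≠ 0 := fun e => by
  have := congrArg Vb.val e
  rw [sum_val] at this
  simp only [val_m, cd_ee] at this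
  revert this
  decide +kernel

theorem l_v0 {k : ℕ} (hk : k < 3) : (l k).m (Vb.of 435) = Vb.of 435 := by
  refine Vb.ext ?_
  rw [val_m, cd_l]
  exact beq_iff.1 (allN_iff.1 (show allN 3 (fun k => Nat.beq (ap (cA (nthD lL cone k)) (Vb.of 435).val)
    (Vb.of 435).val) = true by decide +kernel) k hk)

theorem fix0 {k : ℕ} (hk : k < 3) {x : Vb} (hx : x ∈ Ev) (h1 : (ee 1).m x = x) (h2 : (l k).m x = x) :
    x = 0 := by
  have e1 := congrArg Vb.val h1
  have e2 := congrArg Vb.val h2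
  rw [val_m, cd_ee] at e1
  rw [val_m, cd_l] at e2
  exact Vb.ext (beq_iff.1 (bimp_iff.1 (bimp_iff.1 (allN_iff.1 (bimp_iff.1 (all2_iff.1 (show all2 64 64
    (fun x => bimp (Nat.beq (ap (cA (nthD eL cone 1)) x) x) (allN 3 fun k =>
      bimp (Nat.beq (ap (cA (nthD lL cone k)) x) x) (bimp (Nat.beq (pn x) 0) (Nat.beq x 0)))) = true by
    decide +kernel) x.val x.lt) (beq_iff.2 e1)) k hk) (beq_iff.2 e2)) (beq_iff.2 (mem_Ev'.1 hx))))

theorem reidx {M : Type*} [CommMonoid M] (π : ℕ → ℕ) (h : (Finset.range 8).image π = Finset.range 8)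
    (f : ℕ → M) : ∏ j ∈ Finset.range 8, f (π j) = ∏ j ∈ Finset.range 8, f j := by
  conv_rhs => rw [← h]
  rw [Finset.prod_image (Finset.card_image_iff.1 (by rw [h]))]

theorem abs {M : Type*} [CommGroup M] (A : AG → M →* M) (ν : Vb → M)
    (hA : ∀ a ∈ Ns, ∀ b ∈ Ns, ∀ m, A (a * b) m = A a (A b m))
    (hν : ∀ x ∈ Ev, ∀ y ∈ Ev, ν (x + y) = ν x * ν y) (h0 : ν 0 = 1)
    (hi : ∀ x ∈ Ev, ∀ y ∈ Ev, ν x = ν y → x = y)
    (hAν : ∀ a ∈ Ns, ∀ x ∈ Ev, A a (ν x) = ν (a.m x))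
    (ker : ∀ m, m * m = 1 → ∃ x ∈ Ev, m = ν x) {r : M} (hr : r * r = ν (Vb.of 435)) : False := by
  have v0 : Vb.of 435 ∈ Ev := mem_Ev'.2 (by decide +kernel)
  have mE : ∀ i, ∀ x ∈ Ev, (ee i).m x ∈ Ev := fun i x hx => (m_mem_Ev (ee_mem i).1).2 hx
  have ps : ∀ (f : ℕ → ℕ) (n : ℕ), ∀ x ∈ Ev, ∏ j ∈ Finset.range n, A (ee (f j)) (ν x) =
      ν (∑ j ∈ Finset.range n, (ee (f j)).m x) := fun f n x hx => by
    induction n with
    | zero => simp [h0]
    | succ n ih =>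
      rw [Finset.prod_range_succ, Finset.sum_range_succ, ih, hAν _ (ee_mem' _) x hx,
        hν _ (sum_mem fun j _ => mE _ x hx) _ (mE _ x hx)]
  have key : ∀ k < 3, ∏ j ∈ Finset.range 8, A (ee (ix k j)) r = 1 := fun k hk => by
    have nv : ∀ x ∈ Ev, ∏ j ∈ Finset.range 8, A (ee (ix k j)) (ν x) = 1 := fun x hx => by
      rw [ps _ _ x hx, sum8 hk, h0]
    obtain ⟨x, hx, e⟩ := ker (∏ j ∈ Finset.range 8, A (ee (ix k j)) r) (by
      rw [← Finset.prod_mul_distrib]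
      simp only [← map_mul, hr]
      exact nv _ v0)
    obtain ⟨u, hu, eu⟩ := ker (A (l k) r * r⁻¹) (by
      rw [mul_mul_mul_comm, ← map_mul, ← mul_inv, hr, hAν _ (l_mem k) _ v0, l_v0 hk, mul_inv_cancel])
    have e1 : A (ee 1) (ν x) = ν x := by
      rw [← e, map_prod, ← reidx pi2 (by decide) fun j => A (ee (ix k j)) r]
      exact Finset.prod_congr rfl fun j hj => by
        rw [← hA _ (ee_mem' _) _ (ee_mem' _), e_ee hk (Finset.mem_range.1 hj)]
    have e2 : A (l k) (ν x) = ν x := by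
      rw [← e, map_prod, ← mul_one (∏ j ∈ Finset.range 8, A (ee (ix k j)) r), ← nv u hu,
        ← Finset.prod_mul_distrib, ← reidx pi1 (by decide) fun j => A (ee (ix k j)) r * A (ee (ix k j)) (ν u)]
      exact Finset.prod_congr rfl fun j hj => by
        rw [← hA _ (l_mem k) _ (ee_mem' _), l_ee hk (Finset.mem_range.1 hj), hA _ (ee_mem' _) _ (l_mem k),
          ← map_mul, ← eu, mul_comm r, inv_mul_cancel_right]
    rw [hAν _ (ee_mem' 1) x hx] at e1
    rw [hAν _ (l_mem k) x hx] at e2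
    rw [e, fix0 hk hx (hi _ (mE 1 x hx) _ hx e1) (hi _ ((m_mem_Ev (l_mem k).1).2 hx) _ hx e2), h0]
  obtain ⟨s, hs⟩ : ∃ s, s = ∏ j ∈ Finset.range 4, A (ee j) r := ⟨_, rfl⟩
  have k2 : ∀ k < 3, s * A (ee (4 * (k + 1))) s = 1 := fun k hk => by
    have t : ∀ k < 3, ∀ j < 4, ix k j = j ∧ 4 * (k + 1) < 16 ∧ j < 16 ∧ 4 * (k + 1) ^^^ j = ix k (4 + j) := by
      decide
    rw [← key k hk, show 8 = 4 + 4 from rfl, Finset.prod_range_add, hs, map_prod]
    refine congrArg₂ (· * ·) (Finset.prod_congr rfl fun j hj => ?_) (Finset.prod_congr rfl fun j hj => ?_)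
    · rw [(t k hk j (Finset.mem_range.1 hj)).1]
    · obtain ⟨-, t1, t2, t3⟩ := t k hk j (Finset.mem_range.1 hj)
      rw [← hA _ (ee_mem' _) _ (ee_mem' _), ee_mul t1 t2, t3]
  have a1 : A (ee 4) s = s⁻¹ := eq_inv_of_mul_eq_one_right (k2 0 (by decide))
  have a2 : A (ee 8) s = s⁻¹ := eq_inv_of_mul_eq_one_right (k2 1 (by decide))
  have a3 : s * A (ee 12) s = 1 := k2 2 (by decide)
  rw [show ee 12 = ee 4 * ee 8 from (ee_mul (i := 4) (j := 8) (by decide) (by decide)).symm,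
    hA _ (ee_mem' _) _ (ee_mem' _), a2, map_inv, a1, inv_inv, hs, ← Finset.prod_mul_distrib] at a3
  simp only [← map_mul, hr] at a3
  rw [ps (fun j => j) 4 _ v0, ← h0] at a3
  exact sum4 (hi _ (sum_mem fun j _ => mE _ _ v0) _ Ev.zero_mem a3)

end Ho

theorem HC.elim {c : Cf J G} {R : Subgroup G} (h : HC c R) : False := by
  classical
  letI : CommGroup R :=
    { (inferInstance : Group R) with mul_comm := fun a b => Subtype.ext (h.comm a a.2 b b.2) }
  have vR : ∀ x ∈ Ev, c.v x ∈ R := fun x hx => by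
    obtain ⟨r, hr, e⟩ := h.onto x hx
    exact e ▸ mul_mem hr hr
  obtain ⟨A, hA⟩ : ∃ A : AG → R →* R, ∀ a ∈ Ns, ∀ m, (A a m : G) = c.θ a * m * (c.θ a)⁻¹ :=
    ⟨fun a => if ha : a ∈ Ns then MonoidHom.mk' (fun m => ⟨_, h.norm a ha m m.2⟩)
      (fun m n => Subtype.ext (by simp only [coe_mul]; group)) else 1,
      fun a ha m => by simp only [dif_pos ha]; rfl⟩
  obtain ⟨ν, hν⟩ : ∃ ν : Vb → R, ∀ x ∈ Ev, (ν x : G) = c.v x :=
    ⟨fun x => if hx : x ∈ Ev then ⟨_, vR x hx⟩ else 1, fun x hx => by simp only [dif_pos hx]⟩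
  have v0 : Vb.of 435 ∈ Ev := mem_Ev'.2 (by decide +kernel)
  obtain ⟨r, hr, e⟩ := h.onto _ v0
  refine Ho.abs A ν (fun a ha b hb m => Subtype.ext ?_) (fun x hx y hy => Subtype.ext ?_)
    (Subtype.ext ?_) (fun x hx y hy e => ?_) (fun a ha x hx => Subtype.ext ?_) (fun m hm => ?_)
    (r := ⟨r, hr⟩) (Subtype.ext ?_)
  · rw [hA _ (mul_mem ha hb), hA a ha, hA b hb, c.θ_mul ha hb]; group
  · rw [coe_mul, hν _ (add_mem hx hy), hν x hx, hν y hy, c.v_add hx hy]
  · rw [hν _ Ev.zero_mem, c.v_zero]; rfl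
  · exact c.v_inj hx hy (by rw [← hν x hx, ← hν y hy, e])
  · rw [hA a ha, hν x hx, hν _ ((m_mem_Ev ha.1).2 hx), c.conj_v ha hx]
  · obtain ⟨x, hx, e⟩ := h.ker m m.2 (congrArg Subtype.val hm)
    exact ⟨x, hx, Subtype.ext (e.trans (hν x hx).symm)⟩
  · rw [hν _ v0]; exact e

end Cfsg.Agent.WJ
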