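import Cfsg.Agent.WJ.BaseF

set_option autoImplicit false

namespace Cfsg.Agent.WJ

open Cfsg.Agent.SGJ4 Cfsg.Agent.J4P Cfsg.Agent.H14 AG Subgroup
open Cfsg.Agent.H42 (SylIn cj)

variable {J G : Type*} [Group J] [Group G] [Finite J] [Finite G]

theorem Fr.Sy.inv {c : Fr J G} {T : Subgroup AG} {S : Subgroup G} (h : c.Sy T S) (hf : c.Fu)
    (h4 : c.N4) : c.In T := fun g hg x hx a ha b hb e => by
  have : Fact (Nat.Prime 2) := ⟨Nat.prime_two⟩
  have := c.Xn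
  have ha' := h.ts.syl.le ha
  have hb' := h.ts.syl.le hb
  have sx := c.sec.mem x hx
  obtain ⟨a2, b2⟩ := c.κ_inj (mul_mem ha' ha') (mul_mem hb' hb') (one_mem _) (one_mem _) (by
    rw [c.κ_mul ha' hb' ha' hb', ← e, c.κ_left, c.l_one, conj_mul, c.s1.sq _ sx, mul_one, mul_inv_cancel])
  obtain ⟨k, hk, x', hx', y', hy', e', -, hy0⟩ := Fr.Fu.pair c hf ha' hb' a2 b2
  have e1 : k * g * c.s x * (k * g)⁻¹ = c.P x' y' := by rw [← e', ← e]; group
  have RX : c.R ≤ c.X := fun r hr => by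
    obtain ⟨u, hu, v, hv, rfl⟩ := c.exists_P hr
    rw [← c.κ_tr hu hv]
    exact mul_mem (c.l_mem _) (c.l'_mem _)
  have R2 : IsPGroup 2 c.R := fun r => ⟨1, Subtype.ext (by simpa [pow_two] using c.s1.sq _ r.2)⟩
  obtain ⟨P, hP, RP⟩ := H42.exists_sylIn (H := c.X ⊓ centralizer {c.P x' y'}) R2 fun r hr =>
    ⟨RX hr, mem_centralizer_singleton_iff.2 (c.R_comm hr (c.P_mem hx' hy'))⟩
  obtain ⟨d, hd, h1⟩ := hP.exists_conj (H42.isPGroup_cj (k * g) R2) (H42.cj_le_iff.2 fun r hr =>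
    ⟨this.conj_mem _ (RX hr) _, mem_centralizer_singleton_iff.2 (by
      rw [← e1, conj_mul, conj_mul, (c.R_comm hr sx).eq])⟩)
  obtain ⟨f, -, h2⟩ := h.syl.exists_conj hP.isP (hP.le.trans inf_le_left)
  have u : ∀ w : G, cj w c.R ≤ P → cj f (cj w c.R) = c.R := fun w hw =>
    Fr.Sy.uniq c h (H42.cj_le_iff.2 fun r hr => h2 r (hw hr)) (fun r hr => by
      have := c.s1.sq _ (H42.mem_cj.1 (H42.mem_cj.1 hr))
      simpa [mul_assoc, mul_eq_one_iff_eq_inv, ← eq_mul_inv_iff_mul_eq] using this)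
      (by rw [H42.card_cj, H42.card_cj, c.card_R])
  have e2 : cj (d * (k * g)) c.R = cj 1 c.R := H42.cj_inj.1 ((u _ (by
    rw [← H42.cj_cj]; exact H42.cj_le_iff.2 h1)).trans (u 1 ((H42.cj_of_mem (one_mem _)).le.trans RP)).symm)
  obtain ⟨y, hy, e3⟩ := h4 _ (mul_mem hd.1 (mul_mem hk hg)) (fun r hr =>
    (e2.trans (H42.cj_of_mem (one_mem _))).le (H42.conj_mem_cj hr)) x hx
  refine hy0.1 (c.P_inj hx' hy' hy (zero_mem _) ?_).2
  rw [c.P_left, ← e3, ← mul_inv_eq_iff_eq_mul.2 (mem_centralizer_singleton_iff.1 hd.2), ← e1]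
  group

end Cfsg.Agent.WJ
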