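import Cfsg.Agent.WJ.MOct

/-! Project WJ: two lemmas on the model for the normaliser of `V*`. -/

set_option autoImplicit false

namespace Cfsg.Agent.WJ.N4A

open Cfsg.Agent.SGJ4 Cfsg.Agent.J4P Cfsg.Agent.H14 AG Subgroup

theorem ncard_Ev : (Ev : Set Vb).ncard = 2048 := card_Ev

theorem fx_le (s : Set AG) : (Fx s).ncard ≤ 2048 :=
  ncard_Ev ▸ Set.ncard_le_ncard (fun _ h => h.1) (Set.toFinite _)

theorem fx_one {s : Set AG} (h : ∀ a ∈ s, a = 1) : (Fx s).ncard = 2048 := by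
  rw [← ncard_Ev]
  exact congrArg _ (Set.ext fun v => ⟨fun k => k.1, fun k => ⟨k, fun a ha => by rw [h a ha]; rfl⟩⟩)

theorem fx_lin {ι : Type*} (a : ι → AG) : Fx (Set.range fun i => lin (a i)) = Fx (Set.range a) :=
  Set.ext fun _ => and_congr_right fun _ => by simp only [Set.forall_mem_range, lin_m]

theorem xor_lt {i j : ℕ} (hi : i < 16) (hj : j < 16) : i ^^^ j < 16 := Nat.xor_lt_two_pow (n := 4) hi hj

/-- a homomorphism from the octad group into the stabiliser of the octad -/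
structure Hm (α : ℕ → AG) : Prop where
  ks : ∀ i, α i ∈ Ks
  sto : ∀ i, StO (α i)
  mul : ∀ i < 16, ∀ j < 16, α i * α j = α (i ^^^ j)

variable {α β : ℕ → AG}

theorem Hm.zero (h : Hm α) : α 0 = 1 := mul_eq_left.1 (h.mul 0 (by omega) 0 (by omega))

theorem Hm.sq (h : Hm α) {i : ℕ} (hi : i < 16) : α i * α i = 1 := by rw [h.mul i hi i hi, Nat.xor_self, h.zero]

theorem Hm.onto (h : Hm α) (h1 : ∀ i < 16, i ≠ 0 → α i ≠ 1) (h2 : 128 ≤ (Fx {α 1}).ncard)
    (h3 : 64 ≤ (Fx (Set.range α)).ncard) : ∀ j < 16, ∃ i < 16, α i = ee j := by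
  let B : Subgroup AG :=
    { carrier := {a | ∃ i < 16, a = α i}
      one_mem' := ⟨0, by omega, h.zero.symm⟩
      mul_mem' := by rintro _ _ ⟨i, hi, rfl⟩ ⟨j, hj, rfl⟩; exact ⟨_, xor_lt hi hj, h.mul i hi j hj⟩
      inv_mem' := by rintro _ ⟨i, hi, rfl⟩; exact ⟨i, hi, inv_eq_of_mul_eq_one_right (h.sq hi)⟩ }
  have inj : ∀ i j : Fin 16, α i = α j → i = j := fun i j e => by
    by_contra n
    refine h1 _ (xor_lt i.2 j.2) (fun q => n (Fin.ext (Nat.xor_eq_zero_iff.1 q))) ?_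
    rw [← h.mul _ i.2 _ j.2, e, h.sq j.2]
  have k := octU (B := B) (by rintro _ ⟨i, -, rfl⟩; exact h.ks i) (by rintro _ ⟨i, -, rfl⟩; exact h.sto i)
    (by rintro _ ⟨i, hi, rfl⟩; exact h.sq hi) ⟨α 1, ⟨1, by omega, rfl⟩, h1 1 (by omega) one_ne_zero, h2⟩
    (h3.trans (Set.ncard_le_ncard (fun v hv => ⟨hv.1, by rintro _ ⟨i, -, rfl⟩; exact hv.2 _ ⟨i, rfl⟩⟩)
      (Set.toFinite _)))
    ((Nat.card_fin 16).ge.trans (Nat.card_le_card_of_injective (fun i : Fin 16 => (⟨α i, i, i.2, rfl⟩ : B))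
      fun i j e => inj i j (congrArg Subtype.val e)))
  choose f f1 f2 using fun i : Fin 16 => k (α i) ⟨i, i.2, rfl⟩
  have s : Function.Surjective fun i : Fin 16 => (⟨f i, f1 i⟩ : Fin 16) := Finite.injective_iff_surjective.1
    fun i j e => inj i j (by rw [f2, f2, show f i = f j from congrArg Fin.val e])
  intro j hj
  obtain ⟨i, e⟩ := s ⟨j, hj⟩
  exact ⟨i, i.2, by rw [f2, show f i = j from congrArg Fin.val e]⟩

theorem half (ha : Hm α) (hb : Hm β) (c1 : ∀ i < 16, i ≠ 0 → (Fx {α i}).ncard * (Fx {β i}).ncard = 128 * 2048)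
    (c2 : (Fx (Set.range α)).ncard * (Fx (Set.range β)).ncard = 64 * 2048) (h : β 1 = 1) :
    ∀ j < 16, ∃ i < 16, α i = ee j ∧ β i = 1 := by
  have d : ∀ i < 16, i ≠ 0 → (α i = 1 ↔ β i ≠ 1) := fun i hi h0 => by
    have c := c1 i hi h0
    refine ⟨fun e1 e2 => ?_, fun e2 => by_contra fun e1 => ?_⟩
    · rw [fx_one (s := {α i}) (by rintro _ rfl; exact e1), fx_one (s := {β i}) (by rintro _ rfl; exact e2)] at c
      omega
    · have := Nat.mul_le_mul (ncard_fx_le (ha.ks i) (ha.sq hi) e1) (ncard_fx_le (hb.ks i) (hb.sq hi) e2)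
      omega
  have a1 : α 1 ≠ 1 := fun e => (d 1 (by omega) one_ne_zero).1 e h
  have k : ∀ i < 16, β i = 1 := fun i hi => by
    by_cases h0 : i = 0
    · rw [h0, hb.zero]
    by_contra n
    have e := (d i hi h0).2 n
    have n1 : i ^^^ 1 ≠ 0 := fun q => n (by rw [Nat.xor_eq_zero_iff.1 q, h])
    have := d _ (xor_lt hi (by omega : 1 < 16)) n1
    rw [← ha.mul i hi 1 (by omega), ← hb.mul i hi 1 (by omega), e, h, one_mul, mul_one] at this
    exact a1 (this.2 n)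
  have q1 := c1 1 (by omega) one_ne_zero
  have q2 := Nat.mul_le_mul_left (Fx {α 1}).ncard (fx_le {β 1})
  have q3 := Nat.mul_le_mul_left (Fx (Set.range α)).ncard (fx_le (Set.range β))
  intro j hj
  obtain ⟨i, hi, e⟩ := ha.onto (fun i hi h0 e => (d i hi h0).1 e (k i hi)) (by omega) (by omega) j hj
  exact ⟨i, hi, e, k i hi⟩

theorem side (ha : Hm α) (hb : Hm β) (c1 : ∀ i < 16, i ≠ 0 → (Fx {α i}).ncard * (Fx {β i}).ncard = 128 * 2048)
    (c2 : (Fx (Set.range α)).ncard * (Fx (Set.range β)).ncard = 64 * 2048) :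
    (∃ i < 16, α i = ee 2 ∧ β i = 1) ∨ ∃ i < 16, β i = ee 2 ∧ α i = 1 := by
  by_cases h : β 1 = 1
  · exact .inl (half ha hb c1 c2 h 2 (by omega))
  refine .inr (half hb ha (fun i hi h0 => (mul_comm _ _).trans (c1 i hi h0)) ((mul_comm _ _).trans c2)
    (by_contra fun e => ?_) 2 (by omega))
  have := Nat.mul_le_mul (ncard_fx_le (ha.ks 1) (ha.sq (by omega)) e) (ncard_fx_le (hb.ks 1) (hb.sq (by omega)) h)
  have := c1 1 (by omega) one_ne_zero
  omega

theorem card_half {A : AddSubgroup Vb} (h : A ≤ Ev) (n : ¬ Ev ≤ A) : Nat.card A ≤ 1024 := by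
  obtain ⟨k, hk⟩ := AddSubgroup.card_dvd_of_le h
  have : Nat.card A ≠ 2048 := fun e => n (AddSubgroup.eq_of_le_of_card_ge h (card_Ev.trans e.symm).le).ge
  rw [card_Ev] at hk
  rcases k with _ | _ | k
  · omega
  · omega
  · nlinarith

/-- two subgroups that meet trivially and cover the sextets -/
theorem cover {A B : AddSubgroup Vb} (hA : A ≤ Ev) (hB : B ≤ Ev) (h0 : ∀ x ∈ A, x ∈ B → x = 0)
    (h : ∀ v ∈ Ev, v ≠ 0 → ¬ IsDuad v → v ∈ A ∨ v ∈ B) : Ev ≤ A ∨ Ev ≤ B := by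
  by_contra! n
  have a := card_half hA n.1
  have b := card_half hB n.2
  have c : 1771 ≤ Nat.card A + Nat.card B := ncard_sextet.ge.trans
    ((Set.ncard_le_ncard (t := (A : Set Vb) ∪ B) (fun v hv => h v hv.1 hv.2.1 hv.2.2) (Set.toFinite _)).trans
      (Set.ncard_union_le _ _))
  have d : Nat.card A * Nat.card B ≤ 2048 := by
    rw [← Nat.card_prod, ← card_Ev]
    refine Nat.card_le_card_of_injective (fun p : A × B => (⟨p.1 + p.2, add_mem (hA p.1.2) (hB p.2.2)⟩ : Ev))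
      fun p q e => ?_
    have e1 : (p.1 : Vb) - q.1 = q.2 - p.2 := by
      rw [sub_eq_sub_iff_add_eq_add, add_comm (q.2 : Vb)]; exact congrArg Subtype.val e
    have e2 := h0 _ (sub_mem p.1.2 q.1.2) (e1 ▸ sub_mem q.2.2 p.2.2)
    exact Prod.ext (Subtype.ext (sub_eq_zero.1 e2)) (Subtype.ext (sub_eq_zero.1 (e1 ▸ e2)).symm)
  nlinarith

theorem exists_fix {x : Vb} (hx : x ∈ Ev) : ∃ a ∈ Ks, ∀ i, (ee i).m (a.m x) = a.m x := by
  by_cases h0 : x = 0
  · exact ⟨1, one_mem _, fun i => by rw [h0, map_zero, map_zero]⟩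
  by_cases hd : IsDuad x
  · obtain ⟨a, ha, rfl⟩ := duad_trans hd
    exact ⟨a⁻¹, inv_mem ha, fun i => by rw [inv_m_m, (ee_fix i).1]⟩
  · obtain ⟨a, ha, rfl⟩ := sextet_trans hx h0 hd
    exact ⟨a⁻¹, inv_mem ha, fun i => by rw [inv_m_m, (ee_fix i).2]⟩

theorem v24_mem : Vb.of 24 ∈ Ev := mem_Ev'.2 (by decide +kernel)

theorem v24_add : Vb.of 24 + (ee 2).m (Vb.of 24) = zs := by
  rw [m_of, cd_ee]; decide +kernel

end Cfsg.Agent.WJ.N4A
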