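import Cfsg.Agent.WJ.BaseF
import Cfsg.Agent.WJ.MOct
import Cfsg.Agent.WJ.N4A

/-! Project WJ: the normaliser of `V*` in `X` normalises the first factor. -/

set_option autoImplicit false

namespace Cfsg.Agent.WJ

open Cfsg.Agent.SGJ4 Cfsg.Agent.J4P Cfsg.Agent.H14 AG Subgroup
open Cfsg.Agent.H42 (SylIn cj)

variable {J G : Type*} [Group J] [Group G] [Finite J] [Finite G]

namespace N4A

variable {c : Fr J G} {T : Subgroup AG} {S : Subgroup G} {n : G}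

theorem fam (h : c.Sy T S) (hn : c.NV n) (e : ℕ → G) (he : ∀ i, n⁻¹ * e i * n ∈ S)
    (hm : ∀ i < 16, ∀ j < 16, e i * e j = e (i ^^^ j)) {p q : ℕ → AG}
    (ha : ∀ i, c.Act (e i) fun x y => ((p i).m x, (q i).m y))
    (c1 : ∀ i < 16, i ≠ 0 → (Fx {p i}).ncard * (Fx {q i}).ncard = 128 * 2048)
    (c2 : (Fx (Set.range p)).ncard * (Fx (Set.range q)).ncard = 64 * 2048) :
    (∃ i, c.Act (n⁻¹ * e i * n) fun x y => ((ee 2).m x, y)) ∨
      ∃ i, c.Act (n⁻¹ * e i * n) fun x y => (x, (ee 2).m y) := by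
  choose a aT b bT k using fun i => (h.mem _).1 (he i)
  have aN := fun i => h.ts.syl.le (aT i)
  have bN := fun i => h.ts.syl.le (bT i)
  have m : ∀ i < 16, ∀ j < 16, a i * a j = a (i ^^^ j) ∧ b i * b j = b (i ^^^ j) := fun i hi j hj =>
    c.κ_inj (mul_mem (aN i) (aN j)) (mul_mem (bN i) (bN j)) (aN _) (bN _) (by
      rw [c.κ_mul (aN i) (bN i) (aN j) (bN j), ← k, ← k, ← k, ← hm i hi j hj]; group)
  have act : ∀ i, c.Act (n⁻¹ * e i * n) fun x y => ((lin (a i)).m x, (lin (b i)).m y) := fun i =>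
    k i ▸ c.act_κ (aN i) (bN i)
  have cnt : ∀ {ι : Type} (f : ι → ℕ), (Fx (Set.range fun i => lin (a (f i)))).ncard *
      (Fx (Set.range fun i => lin (b (f i)))).ncard =
      (Fx (Set.range fun i => p (f i))).ncard * (Fx (Set.range fun i => q (f i))).ncard := fun f => by
    rw [← c.ncard_fix _ _ _ fun i => act (f i), ← c.ncard_fix _ _ _ fun i => ha (f i), c.ncard_fix_conj _ hn]
  refine (side (α := fun i => lin (a i)) (β := fun i => lin (b i))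
    ⟨fun i => lin_mem_Ks (aN i).1, fun i => h.ts.sto (a i) (aT i), fun i hi j hj => by rw [← map_mul, (m i hi j hj).1]⟩
    ⟨fun i => lin_mem_Ks (bN i).1, fun i => h.ts.sto (b i) (bT i), fun i hi j hj => by rw [← map_mul, (m i hi j hj).2]⟩
    (fun i hi h0 => ?_) ((cnt id).trans c2)).imp ?_ ?_
  · have := cnt fun _ : Unit => i
    simp only [Set.range_const] at this
    exact this.trans (c1 i hi h0)
  · rintro ⟨i, -, e1, e2⟩
    exact ⟨i, by simpa only [e1, e2, one_m] using act i⟩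
  · rintro ⟨i, -, e1, e2⟩
    exact ⟨i, by simpa only [e1, e2, one_m] using act i⟩

omit [Finite J] [Finite G] in
theorem cm (hn : c.NV n) {e : G} {F : Vb → Vb → Vb × Vb} (h1 : c.Act (n⁻¹ * e * n) F) {x y : Vb} (hx : x ∈ Ev)
    (hy : y ∈ Ev) : ∃ u ∈ Ev, ∃ w ∈ Ev, n * c.P x y * n⁻¹ = c.P u w ∧ ∀ F', c.Act e F' →
      n * c.P (x + (F x y).1) (y + (F x y).2) * n⁻¹ = c.P (u + (F' u w).1) (w + (F' u w).2) := by
  obtain ⟨u, hu, w, hw, r⟩ := c.exists_P (hn _ (c.P_mem hx hy))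
  refine ⟨u, hu, w, hw, r, fun F' h2 => ?_⟩
  obtain ⟨a1, a2, a3⟩ := h1 x hx y hy
  obtain ⟨b1, b2, b3⟩ := h2 u hu w hw
  rw [c.P_add hx hy a1 a2, c.P_add hu hw b1 b2, ← a3, ← b3, ← r]
  group

theorem key (h : c.Sy T S) (hn : c.NV n) (he : ∀ i j, n⁻¹ * c.κ (ee i) (ee j) * n ∈ S) {x y : Vb} (hx : x ∈ Ev)
    (hy : y ∈ Ev) (e : n * c.P zs 0 * n⁻¹ = c.P x y) : x = 0 ∨ y = 0 := by
  have o : (1 : AG) ∈ Ns := one_mem _
  have f1 : (Fx {1}).ncard = 2048 := fx_one fun _ h => h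
  have f2 : (Fx (Set.range fun _ : ℕ => 1)).ncard = 2048 := fx_one (by rintro _ ⟨_, rfl⟩; rfl)
  have a1 := fun i => c.act_κ (ee_mem' i) o
  have a2 := fun i => c.act_κ o (ee_mem' i)
  have m : ∀ i, ∀ {u}, u ∈ Ev → u + (ee i).m u ∈ Ev := fun i u hu => add_mem hu ((m_mem_Ev (ee_mem i).1).2 hu)
  have p1 := fam h hn (fun i => c.κ (ee i) 1) (fun i => ee_zero ▸ he i 0) (fun i hi j hj => by
      rw [← c.κ_mul (ee_mem' i) o (ee_mem' j) o, ee_mul hi hj, mul_one]) a1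
    (fun i hi h0 => by rw [ncard_fx_ee hi h0, f1]) (by rw [ncard_fx_E, f2])
  have p2 := fam h hn (fun i => c.κ 1 (ee i)) (fun i => ee_zero ▸ he 0 i) (fun i hi j hj => by
      rw [← c.κ_mul o (ee_mem' i) o (ee_mem' j), ee_mul hi hj, mul_one]) a2
    (fun i hi h0 => by rw [ncard_fx_ee hi h0, f1]) (by rw [ncard_fx_E, f2])
  obtain ⟨i, p1⟩ | ⟨i, p1⟩ := p1
  · obtain ⟨u, hu, w, hw, -, k⟩ := cm hn p1 v24_mem (zero_mem _)
    have k := k _ (a1 i)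
    simp only [v24_add, add_zero, one_m, Vb.add_self, e] at k
    exact .inr (c.P_inj hx hy (m i hu) (zero_mem _) k).2
  obtain ⟨j, p2⟩ | ⟨j, p2⟩ := p2
  · obtain ⟨u, hu, w, hw, -, k⟩ := cm hn p2 v24_mem (zero_mem _)
    have k := k _ (a2 j)
    simp only [v24_add, add_zero, one_m, Vb.add_self, e] at k
    exact .inl (c.P_inj hx hy (zero_mem _) (m j hw) k).1
  obtain ⟨u, hu, w, hw, r, k⟩ := cm hn p1 (zero_mem _) v24_mem
  obtain ⟨u', hu', w', hw', r', k'⟩ := cm hn p2 (zero_mem _) v24_mem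
  have k := k _ (a1 i)
  have k' := k' _ (a2 j)
  simp only [v24_add, add_zero, one_m, Vb.add_self] at k k'
  rw [(c.P_inj (m i hu) (zero_mem _) (zero_mem _) (m j hw') (k.symm.trans k')).1, c.P_zero, conj_eq_one_iff,
    ← c.P_zero] at k
  exact absurd (c.P_inj (zero_mem _) zs_mem (zero_mem _) (zero_mem _) k).2 zs_ne_zero

/-- the normaliser of `V*` in `X` -/
def YY (c : Fr J G) : Subgroup G := c.X ⊓ normalizer (c.R : Set G)

theorem κ_mem {a b : AG} (ha : a ∈ Ns) (hb : b ∈ Ns) : c.κ a b ∈ YY c :=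
  ⟨mul_mem (c.l_mem a) (c.l'_mem b), c.nv_iff_mem.1 (Sp.Act.nv _ (c.act_κ ha hb))⟩

theorem syl (h : c.Sy T S) : SylIn 2 S (YY c) := h.syl.of_le (fun g hg => by
  obtain ⟨a, ha, b, hb, rfl⟩ := (h.mem g).1 hg
  exact κ_mem (h.ts.syl.le ha) (h.ts.syl.le hb)) inf_le_left

theorem key' (h : c.Sy T S) (hn : n ∈ YY c) {x y : Vb} (hx : x ∈ Ev) (hy : y ∈ Ev) (fx : ∀ i, (ee i).m x = x)
    (fy : ∀ i, (ee i).m y = y) (e : n * c.P zs 0 * n⁻¹ = c.P x y) : x = 0 ∨ y = 0 := by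
  have : Fact (Nat.Prime 2) := ⟨Nat.prime_two⟩
  have s1 : SylIn 2 (cj n S) (YY c ⊓ centralizer {c.P x y}) := by
    have s := (syl h).cj n
    rw [H42.cj_of_mem hn] at s
    refine s.of_le (le_inf s.le (H42.cj_le_iff.2 fun g hg => ?_)) inf_le_left
    obtain ⟨a, ha, b, hb, rfl⟩ := (h.mem g).1 hg
    have := (c.act_κ (h.ts.syl.le ha) (h.ts.syl.le hb) _ zs_mem _ (zero_mem _)).2.2
    simp only [h.ts.zs a ha, map_zero] at this
    rw [mem_centralizer_singleton_iff, ← e, conj_mul, conj_mul, mul_inv_eq_iff_eq_mul.1 this]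
  obtain ⟨g, hg, k⟩ := s1.exists_conj (R := S ⊓ centralizer {c.P x y}) (h.syl.isP.to_le inf_le_left)
    (inf_le_inf_right _ (syl h).le)
  refine key (n := g⁻¹ * n) h (c.nv_iff_mem.2 ((YY c).mul_mem ((YY c).inv_mem hg.1) hn).2) (fun i j => ?_) hx hy ?_
  · have := (c.act_κ (ee_mem' i) (ee_mem' j) _ hx _ hy).2.2
    simp only [fx, fy] at this
    have q := H42.mem_cj.1 (k (c.κ (ee i) (ee j)) ⟨(h.mem _).2 ⟨_, h.ts.ee i, _, h.ts.ee j, rfl⟩,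
      mem_centralizer_singleton_iff.2 (mul_inv_eq_iff_eq_mul.1 this)⟩)
    simpa only [mul_inv_rev, inv_inv, mul_assoc] using q
  · rw [show g⁻¹ * n * c.P zs 0 * (g⁻¹ * n)⁻¹ = g⁻¹ * (n * c.P zs 0 * n⁻¹) * g by group, e, mul_assoc,
      ← mem_centralizer_singleton_iff.1 hg.2, inv_mul_cancel_left]

theorem sext (h : c.Sy T S) (hn : n ∈ YY c) {v x y : Vb} (hv : v ∈ Ev) (h0 : v ≠ 0) (hd : ¬ IsDuad v) (hx : x ∈ Ev)
    (hy : y ∈ Ev) (e : n * c.P v 0 * n⁻¹ = c.P x y) : x = 0 ∨ y = 0 := by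
  obtain ⟨k, hk, rfl⟩ := sextet_trans hv h0 hd
  obtain ⟨a, ha, fa⟩ := exists_fix hx
  obtain ⟨b, hb, fb⟩ := exists_fix hy
  have e1 := (c.act_κ (Ks_le_Ns hk) (one_mem _) _ zs_mem _ (zero_mem _)).2.2
  obtain ⟨m1, m2, e2⟩ := c.act_κ (Ks_le_Ns ha) (Ks_le_Ns hb) _ hx _ hy
  simp only [map_zero] at e1
  simpa only [EmbeddingLike.map_eq_zero_iff] using key' (n := c.κ a b * n * c.κ k 1) h
    (mul_mem (mul_mem (κ_mem (Ks_le_Ns ha) (Ks_le_Ns hb)) hn) (κ_mem (Ks_le_Ns hk) (one_mem _))) m1 m2 fa fb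
    (by rw [← e2, ← e, ← e1]; group)

/-- the first factor -/
def V1 (c : Fr J G) : Subgroup G where
  carrier := {g | ∃ x ∈ Ev, g = c.P x 0}
  one_mem' := ⟨0, zero_mem _, c.P_zero.symm⟩
  mul_mem' := by
    rintro _ _ ⟨x, hx, rfl⟩ ⟨y, hy, rfl⟩
    exact ⟨_, add_mem hx hy, by rw [← c.P_add hx (zero_mem _) hy (zero_mem _), add_zero]⟩
  inv_mem' := by
    rintro _ ⟨x, hx, rfl⟩
    exact ⟨x, hx, inv_eq_of_mul_eq_one_right (c.s1.sq _ (c.P_mem hx (zero_mem _)))⟩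

theorem two (h : c.Sy T S) (hn : n ∈ YY c) : cj n (V1 c) = V1 c ∨ cj n (V1 c) = cj c.t (V1 c) := by
  obtain ⟨F, hF⟩ := Sp.NV.exists_act _ (c.nv_iff_mem.2 hn.2)
  have z : (0 : Vb) ∈ Ev := zero_mem _
  have ad : ∀ {x y}, x ∈ Ev → y ∈ Ev → F (x + y) 0 = F x 0 + F y 0 := fun hx hy => by
    rw [← Sp.Act.add _ hF hx z hy z, add_zero]
  have f0 : F 0 0 = 0 := by simpa using ad z z
  let A : AddSubgroup Vb :=
    { carrier := {x | x ∈ Ev ∧ (F x 0).2 = 0}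
      zero_mem' := ⟨z, by rw [f0]; rfl⟩
      add_mem' := fun a b => ⟨add_mem a.1 b.1, by rw [ad a.1 b.1, Prod.snd_add, a.2, b.2, add_zero]⟩
      neg_mem' := id }
  let B : AddSubgroup Vb :=
    { carrier := {x | x ∈ Ev ∧ (F x 0).1 = 0}
      zero_mem' := ⟨z, by rw [f0]; rfl⟩
      add_mem' := fun a b => ⟨add_mem a.1 b.1, by rw [ad a.1 b.1, Prod.fst_add, a.2, b.2, add_zero]⟩
      neg_mem' := id }
  refine (cover (A := A) (B := B) (fun _ a => a.1) (fun _ a => a.1) (fun x a b => ?_) fun v hv h0 hd => ?_).imp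
    (fun k => eq_of_le_of_card_ge (H42.cj_le_iff.2 ?_) (H42.card_cj _ _).ge)
    fun k => eq_of_le_of_card_ge (H42.cj_le_iff.2 ?_) ((H42.card_cj _ _).trans (H42.card_cj _ _).symm).le
  · have := (hF x a.1 0 z).2.2
    rw [a.2, b.2, c.P_zero, conj_eq_one_iff, ← c.P_zero] at this
    exact (c.P_inj a.1 z z z this).1
  · obtain ⟨m1, m2, e⟩ := hF v hv 0 z
    exact (sext h hn hv h0 hd m1 m2 e).symm.imp (⟨hv, ·⟩) (⟨hv, ·⟩)
  · rintro _ ⟨x, hx, rfl⟩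
    obtain ⟨m1, -, e⟩ := hF x hx 0 z
    exact ⟨_, m1, by rw [e, (k hx).2]⟩
  · rintro _ ⟨x, hx, rfl⟩
    obtain ⟨-, m2, e⟩ := hF x hx 0 z
    rw [e, (k hx).2, ← (c.act_t _ m2 0 z).2.2]
    exact H42.conj_mem_cj ⟨_, m2, rfl⟩

theorem le_norm (h : c.Sy T S) : YY c ≤ normalizer (V1 c : Set G) := by
  have s : S ≤ normalizer (V1 c : Set G) := fun g hg => H42.mem_normalizer_of_conj_mem (by
    obtain ⟨a, ha, b, hb, rfl⟩ := (h.mem g).1 hg
    rintro _ ⟨x, hx, rfl⟩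
    obtain ⟨m1, -, e⟩ := c.act_κ (h.ts.syl.le ha) (h.ts.syl.le hb) x hx 0 (zero_mem _)
    exact ⟨_, m1, by simpa only [map_zero] using e⟩)
  have k : ∀ g ∈ YY c, g ∉ normalizer (V1 c : Set G) → cj g (V1 c) = cj c.t (V1 c) := fun g hg q =>
    (two h hg).resolve_left (mt H42.cj_eq_iff_mem_normalizer.1 q)
  intro n hn
  by_contra q
  have d : (normalizer (V1 c : Set G)).relIndex (YY c) ∣ 2 := relIndex_dvd_two_iff.2 ⟨n, hn, fun b hb =>
    or_iff_not_imp_right.2 fun r => H42.cj_eq_iff_mem_normalizer.1 (by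
      rw [← H42.cj_cj, k n hn q, ← k b⁻¹ (inv_mem hb) (mt inv_mem_iff.1 r), H42.cj_cj_inv])⟩
  rcases (Nat.dvd_prime Nat.prime_two).1 d with e | e
  · exact q (relIndex_eq_one.1 e hn)
  · exact (syl h).ndvd (e ▸ relIndex_dvd_of_le_left _ s)

end N4A

theorem Fr.Sy.n4 {c : Fr J G} {T : Subgroup AG} {S : Subgroup G} (h : c.Sy T S) : c.N4 := fun n hn nv x hx => by
  obtain ⟨y, hy, e⟩ := H42.conj_mem_of_mem_normalizer (N4A.le_norm h ⟨hn, c.nv_iff_mem.1 nv⟩)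
    (show c.P x 0 ∈ N4A.V1 c from ⟨x, hx, rfl⟩)
  exact ⟨y, hy, by rwa [c.P_left, c.P_left] at e⟩

end Cfsg.Agent.WJ
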