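import Cfsg.Agent.WJ.Base2
import Cfsg.Agent.WJ.MAut

set_option autoImplicit false
set_option linter.unusedSectionVars false

namespace Cfsg.Agent.WJ

open Cfsg.Agent.SGJ4 Cfsg.Agent.J4P Cfsg.Agent.H14 AG Subgroup
open Cfsg.Agent.H42 (SylIn cj)

namespace O2

theorem eq_of_m {a b : AG} (ha : a ∈ Ks) (hb : b ∈ Ks) (h : ∀ x ∈ Ev, a.m x = b.m x) : a = b := by
  have m := Ks.mul_mem (Ks.inv_mem ha) hb
  have := lin_eq_one_of_Ev m.1 fun v hv => by rw [mul_m, ← h v hv, inv_m_m]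
  rw [lin_eq_self.2 m.2] at this
  exact inv_mul_eq_one.1 this

theorem ee_lt (i : ℕ) : ∃ j < 16, ee i = ee j := by
  by_cases h : i < 16
  · exact ⟨i, h, rfl⟩
  · exact ⟨0, by decide, (ee_ge (not_lt.1 h)).trans ee_zero.symm⟩

theorem xor_lt {i j : ℕ} (hi : i < 16) (hj : j < 16) : i ^^^ j < 16 := Nat.xor_lt_two_pow (n := 4) hi hj

variable {J G : Type*} [Group J] [Group G] (c : Sp J G)

/-- `g` acts diagonally -/
def Dg (g : G) (b : AG) : Prop := c.Act g fun x y => (b.m x, b.m y)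

variable {c}

theorem Dg.mul {g h : G} {a b : AG} (h1 : Dg c g a) (h2 : Dg c h b) : Dg c (g * h) (a * b) := by
  have := Sp.Act.mul c h1 h2
  dsimp only at this
  exact this

theorem Dg.unique {g : G} {a b : AG} (h1 : Dg c g a) (h2 : Dg c g b) (ha : a ∈ Ks) (hb : b ∈ Ks) : a = b :=
  eq_of_m ha hb fun x hx => congrArg Prod.fst (Sp.Act.unique c h1 h2 x hx x hx)

theorem Dg.conj {g : G} {b k : AG} (h : Dg c g b) (hk : k ∈ Ns) :
    Dg c ((c.θ k)⁻¹ * g * c.θ k) (k⁻¹ * b * k) := by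
  rw [← c.toCf.θ_inv hk]
  exact (Dg.mul (c.act_θ (Ns.inv_mem hk)) h).mul (c.act_θ hk)

variable [Finite J] [Finite G]

theorem exists_dg {n : G} (hn : c.NV n) (h : n * c.t * n⁻¹ = c.t * c.θ e0) (i : ℕ) :
    ∃ b ∈ Ks, Dg c (n⁻¹ * c.θ (ee i) * n) b := by
  obtain ⟨j, hj, e⟩ := ee_lt i
  rw [e]
  have h1 : Commute (n⁻¹ * c.θ (ee j) * n) c.t := by
    have k : Commute (c.θ (ee j)) (n * c.t * n⁻¹) := h ▸ (c.toCf.θt _).mul_right (by
      rw [e0, Commute, SemiconjBy, ← c.toCf.θ_mul (ee_mem' _) (ee_mem' _), ← c.toCf.θ_mul (ee_mem' _) (ee_mem' _),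
        ee_mul hj (by decide), ee_mul (by decide) hj, Nat.xor_comm])
    have := k.conj n⁻¹
    rwa [inv_inv, show n⁻¹ * (n * c.t * n⁻¹) * n = c.t by group] at this
  have h2 : n⁻¹ * c.θ (ee j) * n * (n⁻¹ * c.θ (ee j) * n) = 1 := by
    rw [show n⁻¹ * c.θ (ee j) * n * (n⁻¹ * c.θ (ee j) * n) = n⁻¹ * (c.θ (ee j) * c.θ (ee j)) * n by group,
      ← c.toCf.θ_mul (ee_mem' _) (ee_mem' _), ee_mul hj hj, Nat.xor_self, ee_zero, c.toCf.θ_one, mul_one,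
      inv_mul_cancel]
  obtain ⟨a, ha⟩ := c.exists_ι h2 h1 fun q =>
    c.nfus (c.m.f (ee j)) (q.trans (isConj_iff.2 ⟨n, by rw [Cf.θ]; group⟩))
  have h3 := c.nmV_of_nv (c.nv_iff_mem.2 (mul_mem (mul_mem (inv_mem (c.nv_iff_mem.1 hn))
    (c.nv_iff_mem.1 (Sp.Act.nv c (c.act_θ (ee_mem' j))))) (c.nv_iff_mem.1 hn))) h1
  rw [ha] at h3 ⊢
  obtain ⟨b, hb, rfl⟩ := c.m.nV (g := a) fun x hx => by
    obtain ⟨y, hy, e⟩ := h3 x hx
    exact ⟨y, hy, c.inj (by rw [map_mul, map_mul, map_inv]; exact e)⟩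
  exact ⟨lin b, lin_mem_Ks hb.1, c.act_θ hb⟩

theorem card_fx {ι : Type} {n : G} (hn : c.NV n) {a b : ι → AG} (ha : ∀ i, a i ∈ Ns)
    (h : ∀ i, Dg c (n⁻¹ * c.θ (a i) * n) (b i)) : (Fx (Set.range b)).ncard = (Fx (Set.range a)).ncard :=
  Nat.mul_self_inj.1 ((c.ncard_fix _ b b h).symm.trans ((c.ncard_fix_conj (fun i => c.θ (a i)) hn).trans
    (c.ncard_fix _ a a fun i => c.act_θ (ha i))))

theorem eq_one {n : G} (hn : c.NV n) {a : AG} (ha : a ∈ Ks) (h : Dg c (n⁻¹ * c.θ a * n) 1) : a = 1 := by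
  have h1 := H42.conj_mem_of_mem_normalizer (H42.normalizer_le_normalizer_centralizer _ (c.nv_iff_mem.1 hn))
    (c.cv_iff_mem.1 (c.cv_iff.2 h))
  rw [show n * (n⁻¹ * c.θ a * n) * n⁻¹ = c.θ a by group] at h1
  exact Dg.unique (c.act_θ (Ks_le_Ns ha)) (c.cv_iff.1 (c.cv_iff_mem.2 h1)) ha Ks.one_mem

theorem move {n : G} (hn : c.NV n) (h : n * c.t * n⁻¹ = c.t * c.θ e0) {k : AG} (hk : k ∈ Ns) :
    c.NV (n * c.θ k) ∧ n * c.θ k * c.t * (n * c.θ k)⁻¹ = c.t * c.θ e0 ∧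
      ∀ g b, Dg c (n⁻¹ * g * n) b → Dg c ((n * c.θ k)⁻¹ * g * (n * c.θ k)) (k⁻¹ * b * k) :=
  ⟨c.nv_iff_mem.2 (mul_mem (c.nv_iff_mem.1 hn) (c.nv_iff_mem.1 (Sp.Act.nv c (c.act_θ hk)))),
    by rw [← h, mul_assoc n, (c.toCf.θt k).eq]; group, fun g b q => by
      have := q.conj hk
      rwa [show (c.θ k)⁻¹ * (n⁻¹ * g * n) * c.θ k = (n * c.θ k)⁻¹ * g * (n * c.θ k) by group] at this⟩

theorem dg_mul {n : G} {b : ℕ → AG} (h1 : ∀ i, b i ∈ Ks) (h2 : ∀ i, Dg c (n⁻¹ * c.θ (ee i) * n) (b i))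
    {i j : ℕ} (hi : i < 16) (hj : j < 16) : b (i ^^^ j) = b i * b j := by
  refine (h2 _).unique ?_ (h1 _) (mul_mem (h1 i) (h1 j))
  have := (h2 i).mul (h2 j)
  rwa [show n⁻¹ * c.θ (ee i) * n * (n⁻¹ * c.θ (ee j) * n) = n⁻¹ * (c.θ (ee i) * c.θ (ee j)) * n by group,
    ← c.toCf.θ_mul (ee_mem' _) (ee_mem' _), ee_mul hi hj] at this

theorem dg_zero {n : G} {b : ℕ → AG} (h1 : ∀ i, b i ∈ Ks) (h2 : ∀ i, Dg c (n⁻¹ * c.θ (ee i) * n) (b i)) :
    b 0 = 1 := left_eq_mul.1 (dg_mul h1 h2 (i := 0) (j := 0) (by decide) (by decide))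

theorem step1 {n : G} (hn : c.NV n) (h : n * c.t * n⁻¹ = c.t * c.θ e0) :
    ∃ n, c.NV n ∧ n * c.t * n⁻¹ = c.t * c.θ e0 ∧ Dg c (n⁻¹ * c.θ e0 * n) e0 := by
  choose b h1 h2 using exists_dg hn h
  have q := card_fx (ι := Unit) hn (a := fun _ => ee 1) (b := fun _ => b 1) (fun _ => ee_mem' 1) fun _ => h2 1
  rw [Set.range_const, Set.range_const, ncard_fx_ee (by decide) (by decide)] at q
  obtain ⟨k, hk, e⟩ := conj_e0 (h1 1) (by
      rw [← dg_mul h1 h2 (by decide) (by decide)]; exact dg_zero h1 h2)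
    (fun e => absurd (ee_inj (i := 1) (j := 0) (by decide) (by decide)
      ((eq_one hn (ee_mem 1) (e ▸ h2 1)).trans ee_zero.symm)) (by decide)) q.ge
  obtain ⟨q1, q2, q3⟩ := move hn h (Ks_le_Ns hk)
  refine ⟨_, q1, q2, ?_⟩
  have := q3 _ _ (h2 1)
  rwa [← e, show k⁻¹ * (k * e0 * k⁻¹) * k = e0 by group] at this

end O2

variable {J G : Type*} [Group J] [Group G] [Finite J] [Finite G]

open O2 in
theorem Sp.oct2 (c : Sp J G) {n : G} (hn : c.NV n) (h : n * c.t * n⁻¹ = c.t * c.θ e0) :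
    ∃ x, c.NV x ∧ x * c.t * x⁻¹ = c.t * c.θ e0 ∧
      ∀ i, c.CV ((c.θ (ee i))⁻¹ * (x⁻¹ * c.θ (ee i) * x)) := by
  obtain ⟨n, hn, h, h0⟩ := step1 hn h
  choose b h1 h2 using exists_dg hn h
  have hm := fun {i j} => dg_mul h1 h2 (i := i) (j := j)
  have b0 := dg_zero h1 h2
  have b1 : b 1 = e0 := (h2 1).unique h0 (h1 1) (ee_mem 1)
  have q := card_fx hn ee_mem' h2
  rw [ncard_fx_E] at q
  have ex : ∀ i < 16, ∃ j < 16, b i = ee j := fun i hi => exists_ee_of_comm (h1 i)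
    (by rw [← b1, ← hm hi (by decide), ← hm (by decide) hi, Nat.xor_comm])
    (q.ge.trans (Set.ncard_le_ncard fun v hv => ⟨hv.1, by
      rintro _ (rfl | rfl)
      exacts [b1 ▸ hv.2 _ ⟨1, rfl⟩, hv.2 _ ⟨i, rfl⟩]⟩))
  choose! σ s1 s2 using ex
  have sm : ∀ i < 16, ∀ j < 16, σ i ^^^ σ j = σ (i ^^^ j) := fun i hi j hj =>
    ee_inj (xor_lt (s1 i hi) (s1 j hj)) (s1 _ (xor_lt hi hj))
      (by rw [← ee_mul (s1 i hi) (s1 j hj), ← s2 i hi, ← s2 j hj, ← s2 _ (xor_lt hi hj), hm hi hj])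
  have s0 : 0 = σ 0 := ee_inj (by decide) (s1 0 (by decide)) (by rw [← s2 0 (by decide), b0, ee_zero])
  have s1' : 1 = σ 1 := ee_inj (by decide) (s1 1 (by decide)) (by rw [← s2 1 (by decide), b1, e0])
  have si : ∀ i < 16, ∀ j < 16, σ i = σ j ↔ i = j := fun i hi j hj => ⟨fun e => by
    have k : b (i ^^^ j) = 1 := by
      rw [s2 _ (xor_lt hi hj), ← sm i hi j hj, e, Nat.xor_self, ee_zero]
    exact Nat.xor_eq_zero_iff.1 (ee_inj (xor_lt hi hj) (by decide)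
      ((eq_one hn (ee_mem _) (k ▸ h2 _)).trans ee_zero.symm)), congrArg σ⟩
  obtain ⟨k, hk, k1, k2, k4, k8⟩ := exists_aut_ee (s1 2 (by decide)) (s1 4 (by decide)) (s1 8 (by decide))
    (by rw [s0, s1']; simp (disch := decide) only [List.mem_cons, List.not_mem_nil, si]; decide)
    (by rw [s0, s1']; simp (disch := decide) only [List.mem_cons, List.not_mem_nil, sm, si]; decide)
    (by rw [s0, s1']; simp (disch := decide) only [List.mem_cons, List.not_mem_nil, sm, si]; decide)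
  have st : ∀ m < 9, k * ee m * k⁻¹ = b m → (∀ i < 2 * m, i < m ∨ ∃ j < m, i = j ^^^ m) →
      (∀ i < m, k * ee i * k⁻¹ = b i) → ∀ i < 2 * m, k * ee i * k⁻¹ = b i := fun m hm' p d l i hi => by
    rcases d i hi with r | ⟨j, hj, rfl⟩
    · exact l i r
    · rw [hm (by omega) (by omega), ← ee_mul (by omega) (by omega), ← l j hj, ← p, conj_mul]
  have all := st 8 (by decide) (k8.trans (s2 8 (by decide)).symm) (by decide)
    (st 4 (by decide) (k4.trans (s2 4 (by decide)).symm) (by decide)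
      (st 2 (by decide) (k2.trans (s2 2 (by decide)).symm) (by decide)
        (st 1 (by decide) (k1.trans b1.symm) (by decide) fun i hi => by
          rw [show i = 0 by omega, ee_zero, b0, mul_one, mul_inv_cancel])))
  obtain ⟨q1, q2, q3⟩ := move hn h (Ks_le_Ns hk)
  refine ⟨_, q1, q2, fun i => ?_⟩
  obtain ⟨j, hj, e⟩ := ee_lt i
  have := q3 _ _ (h2 j)
  rw [← all j hj, show k⁻¹ * (k * ee j * k⁻¹) * k = ee j by group] at this
  rw [e]
  exact Sp.Act.cv c (c.act_θ (ee_mem' j)) this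

end Cfsg.Agent.WJ
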