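import Cfsg.Agent.WJ.Base2
import Cfsg.Agent.WJ.MOct

set_option autoImplicit false

namespace Cfsg.Agent.WJ

open Cfsg.Agent.SGJ4 Cfsg.Agent.J4P Cfsg.Agent.H14 AG Subgroup
open Cfsg.Agent.H42 (SylIn cj)

namespace O3X

/-- a generator of the even cocode as a module for the octad group -/
def v0 : Vb := Vb.of 435

def cc1 : ℕ := nat_lit 0x800400002ecc010b1dc750401ed6e33da080bd9a68281238d13ad1e95b024895c2

theorem inS_cc1 : InS Ks cc1 := inS_Ks (by decide +kernel)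

/-- an element of order 7 that fixes `e₀` and `v0` -/
noncomputable def c1 : AG := ofC cc1

theorem c1_mem : c1 ∈ Ks := inS_cc1.ofC_mem
theorem cd_c1 : cd c1 = cc1 := inS_cc1.cd_ofC

theorem v0_mem : v0 ∈ Ev := mem_Ev'.2 (by decide +kernel)

theorem ee_ev (i : ℕ) {v : Vb} (h : v ∈ Ev) : (ee i).m v ∈ Ev := (m_mem_Ev (ee_mem i).1).2 h

theorem c1_v0 : c1.m v0 = v0 := by
  rw [v0, m_of, cd_c1]; exact Vb.ext (by decide +kernel)

theorem c1_e0 : c1 * e0 = e0 * c1 := by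
  rw [← cd_inj, cd_mul, cd_mul, e0, cd_ee, cd_c1]; decide +kernel

theorem c1_ee (i : ℕ) : ∃ j, c1 * ee j = ee i * c1 := by
  by_cases hi : i < 16
  · have h : allN 16 (fun i => Nat.beq (cmul cc1 (nthD eL cone
      (nthD [0, 1, 7, 6, 15, 14, 8, 9, 4, 5, 3, 2, 11, 10, 12, 13] 0 i)))
      (cmul (nthD eL cone i) cc1)) = true := by decide +kernel
    refine ⟨nthD [0, 1, 7, 6, 15, 14, 8, 9, 4, 5, 3, 2, 11, 10, 12, 13] 0 i, cd_inj.1 ?_⟩
    · rw [cd_mul, cd_mul, cd_ee, cd_ee, cd_c1]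
      exact beq_iff.1 (allN_iff.1 h i hi)
  · exact ⟨0, by rw [ee_zero, ee_ge (not_lt.1 hi), mul_one, one_mul]⟩

def SUo : ℕ := nat_lit 0xa00801fb431d900bda8406cc9edc001b3
def TUo : ℕ := nat_lit 0x2002026002407b321044e56927f3d64d5000

/-- the orbit of `v0` under the octad group spans the even cocode -/
theorem ev_induction {P : Vb → Prop} (h0 : P 0) (he : ∀ i < 16, P ((ee i).m v0))
    (ha : ∀ a ∈ Ev, ∀ b ∈ Ev, P a → P b → P (a + b)) : ∀ v ∈ Ev, P v := by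
  have k1 : all2 64 64 (fun n => bimp (Nat.beq (pn n) 0) (Nat.beq (ap SUo (ap TUo n)) n)) = true := by
    decide +kernel
  have k2 : allN 11 (fun j => Nat.beq (col SUo j)
      (ap (cA (nthD eL cone (nthD [0, 1, 2, 3, 4, 5, 6, 8, 9, 10, 12] 0 j))) 435)) = true := by
    decide +kernel
  have k3 : ∀ j < 11, nthD [0, 1, 2, 3, 4, 5, 6, 8, 9, 10, 12] 0 j < 16 := by decide +kernel
  have k : ∀ w, hom SUo w ∈ Ev ∧ P (hom SUo w) := by
    refine Vb.induction (by rw [map_zero]; exact ⟨Ev.zero_mem, h0⟩) (fun j hj => ?_)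
      fun a b h1 h2 => by
        rw [map_add]; exact ⟨Ev.add_mem h1.1 h2.1, ha _ h1.1 _ h2.1 h1.2 h2.2⟩
    by_cases hj' : j < 11
    · have : hom SUo (Vb.e j) = (ee (nthD [0, 1, 2, 3, 4, 5, 6, 8, 9, 10, 12] 0 j)).m v0 := by
        refine Vb.ext ?_
        rw [val_hom_e _ hj, val_m, cd_ee]
        exact beq_iff.1 (allN_iff.1 k2 j hj')
      rw [this]
      exact ⟨ee_ev _ v0_mem, he _ (k3 j hj')⟩
    · obtain rfl : j = 11 := by omega
      have : hom SUo (Vb.e 11) = 0 := Vb.ext (by rw [val_hom_e _ hj]; decide +kernel)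
      rw [this]; exact ⟨Ev.zero_mem, h0⟩
  intro v hv
  have : hom SUo (hom TUo v) = v := Vb.ext (by
    rw [val_hom, val_hom]
    exact beq_iff.1 (bimp_iff.1 (all2_iff.1 k1 _ v.lt) (beq_iff.2 (mem_Ev'.1 hv))))
  exact this ▸ (k _).2

/-- parity of the intersection with the octad -/
def lm (v : Vb) : ZMod 2 := (bt (ap (nat_lit 0x1000000000000000001000000001000000) v.val) 0 : ℕ)

theorem lm_add (v w : Vb) : lm (v + w) = lm v + lm w := by
  rw [lm, Vb.val_add, ap_xor, bt_xor]; rfl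

theorem lm_zero : lm 0 = 0 := by decide +kernel

theorem lm_ee0 (i : ℕ) : lm ((ee i).m v0) = 1 ∧ lm (c1.m ((ee i).m v0)) = 1 := by
  have h : allN 16 (fun i => force (ap (cA (nthD eL cone i)) 435) fun n =>
      and (Nat.beq (bt (ap (nat_lit 0x1000000000000000001000000001000000) n) 0) 1)
        (Nat.beq (bt (ap (nat_lit 0x1000000000000000001000000001000000) (ap (cA cc1) n)) 0) 1)) =
      true := by decide +kernel
  have k : ∀ i < 16, lm ((ee i).m v0) = 1 ∧ lm (c1.m ((ee i).m v0)) = 1 := fun i hi => by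
    have := allN_iff.1 h i hi
    rw [force_eq, Bool.and_eq_true, beq_iff, beq_iff] at this
    have e : v0.val = 435 := rfl
    rw [lm, lm, val_m, val_m, val_m, cd_ee, cd_c1, e, this.1, this.2]
    exact ⟨rfl, rfl⟩
  by_cases hi : i < 16
  · exact k i hi
  · rw [ee_ge (not_lt.1 hi), ← ee_zero]; exact k 0 (by decide)

theorem lm_v0 : lm v0 = 1 := by decide +kernel

theorem lm_ee (i : ℕ) : ∀ v ∈ Ev, lm ((ee i).m v) = lm v := by
  by_cases hi : i < 16
  · refine ev_induction (by rw [map_zero]) (fun j hj => ?_) fun a _ b _ h1 h2 => by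
      rw [map_add, lm_add, lm_add, h1, h2]
    rw [← mul_m, ee_mul hi hj, (lm_ee0 _).1, (lm_ee0 _).1]
  · intro v _; rw [ee_ge (not_lt.1 hi), one_m]

theorem lm_c1 : ∀ v ∈ Ev, lm (c1.m v) = lm v :=
  ev_induction (by rw [map_zero]) (fun j _ => by rw [(lm_ee0 _).1, (lm_ee0 _).2])
    fun a _ b _ h1 h2 => by rw [map_add, lm_add, lm_add, h1, h2]

theorem ee_comm (i j : ℕ) (v : Vb) : (ee i).m ((ee j).m v) = (ee j).m ((ee i).m v) := by
  by_cases hi : i < 16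
  · by_cases hj : j < 16
    · rw [← mul_m, ← mul_m, ee_mul hi hj, ee_mul hj hi, Nat.xor_comm]
    · rw [ee_ge (not_lt.1 hj), one_m, one_m]
  · rw [ee_ge (not_lt.1 hi), one_m, one_m]

theorem fix_c1 {i : ℕ} (hi : i < 16) : ∃ j < 16, ∀ v ∈ Ev, c1.m v = (ee i).m v →
    (lm v = 1 → (ee j).m v = v0 ∨ (ee j).m v = e0.m v0) ∧
      (lm v = 0 → (ee j).m v = 0 ∨ (ee j).m v = v0 + e0.m v0) := by
  have h : allN 16 (fun i => force (cA (nthD eL cone i)) fun A =>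
      force (cA (nthD eL cone (nthD [0, 0, 12, 12, 6, 6, 10, 10, 2, 2, 14, 14, 4, 4, 8, 8] 0 i)))
        fun B => force (cA cc1) fun C => all2 64 64 fun n =>
        bimp (Nat.beq (ap C n) (ap A n)) (bimp (Nat.beq (pn n) 0) (force (ap B n) fun m =>
          or (or (Nat.beq m 0) (Nat.beq m 435)) (or (Nat.beq m 3072) (Nat.beq m 3507))))) =
      true := by decide +kernel
  have k3 : ∀ j < 16, nthD [0, 0, 12, 12, 6, 6, 10, 10, 2, 2, 14, 14, 4, 4, 8, 8] 0 j < 16 := by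
    decide +kernel
  refine ⟨_, k3 i hi, fun v hv e => ?_⟩
  have h1 := allN_iff.1 h i hi
  simp only [force_eq] at h1
  have h2 := bimp_iff.1 (bimp_iff.1 (all2_iff.1 h1 _ v.lt) (beq_iff.2 (by
    rw [← cd_c1, ← cd_ee, ← val_m, ← val_m, e]))) (beq_iff.2 (mem_Ev'.1 hv))
  rw [← cd_ee, ← val_m] at h2
  simp only [Bool.or_eq_true, beq_iff] at h2
  have e1 : e0.m v0 = Vb.of 3072 := by
    rw [v0, m_of, e0, cd_ee]; exact Vb.ext (by decide +kernel)
  have e2 : v0 + Vb.of 3072 = Vb.of 3507 := Vb.ext (by decide +kernel)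
  have l1 : lm (Vb.of 3072) = 1 := by decide +kernel
  have l2 : lm (Vb.of 3507) = 0 := by decide +kernel
  rw [← lm_ee (nthD [0, 0, 12, 12, 6, 6, 10, 10, 2, 2, 14, 14, 4, 4, 8, 8] 0 i) v hv, e1, e2]
  generalize (ee (nthD [0, 0, 12, 12, 6, 6, 10, 10, 2, 2, 14, 14, 4, 4, 8, 8] 0 i)).m v = w at h2
  rcases h2 with (h2 | h2) | h2 | h2
  · obtain rfl : w = 0 := Vb.ext h2
    exact ⟨fun h => absurd (lm_zero.symm.trans h) (by decide), fun _ => Or.inl rfl⟩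
  · obtain rfl : w = v0 := Vb.ext h2
    exact ⟨fun _ => Or.inl rfl, fun h => absurd (lm_v0.symm.trans h) (by decide)⟩
  · obtain rfl : w = Vb.of 3072 := Vb.ext h2
    exact ⟨fun _ => Or.inr rfl, fun h => absurd (l1.symm.trans h) (by decide)⟩
  · obtain rfl : w = Vb.of 3507 := Vb.ext h2
    exact ⟨fun h => absurd (l2.symm.trans h) (by decide), fun _ => Or.inr rfl⟩

/-- endomorphisms of the even cocode that commute with the octad group -/
structure EH (f : Vb → Vb) : Prop where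
  mem : ∀ u ∈ Ev, f u ∈ Ev
  add : ∀ u ∈ Ev, ∀ w ∈ Ev, f (u + w) = f u + f w
  eqv : ∀ i, ∀ u ∈ Ev, f ((ee i).m u) = (ee i).m (f u)

theorem EH.zero {f : Vb → Vb} (h : EH f) : f 0 = 0 := by
  have := h.add 0 Ev.zero_mem 0 Ev.zero_mem
  rwa [add_zero, Vb.add_self] at this

theorem EH.ext {f g : Vb → Vb} (h : EH f) (h' : EH g) (e : f v0 = g v0) : ∀ u ∈ Ev, f u = g u :=
  ev_induction (by rw [h.zero, h'.zero])
    (fun i _ => by rw [h.eqv i _ v0_mem, h'.eqv i _ v0_mem, e])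
    fun a ha b hb h1 h2 => by rw [h.add _ ha _ hb, h'.add _ ha _ hb, h1, h2]

theorem EH.lm {f : Vb → Vb} (h : EH f) : ∀ u ∈ Ev, lm (f u) = lm (f v0) * lm u :=
  ev_induction (by rw [h.zero, lm_zero, mul_zero])
    (fun i _ => by rw [h.eqv i _ v0_mem, lm_ee _ _ (h.mem _ v0_mem), (lm_ee0 i).1, mul_one])
    fun a ha b hb h1 h2 => by rw [h.add _ ha _ hb, lm_add, lm_add, h1, h2, mul_add]

theorem EH.comp {f : Vb → Vb} (h : EH f) (j : ℕ) : EH fun u => (ee j).m (f u) :=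
  ⟨fun u hu => ee_ev _ (h.mem u hu), fun u hu w hw => by rw [h.add _ hu _ hw, map_add],
    fun i u hu => by rw [h.eqv _ _ hu, ee_comm]⟩

theorem eh_id : EH fun u => u := ⟨fun _ h => h, fun _ _ _ _ => rfl, fun _ _ _ => rfl⟩

theorem eh_zero : EH fun _ => 0 :=
  ⟨fun _ _ => Ev.zero_mem, fun _ _ _ _ => (add_zero _).symm, fun _ _ _ => (map_zero _).symm⟩

theorem eh_e0 : EH fun u => u + e0.m u :=
  ⟨fun _ h => Ev.add_mem h (ee_ev _ h), fun _ _ _ _ => by rw [map_add]; abel,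
    fun i _ _ => by rw [map_add, e0, ee_comm]⟩

variable {J G : Type*} [Group J] [Group G] [Finite J] [Finite G]

/-- the conditions on the conjugating element -/
structure Cd (c : Sp J G) (x : G) (F : Vb → Vb → Vb × Vb) : Prop where
  act : c.Act x F
  h : x * c.t * x⁻¹ = c.t * c.θ e0
  eqv : ∀ i, ∀ u ∈ Ev, ∀ w ∈ Ev,
    F ((ee i).m u) ((ee i).m w) = ((ee i).m (F u w).1, (ee i).m (F u w).2)

variable {c : Sp J G} {x : G} {F : Vb → Vb → Vb × Vb}

theorem Cd.ehA (h : Cd c x F) : EH fun u => (F u 0).1 :=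
  ⟨fun u hu => (h.act u hu 0 Ev.zero_mem).1, fun u hu w hw => by
    have := Sp.Act.add c h.act hu Ev.zero_mem hw Ev.zero_mem
    rw [add_zero] at this
    rw [this]; rfl, fun i u hu => by
    have := h.eqv i u hu 0 Ev.zero_mem
    rw [map_zero] at this
    rw [this]⟩

theorem Cd.ehB (h : Cd c x F) : EH fun u => (F 0 u).1 :=
  ⟨fun u hu => (h.act 0 Ev.zero_mem u hu).1, fun u hu w hw => by
    have := Sp.Act.add c h.act Ev.zero_mem hu Ev.zero_mem hw
    rw [add_zero] at this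
    rw [this]; rfl, fun i u hu => by
    have := h.eqv i 0 Ev.zero_mem u hu
    rw [map_zero] at this
    rw [this]⟩

theorem Cd.fst (h : Cd c x F) {u w : Vb} (hu : u ∈ Ev) (hw : w ∈ Ev) :
    (F u w).1 = (F u 0).1 + (F 0 w).1 := by
  have := Sp.Act.add c h.act hu Ev.zero_mem Ev.zero_mem hw
  rw [add_zero, zero_add] at this
  rw [this]; rfl

theorem Cd.snd (h : Cd c x F) {u w : Vb} (hu : u ∈ Ev) (hw : w ∈ Ev) :
    (F u w).2 = e0.m (F w u).1 := by
  have h1 := Sp.Act.mul c h.act c.act_t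
  have h2 := Sp.Act.mul c (Sp.Act.mul c c.act_t (c.act_θ (ee_mem' 1))) h.act
  rw [show c.t * c.θ (ee 1) * x = x * c.t by rw [← e0, ← h.h]; group] at h2
  exact congrArg Prod.snd (Sp.Act.unique c h1 h2 w hw u hu)

theorem Cd.swap (h : Cd c x F) : Cd c (x * c.t) fun u w => F w u :=
  ⟨Sp.Act.congr c (Sp.Act.mul c h.act c.act_t) fun _ _ _ _ => by simp only,
    by rw [← h.h]; group, fun i u hu w hw => h.eqv i w hw u hu⟩

theorem Cd.inj (h : Cd c x F) {u w u' w' : Vb} (hu : u ∈ Ev) (hw : w ∈ Ev) (hu' : u' ∈ Ev)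
    (hw' : w' ∈ Ev) (e : F u w = F u' w') : u = u' ∧ w = w' := by
  have h1 := (h.act u hu w hw).2.2
  rw [e, ← (h.act u' hu' w' hw').2.2, mul_left_inj, mul_right_inj] at h1
  exact c.P_inj hu hw hu' hw' h1

theorem Cd.ne (h : Cd c x F) : lm (F v0 0).1 ≠ lm (F 0 v0).1 := by
  intro e
  have hx : c.NV x⁻¹ := c.nv_iff_mem.2 (inv_mem (c.nv_iff_mem.1 (Sp.Act.nv c h.act)))
  obtain ⟨u, hu, w, hw, e1⟩ := c.exists_P (hx _ (c.P_mem v0_mem Ev.zero_mem))
  obtain ⟨h1, h2, h3⟩ := h.act u hu w hw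
  rw [← e1, show x * (x⁻¹ * c.P v0 0 * x⁻¹⁻¹) * x⁻¹ = c.P v0 0 by group] at h3
  obtain ⟨e2, e3⟩ := c.P_inj v0_mem Ev.zero_mem h1 h2 h3
  have k1 := congrArg lm e2
  have k2 := congrArg lm e3
  rw [h.fst hu hw, lm_add, h.ehA.lm u hu, h.ehB.lm w hw, lm_v0, e] at k1
  rw [h.snd hu hw, e0, lm_ee _ _ (h.act w hw u hu).1, h.fst hw hu, lm_add, h.ehA.lm w hw,
    h.ehB.lm u hu, lm_zero, e, add_comm] at k2
  exact absurd (k1.trans k2.symm) (by decide)

theorem Cd.fin (h : Cd c x F) {j : ℕ} (h1 : (ee j).m (F v0 0).1 = v0)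
    (h2 : (ee j).m (F 0 v0).1 = 0 ∨ (ee j).m (F 0 v0).1 = v0 + e0.m v0) :
    ∃ x, c.Act x (fun u w => (u, e0.m w)) ∨
      c.Act x fun u w => (u + (w + e0.m w), u + e0.m u + e0.m w) := by
  have hA := (h.ehA.comp j).ext eh_id h1
  have h3 := Sp.Act.mul c (c.act_θ (ee_mem' j)) h.act
  refine ⟨c.θ (ee j) * x, h2.imp (fun h2 => ?_) fun h2 => ?_⟩
  · have hB := (h.ehB.comp j).ext eh_zero h2
    refine Sp.Act.congr c h3 fun u hu w hw => ?_
    show ((ee j).m (F u w).1, (ee j).m (F u w).2) = _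
    rw [h.snd hu hw, e0, ee_comm, h.fst hu hw, h.fst hw hu, map_add, map_add (ee j).m]
    rw [hA u hu, hA w hw, hB u hu, hB w hw, add_zero, add_zero]
  · have hB := (h.ehB.comp j).ext eh_e0 h2
    refine Sp.Act.congr c h3 fun u hu w hw => ?_
    show ((ee j).m (F u w).1, (ee j).m (F u w).2) = _
    rw [h.snd hu hw, e0, ee_comm, h.fst hu hw, h.fst hw hu, map_add, map_add (ee j).m]
    rw [hA u hu, hA w hw, hB u hu, hB w hw, e0, map_add, map_add, ← mul_m (ee 1) (ee 1),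
      ee_mul (by decide) (by decide), Nat.xor_self, ee_zero, one_m]
    congr 1
    abel

theorem Cd.main (h : Cd c x F) (hA : lm (F v0 0).1 = 1) (hB : lm (F 0 v0).1 = 0) :
    ∃ x, c.Act x (fun u w => (u, e0.m w)) ∨
      c.Act x fun u w => (u + (w + e0.m w), u + e0.m u + e0.m w) := by
  have hc := Ks_le_Ns c1_mem
  have cv : ∀ {v}, v ∈ Ev → c1.m v ∈ Ev := fun hv => (m_mem_Ev c1_mem.1).2 hv
  have hx := c.nv_iff_mem.1 (Sp.Act.nv c h.act)
  have hθ := c.nv_iff_mem.1 (Sp.Act.nv c (c.act_θ hc))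
  have hy : c.NV (x⁻¹ * (c.θ c1 * x * (c.θ c1)⁻¹)) :=
    c.nv_iff_mem.2 (mul_mem (inv_mem hx) (mul_mem (mul_mem hθ hx) (inv_mem hθ)))
  have ht : Commute (x⁻¹ * (c.θ c1 * x * (c.θ c1)⁻¹)) c.t := by
    have e1 : c.θ c1 * c.θ e0 = c.θ e0 * c.θ c1 := by
      rw [e0, ← c.toCf.θ_mul hc (ee_mem' 1), ← c.toCf.θ_mul (ee_mem' 1) hc]
      exact congrArg _ c1_e0
    have e2 := (c.toCf.θt c1).eq
    have e3 : x * c.t = c.t * c.θ e0 * x := by rw [← h.h]; group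
    have e4 : x⁻¹ * (c.t * c.θ e0) = c.t * x⁻¹ := by rw [← h.h]; group
    calc x⁻¹ * (c.θ c1 * x * (c.θ c1)⁻¹) * c.t
        = x⁻¹ * (c.θ c1 * x) * ((c.θ c1)⁻¹ * c.t) := by group
      _ = x⁻¹ * c.θ c1 * (x * c.t) * (c.θ c1)⁻¹ := by rw [(c.toCf.θt c1).inv_left.eq]; group
      _ = x⁻¹ * ((c.θ c1 * c.t) * c.θ e0) * x * (c.θ c1)⁻¹ := by rw [e3]; group
      _ = x⁻¹ * (c.t * (c.θ c1 * c.θ e0)) * x * (c.θ c1)⁻¹ := by rw [e2]; group
      _ = x⁻¹ * (c.t * c.θ e0) * c.θ c1 * x * (c.θ c1)⁻¹ := by rw [e1]; group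
      _ = _ := by rw [e4]; group
  obtain ⟨a, ha, o, ho, e⟩ := c.toCf.cenN ht (c.nmV_of_nv hy ht)
  have av : ∀ {v}, v ∈ Ev → a.m v ∈ Ev := fun hv => (m_mem_Ev ha.1).2 hv
  -- the action of the element that relates `x` to its conjugate
  have key : ∀ (y : G) (H : Vb → Vb → Vb × Vb), c.Act y H →
      x⁻¹ * (c.θ c1 * x * (c.θ c1)⁻¹) = y * o → ∀ u ∈ Ev, ∀ w ∈ Ev,
        F (H (c1.m u) (c1.m w)).1 (H (c1.m u) (c1.m w)).2 = (c1.m (F u w).1, c1.m (F u w).2) := by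
    intro y H hH e u hu w hw
    have h1 := Sp.Act.of_cv c (h := y * o) hH (by rw [inv_mul_cancel_left]; exact c.cv_O ho)
    have h2 := Sp.Act.mul c (Sp.Act.mul c h.act h1) (c.act_θ hc)
    rw [← e, show x * (x⁻¹ * (c.θ c1 * x * (c.θ c1)⁻¹)) * c.θ c1 = c.θ c1 * x by group] at h2
    exact Sp.Act.unique c h2 (Sp.Act.mul c (c.act_θ hc) h.act) u hu w hw
  have cent : (∀ i, ∀ u ∈ Ev, a.m ((ee i).m (c1.m u)) = (ee i).m (a.m (c1.m u))) →
      ∃ i < 16, ∀ v, a.m v = (ee i).m v := fun k => by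
    obtain ⟨i, hi, e⟩ := exists_ee_of_cent (lin_mem_Ks ha.1) fun i => by
      have h3 := Ks.mul_mem (Ks.inv_mem (Ks.mul_mem (ee_mem i) (lin_mem_Ks ha.1)))
        (Ks.mul_mem (lin_mem_Ks ha.1) (ee_mem i))
      have := lin_eq_one_of_Ev h3.1 fun v hv => by
        have h4 := k i _ ((m_mem_Ev (Nf.inv_mem c1_mem.1)).2 hv)
        rw [m_inv_m] at h4
        rw [mul_m, mul_m (lin a), lin_m, h4, ← lin_m a, ← mul_m (ee i), inv_m_m]
      rw [lin_eq_self.2 h3.2] at this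
      exact (inv_mul_eq_one.1 this).symm
    exact ⟨i, hi, fun v => by rw [← e, lin_m]⟩
  have e12 : ∀ i, ∃ j, ∀ v, c1.m ((ee j).m v) = (ee i).m (c1.m v) := fun i => by
    obtain ⟨j, e⟩ := c1_ee i
    exact ⟨j, fun v => by rw [← mul_m, e, mul_m]⟩
  have z := Ev.zero_mem
  rcases e with e | e
  · have k := key _ _ (c.act_θ ha) e
    simp only at k
    obtain ⟨i, hi, ei⟩ := cent fun i u hu => by
      obtain ⟨j, ej⟩ := e12 i
      have k1 := k _ (ee_ev j hu) 0 z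
      have k2 := h.eqv j u hu 0 z
      have k3 := h.eqv i _ (av (cv hu)) 0 z
      have k4 := k u hu 0 z
      simp only [map_zero] at k1 k2 k3 k4
      rw [k2, ej, ej, ej] at k1
      rw [k4] at k3
      exact (h.inj (av (ee_ev _ (cv hu))) z (ee_ev _ (av (cv hu))) z (k1.trans k3.symm)).1
    obtain ⟨j, hj, ej⟩ := fix_c1 hi
    have k1 := k _ v0_mem 0 z
    have k2 := k 0 z _ v0_mem
    simp only [map_zero, c1_v0, ei] at k1 k2
    have k3 := (ej _ (h.ehA.mem _ v0_mem) ((congrArg Prod.fst k1).symm.trans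
      (h.ehA.eqv i _ v0_mem))).1 hA
    have k4 := (ej _ (h.ehB.mem _ v0_mem) ((congrArg Prod.fst k2).symm.trans
      (h.ehB.eqv i _ v0_mem))).2 hB
    have e11 : ∀ v, (ee 1).m ((ee 1).m v) = v := fun v => by
      rw [← mul_m, ee_mul (by decide) (by decide), Nat.xor_self, ee_zero, one_m]
    rcases k3 with k3 | k3
    · exact h.fin k3 k4
    · refine h.fin (j := 1 ^^^ j) ?_ ?_
      · rw [← ee_mul (by decide) hj, mul_m, k3, e0, e11]
      · rw [← ee_mul (by decide) hj, mul_m]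
        refine k4.imp (fun k4 => by rw [k4, map_zero]) fun k4 => ?_
        rw [k4, map_add, e0, e11, add_comm]
  · exfalso
    have k := key _ _ (Sp.Act.mul c c.act_t (c.act_θ ha)) e
    simp only at k
    obtain ⟨i, hi, ei⟩ := cent fun i u hu => by
      obtain ⟨j, ej⟩ := e12 i
      have k1 := k _ (ee_ev j hu) 0 z
      have k2 := h.eqv j u hu 0 z
      have k3 := h.eqv i 0 z _ (av (cv hu))
      have k4 := k u hu 0 z
      simp only [map_zero] at k1 k2 k3 k4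
      rw [k2, ej, ej, ej] at k1
      rw [k4] at k3
      exact (h.inj z (av (ee_ev _ (cv hu))) z (ee_ev _ (av (cv hu))) (k1.trans k3.symm)).2
    have k1 := k _ v0_mem 0 z
    simp only [map_zero, c1_v0, ei] at k1
    have k2 := congrArg lm ((congrArg Prod.fst k1).symm.trans (h.ehB.eqv i _ v0_mem))
    rw [lm_c1 _ (h.ehA.mem _ v0_mem), lm_ee _ _ (h.ehB.mem _ v0_mem), hA, hB] at k2
    exact absurd k2 (by decide)

end O3X

open O3X

variable {J G : Type*} [Group J] [Group G] [Finite J] [Finite G]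

theorem Sp.oct3 (c : Sp J G) {x : G} (hx : c.NV x) (h : x * c.t * x⁻¹ = c.t * c.θ e0)
    (hE : ∀ i, c.CV ((c.θ (ee i))⁻¹ * (x⁻¹ * c.θ (ee i) * x))) :
    ∃ x, c.Act x (fun u w => (u, e0.m w)) ∨
      c.Act x fun u w => (u + (w + e0.m w), u + e0.m u + e0.m w) := by
  obtain ⟨F, hF⟩ := Sp.NV.exists_act c hx
  have hd : Cd c x F := ⟨hF, h, fun i u hu w hw => by
    have h1 := Sp.Act.mul c hF (c.act_θ (ee_mem' i))
    have h2 := Sp.Act.of_cv c (h := c.θ (ee i) * x) h1 (by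
      rw [show (x * c.θ (ee i))⁻¹ * (c.θ (ee i) * x) = (c.θ (ee i))⁻¹ * (x⁻¹ * c.θ (ee i) * x) by
        group]
      exact hE i)
    exact Sp.Act.unique c h2 (Sp.Act.mul c (c.act_θ (ee_mem' i)) hF) u hu w hw⟩
  have k : ∀ p q : ZMod 2, p ≠ q → (p = 1 ∧ q = 0) ∨ (q = 1 ∧ p = 0) := by decide
  rcases k _ _ hd.ne with ⟨h1, h2⟩ | ⟨h1, h2⟩
  · exact hd.main h1 h2
  · exact hd.swap.main h1 h2

end Cfsg.Agent.WJ
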