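import Cfsg.Agent.WJ.Cen
import Cfsg.Agent.WJ.MOct

set_option autoImplicit false

namespace Cfsg.Agent.WJ

open Cfsg.Agent.SGJ4 Cfsg.Agent.J4P Cfsg.Agent.H14 AG Subgroup
open Cfsg.Agent.H42 (SylIn cj)

namespace O4

theorem hom_xor (A B : ℕ) (v : Vb) : hom (A ^^^ B) v = hom A v + hom B v := by
  have : hom (A ^^^ B) = hom A + hom B := Vb.hom_ext fun i hi => Vb.ext (by
    rw [val_hom_e _ hi, col_xor, ← val_hom_e _ hi, ← val_hom_e _ hi]; rfl)
  rw [this]; rfl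

theorem hom_zero (v : Vb) : hom 0 v = 0 := (hom_xor 0 0 v).trans (Vb.add_self _)

theorem m_eq (a : AG) (v : Vb) : a.m v = hom (cA (cd a)) v := Vb.ext (val_m a v)

/-- product of block matrices -/
def qm (P Q : ℕ × ℕ × ℕ × ℕ) : ℕ × ℕ × ℕ × ℕ :=
  (mm P.1 Q.1 ^^^ mm P.2.1 Q.2.2.1, mm P.1 Q.2.1 ^^^ mm P.2.1 Q.2.2.2,
    mm P.2.2.1 Q.1 ^^^ mm P.2.2.2 Q.2.2.1, mm P.2.2.1 Q.2.1 ^^^ mm P.2.2.2 Q.2.2.2)

variable {J G : Type*} [Group J] [Group G]

/-- `g` acts on `V*` by a block matrix -/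
def AM (c : Sp J G) (g : G) (P : ℕ × ℕ × ℕ × ℕ) : Prop :=
  c.Act g fun u w => (hom P.1 u + hom P.2.1 w, hom P.2.2.1 u + hom P.2.2.2 w)

theorem AM.mul {c : Sp J G} {g h : G} {P Q R : ℕ × ℕ × ℕ × ℕ} (h1 : AM c g P) (h2 : AM c h Q)
    (e : qm P Q = R) : AM c (g * h) R := by
  subst e
  refine Sp.Act.congr c (Sp.Act.mul c h1 h2) fun x _ y _ => ?_
  simp only [qm, hom_xor, hom_mm, map_add]
  rw [add_add_add_comm, add_add_add_comm (hom P.2.2.1 _)]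

theorem am_θ (c : Sp J G) {a : AG} (ha : a ∈ Ns) {M : ℕ} (e : cA (cd a) = M) : AM c (c.θ a) (M, 0, 0, M) :=
  Sp.Act.congr c (c.act_θ ha) fun x _ y _ => by simp only [hom_zero, m_eq, e, add_zero, zero_add]

theorem am_t (c : Sp J G) : AM c c.t (0, idM, idM, 0) :=
  Sp.Act.congr c c.act_t fun x _ y _ => by simp only [hom_zero, hom_idM, add_zero, zero_add]

def ck : ℕ := nat_lit 0x8009b3010100ecc040001200c753da1ed020b921434995020f15852e6ccb61894f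
def mK : ℕ := nat_lit 0x8009b3010100ecc040001200c753da1ed020
def mE : ℕ := nat_lit 0x8009b30800082003da020002100004010e3a
def mB : ℕ := nat_lit 0x800400c5ec75db1004e3a37f008040d33001
def qX : ℕ × ℕ × ℕ × ℕ := (idM, idM ^^^ mE, idM ^^^ mE, mE)
def qZ : ℕ × ℕ × ℕ × ℕ := (nat_lit 0x8004003fdc75e4e004e1bcdcc7539e16f020, nat_lit 0xdb3d2310817f39a021fb1d753dec4ee1a,
  nat_lit 0xdb3d2310817f39a021fb1d753dec4ee1a, nat_lit 0x8009b3eded7df3139ee3a36d100040d21e3a)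

theorem ck_mem : InS Ks ck := inS_Ks (by decide +kernel)

theorem qZ_eq : qm (qm (qm qX (mK, 0, 0, mK)) (qm qX (mK, 0, 0, mK))) qX = qZ := by decide +kernel

theorem qY_eq : qm (qm qZ (qm (qm (qm (mK, 0, 0, mK) (mE, 0, 0, mE)) (mK, 0, 0, mK)) (0, idM, idM, 0))) qZ =
    (0, mB, mB, 0) := by decide +kernel

end O4

variable {J G : Type*} [Group J] [Group G] [Finite J] [Finite G]

open O4 in
theorem Cn.oct4 {c : Sp J G} {O' : Subgroup G} (h : Cn c O') {x : G}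
    (hx : c.Act x fun u w => (u + (w + e0.m w), u + e0.m u + e0.m w)) : False := by
  have eE : cA (cd e0) = mE := by rw [e0, cd_ee]; decide +kernel
  have hX : AM c x qX := Sp.Act.congr c hx fun u _ w _ => by
    simp only [qX, hom_xor, hom_idM, m_eq, eE]
  have hK := am_θ c (Ks_le_Ns ck_mem.ofC_mem) (M := mK) (by rw [ck_mem.cd_ofC]; decide +kernel)
  have hE := am_θ c (ee_mem' 1) eE
  have hZ := ((hX.mul hK rfl).mul (hX.mul hK rfl) rfl).mul hX qZ_eq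
  obtain ⟨y, hY⟩ : ∃ y, AM c y (0, mB, mB, 0) :=
    ⟨_, (hZ.mul (((hK.mul hE rfl).mul hK rfl).mul (am_t c) rfl) rfl).mul hZ qY_eq⟩
  have h1 : c.CV ((c.t * y)⁻¹ * (y * c.t)) := Sp.Act.cv c ((am_t c).mul hY (R := (mB, 0, 0, mB)) (by decide +kernel))
    (hY.mul (am_t c) (R := (mB, 0, 0, mB)) (by decide +kernel))
  have h2 : c.NV y⁻¹ := c.nv_iff_mem.2 (inv_mem (c.nv_iff_mem.1 (Sp.Act.nv c hY)))
  have h3 : c.Act (y⁻¹ * y) fun u w => (u, w) := c.cv_iff.1 (by rw [inv_mul_cancel]; exact fun r _ => Commute.one_left r)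
  have m : Vb.of 697 ∈ Ev := mem_Ev'.2 (by decide +kernel)
  have e : hom mB (Vb.of 697) = Vb.of 3235 := by decide +kernel
  have k : ∀ a ∈ Ns, a.m (Vb.of 3235) ≠ Vb.of 697 := fun a ha q => by
    have := isDuad_m ha.1 (v := Vb.of 3235)
    rw [q, isDuad_iff, isDuad_iff] at this
    revert this
    decide +kernel
  obtain ⟨a, ha, q | q⟩ := h.bar h2 (by rwa [mul_inv_rev, c.toCf.t_inv, ← mul_assoc, ← inv_inv y, inv_inv y⁻¹] at h1)
  all_goals
    have := congrArg Prod.fst (Sp.Act.unique c (Sp.Act.mul c q hY) h3 _ m _ m)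
    simp only [hom_zero, e, add_zero, zero_add] at this
    exact k a ha this

end Cfsg.Agent.WJ
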