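import Cfsg.Agent.WJ.BaseF

set_option autoImplicit false

namespace Cfsg.Agent.WJ

open Cfsg.Agent.SGJ4 Cfsg.Agent.J4P Cfsg.Agent.H14 AG Subgroup
open Cfsg.Agent.H42 (SylIn cj)

variable {J G : Type*} [Group J] [Group G]

namespace ProdX

variable {c : Fr J G} {τ₁ : G}

/-- the first factor -/
def A1 (c : Fr J G) (τ₁ : G) : Subgroup G := closure (insert τ₁ (Set.range c.l))

theorem l_A1 (a : AG) : c.l a ∈ A1 c τ₁ := subset_closure (Or.inr ⟨a, rfl⟩)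

theorem tmul (x y : G) : c.t * (x * y) * c.t = c.t * x * c.t * (c.t * y * c.t) := by
  rw [show c.t * x * c.t * (c.t * y * c.t) = c.t * x * (c.t * c.t) * y * c.t by group, c.tt]; group

theorem tinv (x : G) : c.t * x⁻¹ * c.t = (c.t * x * c.t)⁻¹ := by
  rw [mul_inv_rev, mul_inv_rev, c.t_inv, mul_assoc]

theorem swap {x y : G} (h : Commute x (c.t * y * c.t)) : Commute y (c.t * x * c.t) := by
  have := h.symm.map (MulAut.conj c.t)
  rwa [MulAut.conj_apply, MulAut.conj_apply, c.t_inv,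
    show c.t * (c.t * y * c.t) * c.t = c.t * c.t * y * (c.t * c.t) by group, c.tt, one_mul, mul_one] at this

theorem ind {x : G} (h1 : Commute τ₁ x) (h2 : ∀ a, Commute (c.l a) x) {g : G} (hg : g ∈ A1 c τ₁) :
    Commute g x := by
  refine mem_centralizer_singleton_iff.1 ((closure_le (K := centralizer {x})).2 ?_ hg)
  rintro _ (rfl | ⟨a, rfl⟩)
  exacts [mem_centralizer_singleton_iff.2 h1, mem_centralizer_singleton_iff.2 (h2 a)]

theorem cm (h : c.Ta τ₁) {g g' : G} (hg : g ∈ A1 c τ₁) (hg' : g' ∈ A1 c τ₁) :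
    Commute g (c.t * g' * c.t) :=
  ind (swap (ind h.comm (fun a => swap (h.comm' a)) hg'))
    (fun a => swap (ind (h.comm' a) (fun b => c.ll' b a) hg')) hg

theorem dec [Finite J] (h : c.Ta τ₁) (j : J) : ∃ g ∈ A1 c τ₁, c.ι j = g * (c.t * g * c.t) := by
  let K : Subgroup J :=
    { carrier := {j | ∃ g ∈ A1 c τ₁, c.ι j = g * (c.t * g * c.t)}
      one_mem' := ⟨1, one_mem _, by simp [c.tt]⟩
      mul_mem' := fun ⟨g, hg, e⟩ ⟨g', hg', e'⟩ => ⟨_, mul_mem hg hg', by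
        rw [map_mul, e, e', (cm h hg' hg).symm.mul_mul_mul_comm, tmul]⟩
      inv_mem' := fun ⟨g, hg, e⟩ => ⟨_, inv_mem hg, by
        rw [map_inv, e, (cm h hg hg).eq, mul_inv_rev, tinv]⟩ }
  exact (c.m.gen (K := K) (fun a ha => ⟨_, l_A1 a, (c.hf.diag a ha).symm⟩)
    ⟨_, subset_closure (Or.inl rfl), h.diag.symm⟩).ge (mem_top j)

theorem A1_le (h : c.Ta τ₁) : A1 c τ₁ ≤ c.X := (closure_le _).2 (by
  rintro _ (rfl | ⟨a, rfl⟩)
  exacts [h.mem, c.l_mem a])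

theorem disj [Finite J] [Finite G] (h : c.Ta τ₁) {z y : G} (hz : z ∈ A1 c τ₁) (hy : y ∈ A1 c τ₁)
    (e : z = c.t * y * c.t) (z2 : z * z = 1) : z = 1 := by
  have c1 : ∀ a, Commute z (c.l a) := fun a => e ▸ (cm h (l_A1 a) hy).symm
  have c2 : ∀ a, Commute z (c.l' a) := fun a => cm h hz (l_A1 a)
  obtain ⟨u, hu, w, hw, rfl⟩ := c.exists_P (c.cn.mem_R (g := z) (k := 1) (fun r hr => by
    obtain ⟨u, hu, w, hw, rfl⟩ := c.exists_P hr
    rw [← c.κ_tr hu hw]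
    exact (c1 _).mul_right (c2 _)) (by rw [pow_one, sq, z2]))
  have k : ∀ a ∈ Ks, a.m u = u ∧ a.m w = w := fun a ha => by
    obtain ⟨h1, h2, h3⟩ := c.act_κ (Ks_le_Ns ha) (Ks_le_Ns ha) u hu w hw
    rw [Fr.κ, ← ((c1 a).mul_right (c2 a)).eq, mul_inv_cancel_right] at h3
    exact c.P_inj h1 h2 hu hw h3.symm
  rw [eq_zero_of_Ks hu fun a ha => (k a ha).1, eq_zero_of_Ks hw fun a ha => (k a ha).2, c.P_zero]

end ProdX

open ProdX

variable [Finite J] [Finite G]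

theorem Fr.Ta.fu {c : Fr J G} {τ₁ : G} (h : c.Ta τ₁) : c.Fu := by
  intro a ha a2
  obtain ⟨k, x, hx, e⟩ := c.m.inv (g := c.m.f a) (by rw [← c.m.f_mul ha ha, a2, c.m.f_one])
  obtain ⟨g, hg, e1⟩ := dec h k
  refine ⟨g, A1_le h hg, fun b => cm h hg (l_A1 b), x, hx, ?_⟩
  have hu : g * c.l a * g⁻¹ ∈ A1 c τ₁ := mul_mem (mul_mem hg (l_A1 a)) (inv_mem hg)
  have hs : c.l (tr x) ∈ A1 c τ₁ := l_A1 _
  have e2 : g * c.l a * g⁻¹ * (c.t * (g * c.l a * g⁻¹) * c.t) = c.l (tr x) * (c.t * c.l (tr x) * c.t) := by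
    have e3 := congrArg c.ι e
    have d : ∀ b ∈ Ns, c.ι (c.m.f b) = c.l b * (c.t * c.l b * c.t) := fun b hb => (c.hf.diag b hb).symm
    rw [map_mul, map_mul, map_inv, e1, d a ha, d _ (tr_mem_Ns.2 hx), (cm h (l_A1 a) hg).symm.mul_mul_mul_comm, ← tmul,
      (cm h hg hg).eq, mul_inv_rev, ← tinv,
      (cm h (inv_mem hg) (mul_mem hg (l_A1 a))).symm.mul_mul_mul_comm, ← tmul] at e3
    exact e3
  have s2 : c.l (tr x) * c.l (tr x) = 1 := by
    rw [← c.l_mul (tr_mem_Ns.2 hx) (tr_mem_Ns.2 hx), tr_mul_self, c.l_one]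
  have u2 : g * c.l a * g⁻¹ * (g * c.l a * g⁻¹) = 1 := by
    rw [conj_mul, ← c.l_mul ha ha, a2, c.l_one, mul_one, mul_inv_cancel]
  rw [← c.l_tr hx]
  generalize g * c.l a * g⁻¹ = u at *
  generalize c.l (tr x) = s at *
  have e4 : s⁻¹ * u = c.t * (s * u⁻¹) * c.t := by
    rw [tmul, tinv, inv_mul_eq_iff_eq_mul, ← mul_assoc, ← e2, mul_inv_cancel_right]
  have c1 : Commute s (s⁻¹ * u) := e4 ▸ cm h hs (mul_mem hs (inv_mem hu))
  refine (inv_mul_eq_one.1 (disj h (mul_mem (inv_mem hs) hu) (mul_mem hs (inv_mem hu)) e4 ?_)).symm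
  have : s * (s⁻¹ * u) * (s * (s⁻¹ * u)) = 1 := by rwa [mul_inv_cancel_left]
  rwa [c1.symm.mul_mul_mul_comm, s2, one_mul] at this

end Cfsg.Agent.WJ
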