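import Cfsg.Agent.WJ.Base

set_option autoImplicit false
set_option linter.unusedSectionVars false

namespace Cfsg.Agent.WJ

open Cfsg.Agent.SGJ4 Cfsg.Agent.J4P Cfsg.Agent.H14 AG Subgroup
open Cfsg.Agent.H42 (SylIn cj)

variable {J G : Type*} [Group J] [Group G] [Finite J] [Finite G]

namespace Quad

/-- an element of order eleven fixing the duad `ts` -/
def y11 : ℕ := nat_lit 0x8002009b33da004020b1d001eccd4b080002bd4887454c30a6d19d762c0327a680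

/-- `y + a y ∈ {0, x}` on codes -/
def mvd (A x n : ℕ) : Bool := Nat.beq (ap A n) n || Nat.beq (ap A n) (x ^^^ n)

theorem chk_t0 : inKs y11 = true ∧ ap (cA y11) 1141 = 1141 ∧ (all2 64 64 fun n => !Nat.beq (pn n) 0 ||
    !mvd (cA y11) 1141 n || Nat.beq n 0 || Nat.beq n 1141) = true := by decide +kernel

theorem chk_z0 : ap (cA (nthD gN cone 11)) 834 = 834 ∧ ap (cA (nthD gN cone 17)) 834 = 834 ∧
    (all2 64 64 fun n => !Nat.beq (pn n) 0 || !mvd (cA (nthD gN cone 11)) 834 n ||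
      !mvd (cA (nthD gN cone 17)) 834 n || Nat.beq n 0 || Nat.beq n 834) = true := by decide +kernel

theorem mvd_of {A x n : ℕ} (h : ap A n = n ∨ ap A n = x ^^^ n) : mvd A x n = true := by
  simpa only [mvd, Bool.or_eq_true, beq_iff] using h

theorem chk_t : inKs y11 = true ∧ ap (cA y11) 1141 = 1141 ∧ ∀ n < 4096, pn n = 0 →
    (ap (cA y11) n = n ∨ ap (cA y11) n = 1141 ^^^ n) → n = 0 ∨ n = 1141 :=
  ⟨chk_t0.1, chk_t0.2.1, fun n hn h0 h => by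
    simpa only [mvd_of h, beq_iff.2 h0, Bool.not_true, Bool.false_or, Bool.or_eq_true, beq_iff] using
      all2_iff.1 chk_t0.2.2 n hn⟩

theorem chk_z : ap (cA (nthD gN cone 11)) 834 = 834 ∧ ap (cA (nthD gN cone 17)) 834 = 834 ∧ ∀ n < 4096,
    pn n = 0 → (ap (cA (nthD gN cone 11)) n = n ∨ ap (cA (nthD gN cone 11)) n = 834 ^^^ n) →
    (ap (cA (nthD gN cone 17)) n = n ∨ ap (cA (nthD gN cone 17)) n = 834 ^^^ n) → n = 0 ∨ n = 834 :=
  ⟨chk_z0.1, chk_z0.2.1, fun n hn h0 h h' => by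
    simpa only [mvd_of h, mvd_of h', beq_iff.2 h0, Bool.not_true, Bool.false_or, Bool.or_eq_true, beq_iff] using
      all2_iff.1 chk_z0.2.2 n hn⟩

theorem stab {x y : Vb} (hx : x ∈ Ev) (x0 : x ≠ 0) (hy : y ∈ Ev)
    (h : ∀ a ∈ Ns, a.m x = x → a.m y = y ∨ a.m y = x + y) : y = 0 ∨ y = x := by
  suffices H : ∀ u : Vb, (∀ w ∈ Ev, (∀ a ∈ Ns, a.m u = u → a.m w = w ∨ a.m w = u + w) → w = 0 ∨ w = u) →
      (∃ k ∈ Ks, k.m u = x) → y = 0 ∨ y = x by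
    by_cases d : IsDuad x
    · refine H ts (fun w hw k => ?_) (duad_trans d)
      have i := inS_Ks chk_t.1
      have := k _ (Ks_le_Ns i.ofC_mem) (Vb.val_inj.1 (by rw [val_m, i.cd_ofC]; exact chk_t.2.1))
      simp only [← Vb.val_inj, val_m, i.cd_ofC, Vb.val_add] at this ⊢
      exact chk_t.2.2 _ w.lt (mem_Ev'.1 hw) this
    · refine H zs (fun w hw k => ?_) (sextet_trans hx x0 d)
      have a := k _ (eN_mem 11) (Vb.val_inj.1 (by rw [val_m, cd_eN]; exact chk_z.1))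
      have b := k _ (eN_mem 17) (Vb.val_inj.1 (by rw [val_m, cd_eN]; exact chk_z.2.1))
      simp only [← Vb.val_inj, val_m, cd_eN, Vb.val_add] at a b ⊢
      exact chk_z.2.2 _ w.lt (mem_Ev'.1 hw) a b
  rintro u H ⟨k, hk, rfl⟩
  have hk := Ks_le_Ns hk
  rcases H (k⁻¹.m y) ((m_mem_Ev (inv_mem hk).1).2 hy) fun a ha e => by
    have := h (k * a * k⁻¹) (mul_mem (mul_mem hk ha) (inv_mem hk)) (by rw [mul_m, mul_m, inv_m_m, e])
    rw [mul_m, mul_m] at this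
    refine this.imp (fun q => k.m.injective ?_) fun q => k.m.injective ?_
    · rw [q, m_inv_m]
    · rw [q, map_add, m_inv_m] with e | e
  · exact Or.inl (by rw [← m_inv_m k y, e, map_zero])
  · exact Or.inr (by rw [← m_inv_m k y, e])

variable {c : Cf J G} {Q : Subgroup G}

theorem tQ (h : DD c Q) : c.t ∈ Q :=
  h.max _ 1 (by rw [pow_one, sq, c.tt]) (fun x _ => (c.vt x).symm) ⟨0, zero_mem _, c.ph_zero.2 (Commute.refl _)⟩

theorem vQ (h : DD c Q) {x : Vb} (hx : x ∈ Ev) : c.v x ∈ Q :=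
  h.max _ 1 (by rw [pow_one, sq, c.v_sq hx]) (fun _ hy => c.v_comm hx hy) ⟨0, zero_mem _, c.ph_zero.2 (c.vt x)⟩

theorem ker (h : DD c Q) {q : G} (hq : q ∈ Q) (ht : Commute q c.t) : ∃ x ∈ Ev, q = c.v x ∨ q = c.t * c.v x := by
  obtain ⟨k, hk⟩ := h.p2 ⟨q, hq⟩
  exact c.cenV2 (congrArg Subtype.val hk) ht (h.cV q hq)

theorem nQ (h : DD c Q) {a : AG} (ha : a ∈ Ns) {q : G} (hq : q ∈ Q) : c.θ a * q * (c.θ a)⁻¹ ∈ Q := by
  obtain ⟨k, hk⟩ := h.p2 ⟨q, hq⟩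
  obtain ⟨x, hx, e⟩ := h.φ q hq
  refine h.max _ k (by rw [conj_pow, show q ^ 2 ^ k = 1 from congrArg Subtype.val hk]; group) (fun y hy => ?_)
    ⟨_, (m_mem_Ev ha.1).2 hx, e.conj c ha hx⟩
  have hy' := (m_mem_Ev (inv_mem ha).1).2 hy
  rw [← m_inv_m a y, ← c.conj_v ha hy']
  exact (h.cV q hq _ hy').map (MulAut.conj (c.θ a))

theorem v_one {x : Vb} (hx : x ∈ Ev) (h : c.v x = 1) : x = 0 := c.v_inj hx (zero_mem _) (h.trans c.v_zero.symm)

theorem φt {q : G} {x : Vb} (h1 : c.Ph q x) : c.Ph (q * c.t) x := by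
  unfold Cf.Ph at *
  rw [← h1]; group

theorem sqt (h : DD c Q) {q : G} (hq : q ∈ Q) {e : Vb} (he : e ∈ Ev) (h1 : c.Ph q e) :
    q * c.t * (q * c.t) = c.v e * (q * q) := by
  have e1 := h1.mul c h1 (h.cV q hq) he he
  rw [Vb.add_self, c.ph_zero] at e1
  calc q * c.t * (q * c.t) = (q * c.t * q⁻¹) * (q * q * c.t) := by group
    _ = c.t * c.v e * c.t * (q * q) := by rw [h1, e1.eq]; group
    _ = c.v e * (c.t * c.t) * (q * q) := by rw [← (c.vt e).eq]; group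
    _ = _ := by rw [c.tt, mul_one]

theorem sqv (h : DD c Q) {q : G} (hq : q ∈ Q) {x : Vb} (hx : x ∈ Ev) : q * c.v x * (q * c.v x) = q * q := by
  rw [(h.cV q hq x hx).symm.mul_mul_mul_comm, c.v_sq hx, mul_one]

theorem two (h : DD c Q) {a b : G} (ha : a ∈ Q) (hb : b ∈ Q) {e : Vb} (he : e ∈ Ev) (h1 : c.Ph a e)
    (h2 : c.Ph b e) : (∃ x ∈ Ev, b = a * c.v x) ∨ b * b = c.v e * (a * a) := by
  obtain ⟨x, hx, e1 | e1⟩ := ker h (Q.mul_mem (Q.inv_mem ha) hb) (h1.comm c h2)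
  · exact Or.inl ⟨x, hx, by rw [← e1]; group⟩
  · have e2 : b = a * c.t * c.v x := by rw [mul_assoc, ← e1]; group
    exact Or.inr (by rw [e2, sqv h (Q.mul_mem ha (tQ h)) hx, sqt h ha he h1])

end Quad

open Quad

theorem DD.hq {c : Cf J G} {Q : Subgroup G} (h : DD c Q) :
    ∀ q ∈ Q, ∀ x ∈ Ev, x ≠ 0 → c.Ph q x → q * q = 1 ∨ q * q = c.v x := by
  intro q hq x hx x0 h1
  have e1 := h1.mul c h1 (h.cV q hq) hx hx
  rw [Vb.add_self, c.ph_zero] at e1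
  obtain ⟨y, hy, e | e⟩ := ker h (Q.mul_mem hq hq) e1
  · rcases stab hx x0 hy fun a ha ax => by
      have p := h1.conj c ha hx
      rw [ax] at p
      have s : c.θ a * q * (c.θ a)⁻¹ * (c.θ a * q * (c.θ a)⁻¹) = c.v (a.m y) := by
        rw [conj_mul, e, c.conj_v ha hy]
      have hay := (m_mem_Ev ha.1).2 hy
      rcases two h hq (nQ h ha hq) hx h1 p with ⟨w, hw, k⟩ | k
      · exact Or.inl (c.v_inj hay hy (by rw [← s, k, sqv h hq hw, e]))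
      · exact Or.inr (c.v_inj hay (add_mem hx hy) (by rw [← s, k, e, c.v_add hx hy])) with r | r
    · exact Or.inl (by rw [e, r, c.v_zero])
    · exact Or.inr (by rw [e, r])
  · refine (x0 (v_one (c := c) hx ?_)).elim
    have : c.t * c.v x * c.v y = c.t * c.v y := by
      calc _ = q * c.t * q⁻¹ * (q * c.v y * q⁻¹) := by rw [h1, (h.cV q hq y hy).eq, mul_inv_cancel_right]
        _ = q * (c.t * c.v y) * q⁻¹ := by group
        _ = _ := by rw [← e]; group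
    simpa using this

namespace Quad

variable {c : Cf J G} {Q : Subgroup G}

theorem sq' (h : DD c Q) {q : G} (hQ : q ∈ Q) {e : Vb} (he : e ∈ Ev) (h1 : c.Ph q e) :
    q * q = 1 ∨ q * q = c.v e := by
  by_cases h0 : e = 0
  · rw [h0, c.ph_zero] at h1
    obtain ⟨x, hx, rfl | rfl⟩ := ker h hQ h1
    · exact Or.inl (c.v_sq hx)
    · exact Or.inl (by rw [sqv h (tQ h) hx, c.tt])
  · exact h.hq q hQ e he h0 h1

theorem uniq (h : DD c Q) {a b : G} (ha : a ∈ Q) (hb : b ∈ Q) {e : Vb} (he : e ∈ Ev) (h0 : e ≠ 0)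
    (h1 : c.Ph a e) (h2 : c.Ph b e) (h3 : a * a = b * b) : ∃ x ∈ Ev, b = a * c.v x :=
  (two h ha hb he h1 h2).resolve_right fun e4 => by
    rw [← h3, right_eq_mul] at e4
    exact h0 (v_one he e4)

/-- two involutions that do not commute -/
theorem ncomm (h : DD c Q) {x y : G} (hx : x ∈ Q) (hy : y ∈ Q) {u v : Vb} (hu : u ∈ Ev) (hv : v ∈ Ev)
    (h1 : c.Ph x u) (h2 : c.Ph y v) (xx : x * x = 1) (yy : y * y = 1) (hn : ¬ Commute x y) :
    x * y = c.v (u + v) * (y * x) := by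
  have key : x * y = x * y * (x * y) * (y * x) := by
    calc x * y = x * y * (x * x) := by rw [xx, mul_one]
      _ = x * y * (x * (y * y) * x) := by rw [yy, mul_one]
      _ = _ := by group
  rcases sq' h (Q.mul_mem hx hy) (add_mem hu hv) (h1.mul c h2 (h.cV x hx) hu hv) with e | e
  · rw [e, one_mul] at key
    exact absurd key hn
  · rw [e] at key
    exact key

theorem tri (h : DD c Q) {x y p : G} (hx : x ∈ Q) (hy : y ∈ Q) (hp : p ∈ Q) {u v w : Vb} (hu : u ∈ Ev)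
    (hv : v ∈ Ev) (hw : w ∈ Ev) (h1 : c.Ph x u) (h2 : c.Ph y v) (h3 : c.Ph p w) (xx : x * x = 1)
    (pp : p * p = 1) (uv : u ≠ v) (uw : u ≠ w) (v1 : v ≠ 0) (w1 : w ≠ 0) (hc : Commute x y) :
    Commute x p := by
  by_contra hn
  have e1 := ncomm h hx hp hu hw h1 h3 xx pp hn
  have e2 : x * (y * p) = c.v (u + w) * (y * p) * x := by
    calc x * (y * p) = y * (x * p) := by rw [← mul_assoc, hc.eq, mul_assoc]
      _ = (y * c.v (u + w)) * (p * x) := by rw [e1]; group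
      _ = _ := by rw [(h.cV y hy _ (add_mem hu hw)).eq]; group
  have e3 : x * (y * p) * (x * (y * p)) = c.v (u + w) * (y * p * (y * p)) := by
    calc x * (y * p) * (x * (y * p)) = c.v (u + w) * (y * p) * x * (x * (y * p)) := by rw [← e2]
      _ = c.v (u + w) * (y * p) * (x * x) * (y * p) := by group
      _ = _ := by rw [xx]; group
  have hvw := add_mem hv hw
  have huw := add_mem hu hw
  have hyp := h2.mul c h3 (h.cV y hy) hv hw
  have e4 : u + w + (v + w) = u + v := by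
    rw [add_comm v, add_assoc, Vb.add_add_cancel]
  rcases sq' h (Q.mul_mem hy hp) hvw hyp with a | a <;>
  rcases sq' h (Q.mul_mem hx (Q.mul_mem hy hp)) (add_mem hu hvw) (h1.mul c hyp (h.cV x hx) hu hvw) with b | b <;>
  rw [a, b] at e3
  · rw [mul_one] at e3
    exact uw (Vb.add_eq_zero'.1 (v_one huw e3.symm))
  · rw [mul_one] at e3
    exact v1 (by simpa using c.v_inj (add_mem hu hvw) huw e3)
  · rw [← c.v_add huw hvw, e4] at e3
    exact uv (Vb.add_eq_zero'.1 (v_one (add_mem hu hv) e3.symm))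
  · rw [← c.v_add huw hvw, e4] at e3
    exact w1 (by simpa using c.v_inj (add_mem hu hvw) (add_mem hu hv) e3)

theorem build (h : DD c Q) (s : Vb → Vb) (smul : ∀ e e', s (e + e') = s e + s e') (sD : ∀ e ∈ Ev, s e ∈ Ev)
    (sa : ∀ (a : AG) e, a.m (s e) = s (a.m e))
    (K : ∀ a ∈ Q, ∀ b ∈ Q, ∀ e ∈ Ev, ∀ e' ∈ Ev, e ≠ 0 → e' ≠ 0 → e ≠ e' → c.Ph a e → c.Ph b e' →
      a * a = c.v (s e) → b * b = c.v (s e') → Commute a b) :
    ∃ R : Subgroup G, (∀ q, q ∈ R ↔ q ∈ Q ∧ ((∃ e ∈ Ev, q = c.v e) ∨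
      ∃ e ∈ Ev, e ≠ 0 ∧ c.Ph q e ∧ q * q = c.v (s e))) ∧ (∀ a ∈ R, ∀ b ∈ R, Commute a b) ∧
      ∀ a ∈ Ns, ∀ r ∈ R, c.θ a * r * (c.θ a)⁻¹ ∈ R := by
  let M : G → Prop := fun q => q ∈ Q ∧ ((∃ e ∈ Ev, q = c.v e) ∨
    ∃ e ∈ Ev, e ≠ 0 ∧ c.Ph q e ∧ q * q = c.v (s e))
  have cm : ∀ a b, M a → M b → Commute a b := by
    rintro a b ⟨ha, ⟨x, hx, rfl⟩ | ⟨e, he, e1, a1, a2⟩⟩ ⟨hb, hb'⟩
    · exact (h.cV b hb x hx).symm
    rcases hb' with ⟨x, hx, rfl⟩ | ⟨e', he', e1', b1, b2⟩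
    · exact h.cV a ha x hx
    by_cases hee : e = e'
    · subst hee
      obtain ⟨x, hx, rfl⟩ := uniq h ha hb he e1 a1 b1 (a2.trans b2.symm)
      exact (Commute.refl a).mul_right (h.cV a ha x hx)
    · exact K a ha b hb e he e' he' e1 e1' hee a1 b1 a2 b2
  have m1 : ∀ b, M b → ∀ x ∈ Ev, M (c.v x * b) := by
    rintro b ⟨hb, ⟨y, hy, rfl⟩ | ⟨e, he, e1, b1, b2⟩⟩ x hx
    · exact ⟨Q.mul_mem (vQ h hx) hb, Or.inl ⟨x + y, add_mem hx hy, (c.v_add hx hy).symm⟩⟩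
    · refine ⟨Q.mul_mem (vQ h hx) hb, Or.inr ⟨e, he, e1, ?_, ?_⟩⟩
      · have := (c.ph_zero.2 (c.vt x)).mul c b1 (h.cV _ (vQ h hx)) (zero_mem _) he
        rwa [zero_add] at this
      · rw [← (h.cV b hb x hx).eq, sqv h hb hx, b2]
  have mm : ∀ a b, M a → M b → M (a * b) := by
    intro a b hA hB
    have hc := cm a b hA hB
    obtain ⟨ha, ⟨x, hx, rfl⟩ | ⟨e, he, e1, a1, a2⟩⟩ := id hA
    · exact m1 b hB x hx
    obtain ⟨hb, ⟨x, hx, rfl⟩ | ⟨e', he', e1', b1, b2⟩⟩ := id hB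
    · rw [hc.eq]
      exact m1 a hA x hx
    refine ⟨Q.mul_mem ha hb, ?_⟩
    by_cases hee : e = e'
    · subst hee
      obtain ⟨x, hx, rfl⟩ := uniq h ha hb he e1 a1 b1 (a2.trans b2.symm)
      exact Or.inl ⟨s e + x, add_mem (sD e he) hx, by rw [← mul_assoc, a2, c.v_add (sD e he) hx]⟩
    · refine Or.inr ⟨e + e', add_mem he he', fun h0 => hee (Vb.add_eq_zero'.1 h0),
        a1.mul c b1 (h.cV a ha) he he', ?_⟩
      rw [hc.symm.mul_mul_mul_comm, a2, b2, smul, c.v_add (sD e he) (sD e' he')]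
  have mi : ∀ a, M a → M a⁻¹ := by
    intro a hA
    have e4 : a * a * (a * a) = 1 := by
      obtain ⟨-, ⟨x, hx, rfl⟩ | ⟨e, he, -, -, a2⟩⟩ := hA
      · rw [c.v_sq hx, mul_one]
      · rw [a2, c.v_sq (sD e he)]
    have e5 : a⁻¹ = a * (a * a) := inv_eq_of_mul_eq_one_right (by rw [← e4]; group)
    rw [e5]
    exact mm _ _ hA (mm _ _ hA hA)
  refine ⟨{ carrier := {q | M q}
            one_mem' := ⟨one_mem _, Or.inl ⟨0, zero_mem _, c.v_zero.symm⟩⟩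
            mul_mem' := fun ha hb => mm _ _ ha hb
            inv_mem' := fun ha => mi _ ha }, fun _ => Iff.rfl, fun a ha b hb => cm a b ha hb, ?_⟩
  rintro a ha r ⟨hr, ⟨x, hx, rfl⟩ | ⟨e, he, e1, a1, a2⟩⟩
  · exact ⟨nQ h ha hr, Or.inl ⟨_, (m_mem_Ev ha.1).2 hx, c.conj_v ha hx⟩⟩
  · exact ⟨nQ h ha hr, Or.inr ⟨_, (m_mem_Ev ha.1).2 he, fun k => e1 (a.m.injective (k.trans (map_zero _).symm)),
      a1.conj c ha he, by rw [conj_mul, a2, c.conj_v ha (sD e he), sa]⟩⟩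

/-- both squares occur -/
theorem both (h : DD c Q) {x : Vb} (hx : x ∈ Ev) (x0 : x ≠ 0) :
    (∃ q ∈ Q, c.Ph q x ∧ q * q = 1) ∧ ∃ q ∈ Q, c.Ph q x ∧ q * q = c.v x := by
  obtain ⟨q, hq, e⟩ := h.onto x hx
  have k := sqt h hq hx e
  have m := Q.mul_mem hq (tQ h)
  rcases h.hq q hq x hx x0 e with a | a
  · exact ⟨⟨q, hq, e, a⟩, _, m, φt e, by rw [k, a, mul_one]⟩
  · exact ⟨⟨_, m, φt e, by rw [k, a, c.v_sq hx]⟩, q, hq, e, a⟩

end Quad

theorem DD.quad {c : Cf J G} {Q : Subgroup G} (h : DD c Q) :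
    (∃ R, S1 c R) ∨ ∃ R, HC c R := by
  by_cases hC : ∃ x ∈ Q, ∃ y ∈ Q, ∃ u ∈ Ev, ∃ v ∈ Ev, u ≠ 0 ∧ v ≠ 0 ∧ u ≠ v ∧ c.Ph x u ∧ c.Ph y v ∧
      x * x = 1 ∧ y * y = 1 ∧ Commute x y
  · obtain ⟨x, hx, y, hy, u, hu, v, hv, u1, v1, uv, h1, h2, xx, yy, hc⟩ := hC
    obtain ⟨R, hR, -, nR⟩ := build h (fun _ => 0) (fun _ _ => (add_zero _).symm) (fun _ _ => zero_mem _)
      (fun a _ => map_zero a.m) fun a ha b hb e he e' he' e1 e1' ee a1 b1 a2 b2 => by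
      rw [c.v_zero] at a2 b2
      by_cases eu : u = e
      · subst eu
        have k := tri h hy hx ha hv hu hu h2 h1 a1 yy a2 uv.symm uv.symm u1 u1 hc.symm
        exact tri h ha hy hb hu hv he' a1 h2 b1 a2 b2 uv ee v1 e1' k.symm
      · have k := tri h hx hy ha hu hv he h1 h2 a1 xx a2 uv eu v1 e1 hc
        exact tri h ha hx hb he hu he' a1 h1 b1 a2 b2 (Ne.symm eu) ee u1 e1' k.symm
    simp only [c.v_zero] at hR
    refine Or.inl ⟨R, fun r hr => ?_, fun x hx => (hR _).2 ⟨vQ h hx, Or.inl ⟨x, hx, rfl⟩⟩,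
      fun r hr => h.cO r ((hR r).1 hr).1, fun r hr => h.φ r ((hR r).1 hr).1, fun x hx => ?_, fun r hr ht => ?_, nR,
      fun g g2 gV ⟨x, hx, x0, e⟩ => (hR g).2 ⟨h.max g 1 (by rw [pow_one, sq, g2]) gV ⟨x, hx, e⟩,
        Or.inr ⟨x, hx, x0, e, g2⟩⟩⟩
    · obtain ⟨-, ⟨x, hx, rfl⟩ | ⟨e, -, -, -, k⟩⟩ := (hR r).1 hr
      exacts [c.v_sq hx, k]
    · by_cases x0 : x = 0
      · exact ⟨1, one_mem _, x0 ▸ c.ph_zero.2 (Commute.one_left _)⟩
      · obtain ⟨q, hq, e, k⟩ := (both h hx x0).1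
        exact ⟨q, (hR q).2 ⟨hq, Or.inr ⟨x, hx, x0, e, k⟩⟩, e⟩
    · exact ((hR r).1 hr).2.resolve_right fun ⟨e, he, e0, k, _⟩ =>
        e0 (k.unique c (c.ph_zero.2 ht) he (zero_mem _))
  · obtain ⟨R, hR, cR, nR⟩ := build h id (fun _ _ => rfl) (fun _ he => he) (fun _ _ => rfl)
      fun a ha b hb e he e' he' e1 e1' ee a1 b1 a2 b2 => by
      have a2' : a * a = c.v e := a2
      have b2' : b * b = c.v e' := b2
      have hx := Q.mul_mem ha (tQ h)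
      have hy := Q.mul_mem hb (tQ h)
      have xx : a * c.t * (a * c.t) = 1 := by rw [sqt h ha he a1, a2', c.v_sq he]
      have yy : b * c.t * (b * c.t) = 1 := by rw [sqt h hb he' b1, b2', c.v_sq he']
      have k := ncomm h hx hy he he' (φt a1) (φt b1) xx yy fun hc =>
        hC ⟨_, hx, _, hy, e, he, e', he', e1, e1', ee, φt a1, φt b1, xx, yy, hc⟩
      have mv : ∀ q ∈ Q, ∀ p ∈ Q, ∀ w ∈ Ev, c.Ph p w → q * c.t * (p * c.t) = c.v w * (q * p) := by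
        intro q hQ p _ w hw h1
        calc q * c.t * (p * c.t) = q * c.t * (p * c.t * p⁻¹) * p := by group
          _ = q * (c.t * c.t) * c.v w * p := by rw [h1]; group
          _ = _ := by rw [c.tt, mul_one, (h.cV q hQ w hw).eq, mul_assoc]
      rw [mv a ha b hb e' he' b1, mv b hb a ha e he a1, ← mul_assoc (c.v (e + e')),
        ← c.v_add (add_mem he he') he, add_comm, Vb.add_add_cancel] at k
      exact mul_left_cancel k
    refine Or.inr ⟨R, cR, fun r hr => ?_, fun x hx => ?_, fun r hr r2 => ?_, nR⟩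
    · obtain ⟨-, ⟨x, hx, rfl⟩ | ⟨e, he, -, -, k⟩⟩ := (hR r).1 hr
      exacts [⟨0, zero_mem _, by rw [c.v_sq hx, c.v_zero]⟩, ⟨e, he, k⟩]
    · by_cases x0 : x = 0
      · exact ⟨1, one_mem _, by rw [x0, c.v_zero, mul_one]⟩
      · obtain ⟨q, hq, e, k⟩ := (both h hx x0).2
        exact ⟨q, (hR q).2 ⟨hq, Or.inr ⟨x, hx, x0, e, k⟩⟩, k⟩
    · exact ((hR r).1 hr).2.resolve_right fun ⟨e, he, e0, _, k⟩ => e0 (v_one he (k.symm.trans r2))

end Cfsg.Agent.WJ
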