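import Cfsg.Agent.WJ.Base

/-! Project WJ: a preimage of the duad that is fixed by `M₂₂`. -/

set_option autoImplicit false

namespace Cfsg.Agent.WJ

open Cfsg.Agent.SGJ4 Cfsg.Agent.J4P Cfsg.Agent.H14 AG Subgroup
open Cfsg.Agent.H42 (SylIn cj)

variable {J G : Type*} [Group J] [Group G] [Finite J] [Finite G]

namespace Sp1

/-- codes of two generators of the stabiliser of two points -/
def gL : List ℕ := [nat_lit 0x8002009b33da004020b1d001eccd4b080002bd4887454c30a6d19d762c0327a680,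
  nat_lit 0x800e3aecc3da49f6e3008d4b0011ed200002bacc808de261ead491519160e9d2c0]

theorem inS_gL (i : ℕ) : InS Ks (nthD gL cone i) := by
  by_cases h : i < 2
  · exact inS_Ks (allN_iff.1 (show allN 2 (fun i => inKs (nthD gL cone i)) = true by
      decide +kernel) i h)
  · rw [OfS.nthD_ge (show gL.length ≤ i from not_lt.1 h)]
    exact InS.one _

noncomputable def g (i : ℕ) : AG := ofC (nthD gL cone i)

theorem g_mem (i : ℕ) : g i ∈ Ks := (inS_gL i).ofC_mem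
theorem cd_g (i : ℕ) : cd (g i) = nthD gL cone i := (inS_gL i).cd_ofC

/-- the generator `k` is shifted by `w` -/
noncomputable def el (k : ℕ) (w : Vb) (i : ℕ) : AG := tr (if i = k then w else 0) * g i

theorem lin_el (k : ℕ) (w : Vb) (i : ℕ) : lin (el k w i) = g i := by
  rw [el, map_mul, lin_tr, one_mul, lin_eq_self.2 (g_mem i).2]

theorem el_v (k : ℕ) (w : Vb) (i : ℕ) : (el k w i).v = if i = k then w else 0 := by
  rw [el, mul_v, tr_v, tr_m, (g_mem i).2, add_zero]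

/-- the translation part of a word -/
noncomputable def hz (k w : ℕ) (l : List ℕ) : ℕ :=
  List.rec 0 (fun i _ ih => force ih fun x => force (cA (nthD gL cone i)) fun A =>
    Nat.xor (Bool.rec 0 w (Nat.beq i k)) (ap A x)) l

theorem hz_eq (k : ℕ) (w : Vb) (l : List ℕ) : (l.map (el k w)).prod.v.val = hz k w.val l := by
  induction l with
  | nil => rfl
  | cons i l ih =>
    have e : hz k w.val (i :: l) =
        Nat.xor (Bool.rec 0 w.val (Nat.beq i k)) (ap (cA (nthD gL cone i)) (hz k w.val l)) := by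
      simp only [hz, force_eq]
    rw [List.map_cons, List.prod_cons, mul_v, Vb.val_add, e, ← ih, ← cd_g, ← val_m, el_v]
    by_cases h : i = k
    · rw [if_pos h, beq_iff.2 h]; rfl
    · rw [if_neg h, Bool.eq_false_iff.2 fun e => h (beq_iff.1 e)]; rfl

/-- the graph of the cocycle of `r` -/
def T (c : Cf J G) (r : G) : Subgroup AG where
  carrier := {x | x ∈ Ns ∧ c.θ (lin x) * r * (c.θ (lin x))⁻¹ = r * c.v x.v}
  one_mem' := ⟨one_mem _, by rw [map_one, c.θ_one, one_v, c.v_zero]; group⟩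
  mul_mem' := fun {x y} hx hy => ⟨mul_mem hx.1 hy.1, by
    have h1 := Ks_le_Ns (lin_mem_Ks hx.1.1)
    have h2 := Ks_le_Ns (lin_mem_Ks hy.1.1)
    rw [map_mul, c.θ_mul h1 h2, mul_v, c.v_add hx.1.2 ((m_mem_Ev hx.1.1).2 hy.1.2), ← mul_assoc r, ← hx.2,
      ← lin_m x, ← c.conj_v h1 hy.1.2]
    calc _ = c.θ (lin x) * (c.θ (lin y) * r * (c.θ (lin y))⁻¹) * (c.θ (lin x))⁻¹ := by group
      _ = _ := by rw [hy.2]; group⟩
  inv_mem' := fun {x} hx => ⟨inv_mem hx.1, by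
    have h1 := Ks_le_Ns (lin_mem_Ks hx.1.1)
    have h2 := c.conj_v (inv_mem h1) hx.1.2
    have h3 : c.v x⁻¹.v * c.v x⁻¹.v = 1 := c.v_sq (inv_mem hx.1).2
    have h4 : c.v ((lin x)⁻¹.m x.v) = c.v x⁻¹.v := rfl
    rw [h4, c.θ_inv h1] at h2
    rw [map_inv, c.θ_inv h1, ← inv_eq_of_mul_eq_one_right h3, ← h2]
    calc _ = (c.θ (lin x))⁻¹ * (r * c.v x.v) * (c.v x.v)⁻¹ * c.θ (lin x) := by group
      _ = _ := by rw [← hx.2]; group⟩

theorem word {c : Cf J G} {r : G} {k : ℕ} {w : Vb} {l : List ℕ} (h : ∀ i ∈ l, el k w i ∈ T c r)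
    (h1 : cw gL l = cone) : hz k w.val l = 0 := by
  have m : (l.map (el k w)).prod ∈ T c r := list_prod_mem fun x hx => by
    obtain ⟨i, hi, rfl⟩ := List.mem_map.1 hx
    exact h i hi
  have e : lin (l.map (el k w)).prod = 1 := by
    rw [map_list_prod, List.map_map, ← cd_inj, cd_one, ← h1, cw_eq gL g cd_g]
    congr 2
    exact List.map_congr_left fun i _ => lin_el k w i
  have e2 := m.2
  rw [e, c.θ_one, one_mul, inv_one, mul_one, left_eq_mul, ← c.v_zero] at e2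
  rw [← hz_eq, c.v_inj m.1.2 Ev.zero_mem e2]
  rfl

def mU : ℕ := nat_lit 0x80033bf3b1e1f9e488cc83f8d3c36b3e9f9d

def w0 : List ℕ := [0, 0, 0, 0, 0, 0, 0, 0, 0, 0, 0]
def w1 : List ℕ := [0, 0, 0, 1, 0, 0, 0, 1, 0, 0, 0, 1, 0, 0, 0, 1, 0, 0, 0, 1]
def w2 : List ℕ := [0, 0, 0, 1, 1, 0, 1, 0, 0, 0, 1, 1, 0, 1, 0, 0, 0, 1, 1, 0, 1]
def w3 : List ℕ := [0, 0, 0, 1, 1, 1, 1, 0, 0, 0, 1, 1, 1, 1, 0, 0, 0, 1, 1, 1, 1]

theorem rel : cw gL w0 = cone ∧ cw gL w1 = cone ∧ cw gL w2 = cone ∧ cw gL w3 = cone := by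
  decide +kernel

theorem chk0 : all2 64 64 (fun w => bimp (Nat.beq (pn w) 0) (bimp (Nat.beq (hz 0 w w0) 0)
    (force (ap mU w) fun u => Nat.beq (pn u) 0 &&
      Nat.beq (Nat.xor w (ap (cA (nthD gL cone 0)) u)) u))) = true := by decide +kernel

theorem chk1 : all2 64 64 (fun w => bimp (Nat.beq (pn w) 0) (bimp (Nat.beq (hz 1 w w1) 0)
    (bimp (Nat.beq (hz 1 w w2) 0) (bimp (Nat.beq (hz 1 w w3) 0) (Nat.beq w 0))))) = true := by
  decide +kernel

theorem g_ts (i : ℕ) (hi : i < 2) : (g i).m ts = ts := by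
  refine Vb.ext ?_
  rw [val_m, cd_g]
  exact beq_iff.1 (allN_iff.1 (show allN 2 (fun i => Nat.beq (ap (cA (nthD gL cone i)) ts.val) ts.val)
    = true by decide +kernel) i hi)

theorem coc {c : Cf J G} {R : Subgroup G} (h : S1 c R) {r : G} (hr : r ∈ R) (p : c.Ph r ts) {i : ℕ}
    (hi : i < 2) : ∃ w ∈ Ev, el i w i ∈ T c r := by
  have gN := Ks_le_Ns (g_mem i)
  have p2 := p.conj c gN (tr_mem_Ns.1 tN_mem)
  rw [g_ts i hi] at p2
  obtain ⟨w, hw, e⟩ := h.ker _ (mul_mem (inv_mem hr) (h.norm _ gN r hr)) (p.comm c p2)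
  refine ⟨w, hw, mul_mem (tr_mem_Ns.2 (by rwa [if_pos rfl])) gN, ?_⟩
  rw [lin_el, el_v, if_pos rfl, ← e]
  group

omit [Finite J] [Finite G] in
theorem cm {c : Cf J G} {R : Subgroup G} (h : S1 c R) {a b : G} (ha : a ∈ R) (hb : b ∈ R) : Commute a b := by
  have e := inv_eq_of_mul_eq_one_right (h.sq _ (mul_mem ha hb))
  rw [mul_inv_rev, inv_eq_of_mul_eq_one_right (h.sq a ha), inv_eq_of_mul_eq_one_right (h.sq b hb)] at e
  exact e.symm

end Sp1

open Sp1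

theorem S1.exists_fix {c : Cf J G} {R : Subgroup G} (h : S1 c R) :
    ∃ r ∈ R, c.Ph r ts ∧ ∀ a ∈ Ks, a.p ∈ Spor.M22 → Commute (c.θ a) r := by
  have hts : ts ∈ Ev := tr_mem_Ns.1 tN_mem
  obtain ⟨r0, hr0, p0⟩ := h.onto ts hts
  obtain ⟨w, hw, m0⟩ := coc h hr0 p0 (i := 0) (by decide)
  have k0 := bimp_iff.1 (bimp_iff.1 (all2_iff.1 chk0 w.val w.lt) (beq_iff.2 (mem_Ev'.1 hw)))
    (beq_iff.2 (word (fun i hi => by
      obtain rfl : i = 0 := by simpa [w0] using hi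
      exact m0) rel.1))
  rw [force_eq, Bool.and_eq_true, beq_iff, beq_iff] at k0
  obtain ⟨u, hu, eu⟩ : ∃ u ∈ Ev, w + (g 0).m u = u :=
    ⟨hom mU w, mem_Ev'.2 k0.1, Vb.ext (by rw [Vb.val_add, val_m, cd_g]; exact k0.2)⟩
  have gN := fun i => Ks_le_Ns (g_mem i)
  have hr : r0 * c.v u ∈ R := mul_mem hr0 (h.vR u hu)
  have p : c.Ph (r0 * c.v u) ts := by
    have := p0.mul c (c.ph_zero.2 (c.vt u)) (fun x hx => cm h hr0 (h.vR x hx)) hts Ev.zero_mem
    rwa [add_zero] at this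
  have m1 : g 0 ∈ T c (r0 * c.v u) := ⟨gN 0, by
    have e := m0.2
    rw [lin_el, el_v, if_pos rfl] at e
    rw [lin_eq_self.2 (g_mem 0).2, (g_mem 0).2, c.v_zero, mul_one]
    calc _ = (c.θ (g 0) * r0 * (c.θ (g 0))⁻¹) * (c.θ (g 0) * c.v u * (c.θ (g 0))⁻¹) := by group
      _ = _ := by
        rw [e, c.conj_v (gN 0) hu, mul_assoc, ← c.v_add hw ((m_mem_Ev (g_mem 0).1).2 hu), eu]⟩
  refine ⟨_, hr, p, fun a ha hp => ?_⟩
  generalize r0 * c.v u = r at hr p m1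
  obtain ⟨x, hx, m2⟩ := coc h hr p (i := 1) (by decide)
  have wd : ∀ l : List ℕ, (∀ i ∈ l, i = 0 ∨ i = 1) → ∀ i ∈ l, el 1 x i ∈ T c r := fun l hl i hi => by
    rcases hl i hi with rfl | rfl
    · rwa [el, if_neg (by decide), tr_zero, one_mul]
    · exact m2
  have k1 := bimp_iff.1 (bimp_iff.1 (bimp_iff.1 (bimp_iff.1 (all2_iff.1 chk1 x.val x.lt)
    (beq_iff.2 (mem_Ev'.1 hx))) (beq_iff.2 (word (wd w1 (by decide)) rel.2.1)))
    (beq_iff.2 (word (wd w2 (by decide)) rel.2.2.1))) (beq_iff.2 (word (wd w3 (by decide)) rel.2.2.2))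
  obtain rfl : x = 0 := Vb.ext (beq_iff.1 k1)
  rw [el, if_pos rfl, tr_zero, one_mul] at m2
  have le : Spor.M22 ≤ (T c r ⊓ Ks).map pr := by
    rw [M22_eq_grp]
    refine Enc.grp_le fun P hP => ?_
    have e : ∀ i, GE.pk (pr (g i)) = cP (nthD gL cone i) := fun i => by rw [pr_apply, ← cP_cd, cd_g]
    simp only [m22Gens, List.mem_cons, List.not_mem_nil, or_false] at hP
    rcases hP with rfl | rfl
    · exact ⟨_, mem_map_of_mem pr ⟨m1, g_mem 0⟩, (e 0).trans (by decide +kernel)⟩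
    · exact ⟨_, mem_map_of_mem pr ⟨m2, g_mem 1⟩, (e 1).trans (by decide +kernel)⟩
  obtain ⟨a', ⟨h1, h2⟩, e⟩ := le hp
  have e2 := h1.2
  rw [lin_eq_of_p h2.1 ha.1 e, lin_eq_self.2 ha.2, h2.2, c.v_zero, mul_one] at e2
  exact mul_inv_eq_iff_eq_mul.1 e2

end Cfsg.Agent.WJ
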