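import Cfsg.Agent.WJ.Base
import Cfsg.Agent.WJ.MOct

set_option autoImplicit false
set_option linter.unusedSectionVars false

namespace Cfsg.Agent.WJ

open Cfsg.Agent.SGJ4 Cfsg.Agent.J4P Cfsg.Agent.H14 AG Subgroup
open Cfsg.Agent.H42 (SylIn cj)

variable {J G : Type*} [Group J] [Group G] [Finite J] [Finite G]

namespace Split2X

open scoped Pointwise

abbrev K23 : Subgroup AG := Ks ⊓ Spor.M23.comap pr

theorem mem_K23 {a : AG} (ha : a ∈ Ks) (h : a.p none = none) : a ∈ K23 := ⟨ha, ha.1.1, h⟩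

theorem fix_none {a : AG} (ha : a ∈ K23) : a.p none = none := ha.2.2

theorem ne_none {k : AG} (hk : k ∈ K23) : k.p (some 0) ≠ none := fun e =>
  absurd (k.p.injective (e.trans (fix_none hk).symm)) (by decide)

theorem exists_k {p : GolayPt} (hp : p ≠ none) : ∃ k ∈ K23, k.p (some 0) = p := by
  obtain ⟨g, hg, e⟩ := m24_exists_apply_eq (t := 2) (by decide) ![none, some 0] ![none, p] (by decide)
    (by intro i j; fin_cases i <;> fin_cases j <;> simp [hp, hp.symm])
  exact ⟨kof ⟨g, hg⟩, mem_K23 (kof_mem _) (e 0), e 1⟩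

theorem encL_ind {P : ℕ → Prop} (h0 : P 0) (hx : ∀ a b, P a → P b → P (a ^^^ b)) (rs : List ℕ)
    (h : ∀ r ∈ rs, P r) (x : ℕ) : P (encL rs x) := by
  induction rs generalizing x with
  | nil => exact h0
  | cons r rs ih =>
    rw [encL_cons]
    refine hx _ _ ?_ (ih (fun r hr => h r (List.mem_cons_of_mem _ hr)) _)
    rcases Nat.mod_two_eq_zero_or_one x with e | e <;> rw [e]
    · exact h0
    · rw [mul_one]; exact h r List.mem_cons_self

/-- the shifts of the octad span the code -/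
theorem code_ind {P : Finset GolayPt → Prop} (h0 : P ∅) (hx : ∀ a b, P a → P b → P (symmDiff a b))
    (h1 : P (bits oc3)) (h2 : ∀ a, P a → P (shiftPerm • a)) {C : Finset GolayPt} (hC : C ∈ CSets) : P C := by
  let f : ℕ → ℕ := img (nat_lit 5) (nat_lit 32) (nat_lit 24) 0xb82d5a4e5183dcd62d4941cc520c41
  have k : ∀ i, P (bits (f^[i] oc3)) := fun i => by
    induction i with
    | zero => exact h1
    | succ i ih =>
      have := h2 _ ih
      rw [smul_bits, pk_shiftPerm] at this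
      rw [Function.iterate_succ_apply']
      exact this
  have e : rows = [181, 479, 779, 1699, 3571, 1219, 2438, 3228, 1565, 3130, 2020, 4040].map
      (encL ((List.range 12).map fun i => f^[i] oc3)) := by decide +kernel
  have k0 : P (bits 0) := bits_zero ▸ h0
  have kx : ∀ a b, P (bits a) → P (bits b) → P (bits (a ^^^ b)) := fun a b p q => bits_xor a b ▸ hx _ _ p q
  obtain ⟨x, -, rfl⟩ := mem_cSets_iff.1 hC
  rw [enc_eq]
  refine encL_ind (P := fun m => P (bits m)) k0 kx _ (fun r hr => ?_) x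
  rw [e] at hr
  obtain ⟨y, -, rfl⟩ := List.mem_map.1 hr
  refine encL_ind (P := fun m => P (bits m)) k0 kx _ (fun r hr => ?_) y
  obtain ⟨i, -, rfl⟩ := List.mem_map.1 hr
  exact k i

def cl7 : ℕ := nat_lit 0x8001ede3a0087b4ecc49f0803dac75010200b9d6f49833402156a996951c488ca2
def ce1 : ℕ := nat_lit 0x8009b30800082003da020002100004010e3ab926faa22da3a0b6255231cb618820

theorem stab {c : ℕ} (h : (inKs c && (Nat.beq (papp (cP c) 23) 23 &&
    Nat.beq (img (nat_lit 5) (nat_lit 32) (nat_lit 24) (cP c) oc3) oc3)) = true) :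
    ∃ a ∈ K23, a.p • bits oc3 = bits oc3 ∧ ∀ x : Vb, (a.m x).val = ap (cA c) x.val := by
  simp only [Bool.and_eq_true, beq_iff] at h
  obtain ⟨a, ha, rfl⟩ := inS_Ks h.1
  refine ⟨a, mem_K23 ha ?_, by rw [smul_bits, ← cP_cd, h.2.2], val_m a⟩
  have := p_pt a (i := 23) (by decide)
  rwa [h.2.1] at this

theorem fx_zero {x : Vb} (hx : x ∈ Ev) (h : ∀ a ∈ K23, a.p • bits oc3 = bits oc3 → a.m x = x) : x = 0 := by
  obtain ⟨a, ha, a1, a2⟩ := stab (c := cl7) (by decide +kernel)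
  obtain ⟨b, hb, b1, b2⟩ := stab (c := ce1) (by decide +kernel)
  have k : all2 64 64 (fun n => bimp (Nat.beq (ap (cA cl7) n) n) (bimp (Nat.beq (ap (cA ce1) n) n)
      (bimp (Nat.beq (pn n) 0) (Nat.beq n 0)))) = true := by decide +kernel
  exact Vb.ext (beq_iff.1 (bimp_iff.1 (bimp_iff.1 (bimp_iff.1 (all2_iff.1 k _ x.lt)
    (beq_iff.2 (by rw [← a2, h a ha a1]))) (beq_iff.2 (by rw [← b2, h b hb b1]))) (beq_iff.2 (mem_Ev'.1 hx))))

variable {c : Cf J G} {R : Subgroup G}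

theorem comm (h : S1 c R) {a b : G} (ha : a ∈ R) (hb : b ∈ R) : a * b = b * a := by
  rw [← inv_eq_of_mul_eq_one_left (h.sq _ (mul_mem ha hb)), mul_inv_rev, inv_eq_of_mul_eq_one_left (h.sq a ha),
    inv_eq_of_mul_eq_one_left (h.sq b hb)]

theorem exists_rho {r : G} (h2 : ∀ a ∈ Ks, a.p ∈ Spor.M22 → Commute (c.θ a) r) :
    ∃ ρ : GolayPt → G, ρ none = 1 ∧ ∀ k ∈ K23, ρ (k.p (some 0)) = c.θ k * r * (c.θ k)⁻¹ := by
  classical
  refine ⟨fun p => if hp : p = none then 1 else c.θ (exists_k hp).choose * r * (c.θ (exists_k hp).choose)⁻¹,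
    dif_pos rfl, fun k hk => (dif_neg (ne_none hk)).trans ?_⟩
  obtain ⟨h1, h3⟩ := (exists_k (ne_none hk)).choose_spec
  generalize (exists_k (ne_none hk)).choose = k' at h1 h3
  have m := mul_mem (inv_mem hk) h1
  have := (h2 _ m.1 ⟨m.2, show k.p⁻¹ (k'.p (some 0)) = some 0 by rw [h3]; simp⟩).eq
  rw [c.θ_mul (inv_mem (Ks_le_Ns hk.1)) (Ks_le_Ns h1.1), c.θ_inv (Ks_le_Ns hk.1)] at this
  calc _ = c.θ k * ((c.θ k)⁻¹ * c.θ k' * r) * (c.θ k')⁻¹ := by group
    _ = _ := by rw [this]; group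

theorem exists_S (h : S1 c R) {ρ : GolayPt → G} (hρ : ∀ p, ρ p ∈ R) : ∃ S : Finset GolayPt → G, S ∅ = 1 ∧
    (∀ p A, p ∉ A → S (insert p A) = ρ p * S A) ∧ ∀ A B, S (symmDiff A B) = S A * S B := by
  letI : CommGroup R := { (inferInstance : Group R) with mul_comm := fun a b => Subtype.ext (comm h a.2 b.2) }
  refine ⟨fun A => (∏ p ∈ A, (⟨ρ p, hρ p⟩ : R) : R), rfl, fun p A hp => congrArg Subtype.val (Finset.prod_insert hp),
    fun A B => congrArg Subtype.val (?_ : _ = (_ * _ : R))⟩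
  have e : ∀ A : Finset GolayPt, ∏ p ∈ A, (⟨ρ p, hρ p⟩ : R) = ∏ p, if p ∈ A then (⟨ρ p, hρ p⟩ : R) else 1 :=
    fun A => by rw [Finset.prod_ite_mem, Finset.univ_inter]
  rw [e, e, e, ← Finset.prod_mul_distrib]
  refine Finset.prod_congr rfl fun p _ => ?_
  by_cases h1 : p ∈ A <;> by_cases h2 : p ∈ B <;> simp only [Finset.mem_symmDiff, h1, h2] <;> simp
  exact Subtype.ext (h.sq _ (hρ p)).symm

end Split2X

open Split2X in
open scoped Pointwise in
theorem S1.exists_sec {c : Cf J G} {R : Subgroup G} (h : S1 c R) {r : G} (hr : r ∈ R)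
    (h1 : c.Ph r ts) (h2 : ∀ a ∈ Ks, a.p ∈ Spor.M22 → Commute (c.θ a) r) :
    ∃ s, Sec c R (Ks ⊓ Spor.M23.comap pr) s := by
  obtain ⟨ρ, ρ0, ρk⟩ := exists_rho h2
  have tsE : ts ∈ Ev := tr_mem_Ns.1 tN_mem
  have ρ1 : ∀ p, ρ p ∈ R ∧ c.Ph (ρ p) (cl {p} + cl {none}) ∧
      ∀ a ∈ K23, c.θ a * ρ p * (c.θ a)⁻¹ = ρ (a.p p) := fun p => by
    by_cases hp : p = none
    · rw [hp, ρ0, Vb.add_self]
      exact ⟨one_mem _, c.ph_zero.2 (Commute.one_left _), fun a ha => by rw [fix_none ha, ρ0]; simp⟩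
    obtain ⟨k, hk, rfl⟩ := exists_k hp
    have kN := Ks_le_Ns hk.1
    refine ⟨ρk k hk ▸ h.norm k kN r hr, ?_, fun a ha => ?_⟩
    · have := Cf.Ph.conj c h1 kN tsE
      rwa [← ρk k hk, ts_eq, H81.J4.cl_pair (by decide), map_add, hk.1.1.2, hk.1.1.2, Finset.smul_finset_singleton,
        Finset.smul_finset_singleton, Equiv.Perm.smul_def, fix_none hk, add_comm] at this
    · refine Eq.trans ?_ (ρk _ (mul_mem ha hk)).symm
      rw [ρk k hk, c.θ_mul (Ks_le_Ns ha.1) kN]; group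
  obtain ⟨S, S0, Si, Sd⟩ := exists_S h fun p => (ρ1 p).1
  have Sm : ∀ A, S A ∈ R := fun A => by
    induction A using Finset.induction_on with
    | empty => exact S0 ▸ one_mem _
    | insert p A hp ih => exact Si p A hp ▸ mul_mem (ρ1 p).1 ih
  have Se : ∀ a ∈ K23, ∀ A, c.θ a * S A * (c.θ a)⁻¹ = S (a.p • A) := fun a ha A => by
    induction A using Finset.induction_on with
    | empty => rw [Finset.smul_finset_empty, S0]; simp
    | insert p A hp ih =>
      rw [Finset.smul_finset_insert, Si p A hp, Si _ _ (mt (Finset.smul_mem_smul_finset_iff _).1 hp), ← conj_mul, ih,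
        (ρ1 p).2.2 a ha, Equiv.Perm.smul_def]
  have Sp : ∀ A : Finset GolayPt, cl A + A.card • cl {none} ∈ Ev ∧ c.Ph (S A) (cl A + A.card • cl {none}) :=
    fun A => by
    induction A using Finset.induction_on with
    | empty =>
      rw [cl_empty, Finset.card_empty, zero_nsmul, add_zero, S0]
      exact ⟨zero_mem _, c.ph_zero.2 (Commute.one_left _)⟩
    | insert p A hp ih =>
      have m : cl {p} + cl {none} ∈ Ev := by
        rw [mem_Ev, par_add, par_cl, par_cl, Finset.card_singleton, Finset.card_singleton, z2_add_self]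
      rw [H81.J4.cl_insert hp, Finset.card_insert_of_notMem hp, succ_nsmul', add_add_add_comm, Si p A hp]
      exact ⟨add_mem m ih.1, Cf.Ph.mul c (ρ1 p).2.1 ih.2 (fun x hx => comm h (ρ1 p).1 (h.vR x hx)) m ih.1⟩
  have Sp' : ∀ A, cl A ∈ Ev → c.Ph (S A) (cl A) := fun A hA => by
    obtain ⟨n, hn⟩ := cl_mem_Ev.1 hA
    have := (Sp A).2
    rwa [hn, add_nsmul, Vb.add_self, add_zero] at this
  have So : S (bits oc3) = 1 := by
    have e : cl (bits oc3) = 0 := cl_eq_zero.2 (bits_mem_of_enc (by decide +kernel))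
    obtain ⟨x, hx, k⟩ := h.ker _ (Sm _) (c.ph_zero.1 (e ▸ Sp' _ (e ▸ zero_mem _)))
    rw [k, fx_zero hx fun a ha k' => c.v_inj ((m_mem_Ev ha.1.1).2 hx) hx (by
      rw [← c.conj_v (Ks_le_Ns ha.1) hx, ← k, Se a ha, k']), c.v_zero]
  have Sc : ∀ {A B}, cl A = cl B → S A = S B := fun {A B} e => by
    have := code_ind (P := fun C => S C = 1) S0 (fun a b p q => by rw [Sd, p, q, mul_one]) So (fun a p => by
      have := Se (kof ⟨_, shiftPerm_mem⟩) (mem_K23 (kof_mem _) rfl) a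
      rw [p, mul_one, mul_inv_cancel] at this
      exact this.symm) (cl_eq_cl.1 e)
    rw [Sd] at this
    exact mul_right_cancel (this.trans (h.sq _ (Sm B)).symm)
  refine ⟨fun x => S (rep x), fun x _ => Sm _, fun x _ y _ => ?_, fun x hx => ?_, fun a ha x _ => ?_⟩
  · rw [← Sd]
    exact Sc (by rw [cl_symmDiff, cl_rep, cl_rep, cl_rep])
  · have := Sp' (rep x) ((cl_rep x).symm ▸ hx)
    rwa [cl_rep] at this
  · rw [Se a ha]
    exact Sc (by rw [← ha.1.1.2, cl_rep, cl_rep])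

end Cfsg.Agent.WJ
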