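import Cfsg.Agent.WJ.Base

set_option autoImplicit false
set_option linter.unusedSectionVars false

namespace Cfsg.Agent.WJ

open Cfsg.Agent.SGJ4 Cfsg.Agent.J4P Cfsg.Agent.H14 AG Subgroup
open Cfsg.Agent.H42 (SylIn cj)

variable {J G : Type*} [Group J] [Group G] [Finite J] [Finite G]

namespace Split3X

open scoped Pointwise

theorem eq_of_p {a b : AG} (ha : a ∈ Ks) (hb : b ∈ Ks) (h : a.p = b.p) : a = b :=
  (lin_eq_self.2 ha.2).symm.trans ((lin_eq_of_p ha.1 hb.1 h).trans (lin_eq_self.2 hb.2))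

theorem mem_K23 {a : AG} (ha : a ∈ Ks) (h : a.p none = none) : a ∈ Ks ⊓ Spor.M23.comap pr := ⟨ha, ha.1.1, h⟩

theorem m_single {a : AG} (ha : a ∈ Ks) (p : GolayPt) : a.m (cl {p}) = cl {a.p p} := by
  rw [ha.1.2, Finset.smul_finset_singleton, Equiv.Perm.smul_def]

def σ : AG := kof ⟨projInv, projInv_mem⟩
def sh : AG := kof ⟨shiftPerm, shiftPerm_mem⟩

theorem σ_mem : σ ∈ Ks := kof_mem _
theorem sh_mem : sh ∈ Ks := kof_mem _
theorem σσ : σ * σ = 1 := eq_of_p (mul_mem σ_mem σ_mem) (one_mem _)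
  (show projInv * projInv = 1 from Equiv.ext (by decide +kernel))
theorem σ3 : σ * sh * (σ * sh) * (σ * sh) = 1 :=
  eq_of_p (mul_mem (mul_mem (mul_mem σ_mem sh_mem) (mul_mem σ_mem sh_mem)) (mul_mem σ_mem sh_mem)) (one_mem _)
    (show projInv * shiftPerm * (projInv * shiftPerm) * (projInv * shiftPerm) = 1 from Equiv.ext (by decide +kernel))
theorem σσm (x : Vb) : σ.m (σ.m x) = x := by rw [← mul_m, σσ, one_m]

def cm1 : ℕ := nat_lit 0x8001003dae3ab1d0800010400107b4b66200bd10b54d92824b53b9e268c9689820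
def cm2 : ℕ := nat_lit 0x8000020101006e3001200020400b1d008d4bbb6141b2b1b29e2594c849dd324820

theorem stab {c : ℕ} (h : (inKs c && (Nat.beq (papp (cP c) 23) 23 && (Nat.beq (papp (cP c) 0) 0 &&
    Nat.beq (papp (cP c) 1) 1))) = true) : ∃ a ∈ Ks, a.p none = none ∧ a.p (some 0) = some 0 ∧
      a.p (some 1) = some 1 ∧ ∀ x : Vb, (a.m x).val = ap (cA c) x.val := by
  simp only [Bool.and_eq_true, beq_iff] at h
  obtain ⟨a, ha, rfl⟩ := inS_Ks h.1
  have h1 := p_pt a (i := 23) (by decide)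
  have h2 := p_pt a (i := 0) (by decide)
  have h3 := p_pt a (i := 1) (by decide)
  rw [h.2.1] at h1
  rw [h.2.2.1] at h2
  rw [h.2.2.2] at h3
  exact ⟨a, ha, h1, h2, h3, val_m a⟩

theorem fx {y : Vb} (hy : y ∈ Ev) (h : ∀ a ∈ Ks, a.p none = none → a.p (some 0) = some 0 →
    a.p (some 1) = some 1 → a.m y = y) : ∃ (i : ℕ) (w : Vb), y = i • cl {some 1} + w ∧
      ∀ a ∈ Ks, a.p none = none → a.p (some 0) = some 0 → a.m w = w := by
  obtain ⟨a, ha, a1, a2, a3, a4⟩ := stab (c := cm1) (by decide +kernel)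
  obtain ⟨b, hb, b1, b2, b3, b4⟩ := stab (c := cm2) (by decide +kernel)
  have k : all2 64 64 (fun n => bimp (Nat.beq (ap (cA cm1) n) n) (bimp (Nat.beq (ap (cA cm2) n) n)
      (bimp (Nat.beq (pn n) 0) (Nat.beq n 0 || (Nat.beq n 1141 || (Nat.beq n 2282 || Nat.beq n 3231)))))) = true := by
    decide +kernel
  have := bimp_iff.1 (bimp_iff.1 (bimp_iff.1 (all2_iff.1 k _ y.lt) (beq_iff.2 (by rw [← a4, h a ha a1 a2 a3])))
    (beq_iff.2 (by rw [← b4, h b hb b1 b2 b3]))) (beq_iff.2 (mem_Ev'.1 hy))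
  simp only [Bool.or_eq_true, beq_iff] at this
  rcases this with e | e | e | e
  · exact ⟨0, 0, Vb.ext (e.trans (by decide +kernel)), fun a _ _ _ => map_zero _⟩
  · exact ⟨0, cl {some 0} + cl {none}, Vb.ext (e.trans (by decide +kernel)), fun a ha p q => by
      rw [map_add, m_single ha, m_single ha, p, q]⟩
  · exact ⟨1, cl {some 0}, Vb.ext (e.trans (by decide +kernel)), fun a ha _ q => by rw [m_single ha, q]⟩
  · exact ⟨1, cl {none}, Vb.ext (e.trans (by decide +kernel)), fun a ha p _ => by rw [m_single ha, p]⟩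

theorem exists_a {p : GolayPt} (h1 : p ≠ none) (h2 : p ≠ some 0) :
    ∃ a ∈ Ks, a.p none = none ∧ a.p (some 0) = some 0 ∧ a.p (some 1) = p := by
  obtain ⟨g, hg, e⟩ := m24_exists_apply_eq (t := 3) (by decide) ![none, some 0, some 1] ![none, some 0, p]
    (by decide) (by intro i j; fin_cases i <;> fin_cases j <;> simp [h1, h1.symm, h2, h2.symm])
  exact ⟨kof ⟨g, hg⟩, kof_mem _, e 0, e 1, e 2⟩

theorem even_smul {n : ℕ} (h : Even n) (x : Vb) : n • x = 0 := by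
  obtain ⟨k, rfl⟩ := h
  rw [add_nsmul, Vb.add_self]

variable (c : Cf J G) (s : Vb → G)

/-- equivariance up to a twist -/
def E (a : AG) (i : ℕ) : Prop := ∀ x ∈ Ev, c.θ a * s x * (c.θ a)⁻¹ = s (a.m x) * c.v (i • a.m x)

/-- the difference of the section and its conjugate -/
def D (u y : Vb) : Prop := u ∈ Ev ∧ y ∈ Ev ∧ c.θ σ * s (σ.m u) * (c.θ σ)⁻¹ = s u * c.v y

variable {c s} {R : Subgroup G}

theorem E.mul {a b : AG} {i j : ℕ} (h1 : E c s a i) (h2 : E c s b j) (ha : a ∈ Ns) (hb : b ∈ Ns) :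
    E c s (a * b) (i + j) := fun x hx => by
  have m := (m_mem_Ev hb.1).2 hx
  have m' := (m_mem_Ev ha.1).2 m
  calc _ = c.θ a * (c.θ b * s x * (c.θ b)⁻¹) * (c.θ a)⁻¹ := by rw [c.θ_mul ha hb]; group
    _ = _ := by
      rw [h2 x hx, ← conj_mul, h1 _ m, c.conj_v ha (nsmul_mem m j), map_nsmul, mul_assoc,
        ← c.v_add (nsmul_mem m' i) (nsmul_mem m' j), ← add_nsmul, mul_m]

theorem E_zero {a : AG} : E c s a 0 ↔ ∀ x ∈ Ev, c.θ a * s x * (c.θ a)⁻¹ = s (a.m x) := by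
  simp only [E, zero_nsmul, c.v_zero, mul_one]

theorem comm (h : S1 c R) {a b : G} (ha : a ∈ R) (hb : b ∈ R) : a * b = b * a := by
  rw [← inv_eq_of_mul_eq_one_left (h.sq _ (mul_mem ha hb)), mul_inv_rev, inv_eq_of_mul_eq_one_left (h.sq a ha),
    inv_eq_of_mul_eq_one_left (h.sq b hb)]

variable (h : S1 c R) (hs : Sec c R (Ks ⊓ Spor.M23.comap pr) s)
include h hs

theorem D_ex {u : Vb} (hu : u ∈ Ev) : ∃ y, D c s u y := by
  have m := (m_mem_Ev σ_mem.1).2 hu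
  have k := Cf.Ph.conj c (hs.φ _ m) (Ks_le_Ns σ_mem) m
  rw [σσm] at k
  obtain ⟨y, hy, e⟩ := h.ker _ (mul_mem (inv_mem (hs.mem u hu)) (h.norm _ (Ks_le_Ns σ_mem) _ (hs.mem _ m)))
    (Cf.Ph.comm c (hs.φ u hu) k)
  exact ⟨y, hu, hy, inv_mul_eq_iff_eq_mul.1 e⟩

omit h in
theorem D_zero : D c s 0 0 := by
  have := hs.add 0 (zero_mem _) 0 (zero_mem _)
  rw [add_zero, left_eq_mul] at this
  exact ⟨zero_mem _, zero_mem _, by rw [map_zero, this, c.v_zero]; simp⟩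

theorem D_add {u y u' y' : Vb} (h1 : D c s u y) (h2 : D c s u' y') : D c s (u + u') (y + y') := by
  refine ⟨add_mem h1.1 h2.1, add_mem h1.2.1 h2.2.1, ?_⟩
  rw [map_add, hs.add _ ((m_mem_Ev σ_mem.1).2 h1.1) _ ((m_mem_Ev σ_mem.1).2 h2.1), ← conj_mul, h1.2.2, h2.2.2,
    hs.add _ h1.1 _ h2.1, c.v_add h1.2.1 h2.2.1, mul_assoc, ← mul_assoc (c.v y),
    comm h (h.vR y h1.2.1) (hs.mem u' h2.1)]
  group

omit h hs in
theorem D_uniq {u y y' : Vb} (h1 : D c s u y) (h2 : D c s u y') : y = y' :=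
  c.v_inj h1.2.1 h2.2.1 (mul_left_cancel (h1.2.2.symm.trans h2.2.2))

omit h in
theorem D_eqv {u y : Vb} (h1 : D c s u y) {a : AG} (ha : a ∈ Ks) (p : a.p none = none)
    (q : a.p (some 0) = some 0) : D c s (a.m u) (a.m y) := by
  refine ⟨(m_mem_Ev ha.1).2 h1.1, (m_mem_Ev ha.1).2 h1.2.1, ?_⟩
  have σN := Ks_le_Ns σ_mem
  have aN := Ks_le_Ns ha
  have k := hs.eqv _ (mem_K23 (mul_mem (mul_mem σ_mem ha) σ_mem) (by
    change projInv (a.p (some 0)) = none
    rw [q]; rfl)) _ ((m_mem_Ev σ_mem.1).2 h1.1)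
  have e : c.θ σ * c.θ σ = 1 := by rw [← c.θ_mul σN σN, σσ, c.θ_one]
  rw [mul_m, mul_m, σσm, c.θ_mul (mul_mem σN aN) σN, c.θ_mul σN aN] at k
  rw [← k, ← hs.eqv a (mem_K23 ha p) u h1.1, ← c.conj_v aN h1.2.1, conj_mul, ← h1.2.2]
  calc _ = c.θ σ * c.θ σ * (c.θ a * (c.θ σ * s (σ.m u) * (c.θ σ)⁻¹) * (c.θ a)⁻¹) * (c.θ σ * c.θ σ)⁻¹ := by group
    _ = _ := by rw [e]; group

theorem D_ind {i : ℕ} {w : Vb} (A : Finset GolayPt) (hA : ∀ p ∈ A, D c s (cl {p} + cl {none}) (i • cl {p} + w)) :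
    D c s (cl A + A.card • cl {none}) (i • cl A + A.card • w) := by
  induction A using Finset.induction_on with
  | empty => simpa only [cl_empty, Finset.card_empty, zero_nsmul, add_zero, nsmul_zero] using D_zero hs
  | insert p A hp ih =>
    rw [H81.J4.cl_insert hp, Finset.card_insert_of_notMem hp, succ_nsmul', succ_nsmul', add_add_add_comm, nsmul_add,
      add_add_add_comm (i • cl {p})]
    exact D_add h hs (hA p (Finset.mem_insert_self _ _)) (ih fun q hq => hA q (Finset.mem_insert_of_mem hq))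

theorem E_σ : E c s σ 0 := by
  obtain ⟨y, hy⟩ := D_ex h hs (u := cl {some 1} + cl {none}) (mem_Ev'.2 (by decide +kernel))
  obtain ⟨i, w, rfl, hw⟩ := fx hy.2.1 fun a ha p q r => by
    have := D_eqv hs hy ha p q
    rw [map_add, m_single ha, m_single ha, p, r] at this
    exact D_uniq this hy
  have k1 : ∀ p, p ≠ none → p ≠ some 0 → D c s (cl {p} + cl {none}) (i • cl {p} + w) := fun p h1 h2 => by
    obtain ⟨a, ha, a1, a2, a3⟩ := exists_a h1 h2
    have := D_eqv hs hy ha a1 a2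
    rwa [map_add, map_add, map_nsmul, m_single ha, m_single ha, a1, a3, hw a ha a1 a2] at this
  have k2 : D c s (cl {none} + cl {none}) (i • cl {none} + w) := by
    have := D_ind h hs (bits 5550084) fun p hp => k1 p (by rintro rfl; revert hp; decide)
      (by rintro rfl; revert hp; decide)
    rwa [show cl (bits 5550084) = cl {none} from Vb.ext (by decide +kernel), card_bits,
      show pc 5550084 = 6 + 1 by decide +kernel, succ_nsmul, succ_nsmul _ 6, even_smul (by decide),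
      even_smul (n := 6) (by decide), zero_add, zero_add] at this
  have k3 : E c s σ i := fun x hx => by
    have m := (m_mem_Ev σ_mem.1).2 hx
    have ev := cl_mem_Ev.1 ((cl_rep (σ.m x)).symm ▸ m)
    have := D_ind h hs (i := i) (w := w) (rep (σ.m x)) fun p hp => by
      by_cases e : p = none
      · rw [e]; exact k2
      refine k1 p e ?_
      rintro rfl
      have := mem_bits.1 hp
      rw [show idx (some 0) = 0 from rfl, Nat.testBit_zero, decide_eq_true_eq] at this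
      omega
    rw [even_smul ev, even_smul ev, add_zero, add_zero, cl_rep] at this
    have := this.2.2
    rwa [σσm] at this
  have σN := Ks_le_Ns σ_mem
  have m := mul_mem σN (Ks_le_Ns sh_mem)
  have k4 := k3.mul (E_zero.2 (hs.eqv _ (mem_K23 sh_mem rfl))) σN (Ks_le_Ns sh_mem)
  have k5 := (k4.mul k4 m m).mul k4 (mul_mem m m) m
  intro x hx
  have m' := (m_mem_Ev σ_mem.1).2 hx
  have := k5 _ m'
  rw [σ3, c.θ_one, one_m, one_mul, inv_one, mul_one, left_eq_mul, add_zero, add_nsmul, add_nsmul, Vb.add_self,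
    zero_add] at this
  rw [k3 x hx, this, zero_nsmul, c.v_zero]

end Split3X

open Split3X in
theorem Sec.full {c : Cf J G} {R : Subgroup G} {s : Vb → G} (h : S1 c R)
    (hs : Sec c R (Ks ⊓ Spor.M23.comap pr) s) : Sec c R Ns s := by
  let L : Subgroup AG :=
    { carrier := {a | a ∈ Ns ∧ E c s a 0}
      one_mem' := ⟨one_mem _, E_zero.2 fun x _ => by rw [c.θ_one, one_m]; simp⟩
      mul_mem' := fun p q => ⟨mul_mem p.1 q.1, Nat.add_zero 0 ▸ p.2.mul q.2 p.1 q.1⟩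
      inv_mem' := fun {a} p => ⟨inv_mem p.1, E_zero.2 fun x hx => by
        have := E_zero.1 p.2 _ ((m_mem_Ev (inv_mem p.1).1).2 hx)
        rw [m_inv_m] at this
        rw [← this, c.θ_inv p.1]; group⟩ }
  have k : M24 ≤ (L ⊓ Ks).map pr := by
    rw [← M24_eq_closure, closure_le]
    rintro g (rfl | rfl | rfl)
    · exact ⟨sh, ⟨⟨Ks_le_Ns sh_mem, E_zero.2 (hs.eqv _ (mem_K23 sh_mem rfl))⟩, sh_mem⟩, rfl⟩
    · exact ⟨σ, ⟨⟨Ks_le_Ns σ_mem, E_σ h hs⟩, σ_mem⟩, rfl⟩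
    · have m := kof_mem ⟨_, cubeTwist_mem⟩
      exact ⟨_, ⟨⟨Ks_le_Ns m, E_zero.2 (hs.eqv _ (mem_K23 m rfl))⟩, m⟩, rfl⟩
  refine ⟨hs.mem, hs.add, hs.φ, fun a ha => ?_⟩
  obtain ⟨b, hb, e⟩ := k ha.1.1
  obtain rfl := eq_of_p hb.2 (lin_mem_Ks ha.1) e
  have m : tr a.v ∈ L := ⟨tr_mem_Ns.2 ha.2, E_zero.2 fun x hx =>
    mul_inv_eq_iff_eq_mul.2 (comm h (h.vR _ ha.2) (hs.mem x hx))⟩
  exact E_zero.1 (tr_mul_lin a ▸ mul_mem m hb.1 : a ∈ L).2

end Cfsg.Agent.WJ
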