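import Cfsg.Agent.WJ.BaseF
import Cfsg.Agent.WJ.MH

set_option autoImplicit false
set_option linter.unusedSectionVars false

namespace Cfsg.Agent.WJ

open Cfsg.Agent.SGJ4 Cfsg.Agent.J4P Cfsg.Agent.H14 AG Subgroup
open Cfsg.Agent.H42 (SylIn cj)

variable {J G : Type*} [Group J] [Group G]

namespace TauX

variable {c : Fr J G}

/-- adjacent frames agree on involutions -/
theorem adj (h : c.Cp) {g g' : J} {a b p p' : AG} (ha : a ∈ Ns) (hb : b ∈ Ns) (hp : p ∈ Ns)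
    (hp' : p' ∈ Ns) (e : g⁻¹ * g' = c.m.f a * c.m.τ * c.m.f b) (p2 : p * p = 1)
    (e' : g * c.m.f p * g⁻¹ = g' * c.m.f p' * g'⁻¹) :
    c.ι g * c.l p * (c.ι g)⁻¹ = c.ι g' * c.l p' * (c.ι g')⁻¹ := by
  have τi : c.m.τ⁻¹ = c.m.τ := inv_eq_of_mul_eq_one_right c.m.ττ
  have m1 := mul_mem (mul_mem (inv_mem ha) hp) (inv_mem (inv_mem ha))
  have k := h _ m1 _ (mul_mem (mul_mem hb hp') (inv_mem hb)) (by rw [conj_mul, p2]; simp) (by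
    rw [c.m.f_mul (mul_mem hb hp') (inv_mem hb), c.m.f_mul hb hp', c.m.f_inv hb,
      c.m.f_mul (mul_mem (inv_mem ha) hp) (inv_mem (inv_mem ha)), c.m.f_mul (inv_mem ha) hp,
      c.m.f_inv (inv_mem ha), c.m.f_inv ha]
    calc _ = (c.m.f a)⁻¹ * (c.m.f a * c.m.τ * c.m.f b) * c.m.f p' * (c.m.f a * c.m.τ⁻¹ * c.m.f b)⁻¹ *
          c.m.f a := by group
      _ = (c.m.f a)⁻¹ * (g⁻¹ * (g' * c.m.f p' * g'⁻¹) * g) * c.m.f a := by rw [τi, ← e]; group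
      _ = _ := by rw [← e']; group)
  rw [← c.θ_l hb hp', ← c.θ_l (inv_mem ha) hp, c.θ_inv ha] at k
  have e1 : c.ι g' = c.ι g * (c.θ a * c.ι c.m.τ * c.θ b) := by
    rw [inv_mul_eq_iff_eq_mul.1 e, map_mul, map_mul, map_mul]; rfl
  calc _ = c.ι g * c.θ a * ((c.θ a)⁻¹ * c.l p * (c.θ a)⁻¹⁻¹) * (c.θ a)⁻¹ * (c.ι g)⁻¹ := by group
    _ = c.ι g * c.θ a * (c.ι c.m.τ * (c.θ b * c.l p' * (c.θ b)⁻¹) * (c.ι c.m.τ)⁻¹) * (c.θ a)⁻¹ *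
      (c.ι g)⁻¹ := by rw [← k, ← map_inv c.ι c.m.τ, τi]
    _ = _ := by rw [e1]; group

theorem tct (g : J) (u : G) : c.t * (c.ι g * u * (c.ι g)⁻¹) * c.t = c.ι g * (c.t * u * c.t) * (c.ι g)⁻¹ := by
  rw [← mul_assoc, ← mul_assoc, ← (c.tc g).eq, mul_assoc, (c.tc g).inv_left.eq]
  simp only [mul_assoc]

theorem comm_conj {x y : G} (g : G) (h : Commute x y) : Commute (g * x * g⁻¹) (g * y * g⁻¹) :=
  h.map (MulAut.conj g)

/-- involutions of the edge group of the frame `n τ` -/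
theorem edge (h : c.Cp) {n p a : AG} (hn : n ∈ Ns) (hp : p ∈ Ns) (p2 : p * p = 1)
    (ok : okD (cd (n⁻¹ * p * n)) = true) :
    Commute (c.ι (c.m.f n * c.m.τ) * c.l a * (c.ι (c.m.f n * c.m.τ))⁻¹) (c.l' p) := by
  obtain ⟨b, hb, e⟩ := c.m.alpha (mul_mem (mul_mem (inv_mem hn) hp) hn) ok
  have k := adj h (g := 1) (g' := c.m.f n * c.m.τ) hn (one_mem _) hp hb (by simp [c.m.f_one]) p2 (by
    rw [c.m.f_mul (mul_mem (inv_mem hn) hp) hn, c.m.f_mul (inv_mem hn) hp, c.m.f_inv hn] at e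
    rw [mul_inv_rev, inv_eq_of_mul_eq_one_right c.m.ττ]
    calc _ = c.m.f n * ((c.m.f n)⁻¹ * c.m.f p * c.m.f n) * (c.m.f n)⁻¹ := by group
      _ = _ := by rw [← e]; group)
  rw [map_one, one_mul, inv_one, mul_one] at k
  rw [← c.tlt, k, tct, c.tlt]
  exact comm_conj _ (c.ll' a b)

theorem sq {n a : AG} (ha : a ∈ Ns) (e : c.m.τ * (c.m.f n)⁻¹ * c.m.τ * c.m.f n * c.m.τ = c.m.f a) :
    a * a = 1 ∧ c.m.f n * c.m.τ * c.m.f a * (c.m.f n * c.m.τ)⁻¹ = c.m.τ := by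
  have τi : c.m.τ⁻¹ = c.m.τ := inv_eq_of_mul_eq_one_right c.m.ττ
  have e1 : c.m.f a = (c.m.f n * c.m.τ)⁻¹ * c.m.τ * (c.m.f n * c.m.τ)⁻¹⁻¹ := by
    rw [← e, inv_inv, mul_inv_rev, τi]; simp only [mul_assoc]
  refine ⟨c.m.f_inj (mul_mem ha ha) (one_mem _) ?_, by rw [e1]; group⟩
  rw [c.m.f_mul ha ha, e1, conj_mul, c.m.ττ, c.m.f_one]; simp

theorem ev {x : Vb} (hx : x.val ∈ [3, 343, 435]) : tr x ∈ Ns := by
  rw [tr_mem_Ns, mem_Ev']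
  simp only [List.mem_cons, List.not_mem_nil, or_false] at hx
  rcases hx with e | e | e <;> rw [e] <;> decide +kernel

theorem fix {x : Vb} (hx : x.val ∈ [3, 343, 435]) : ∃ a ∈ Ns, a * a = 1 ∧
    c.m.f (tr x) * c.m.τ * c.m.f a * (c.m.f (tr x) * c.m.τ)⁻¹ = c.m.τ := by
  obtain ⟨a, ha, e⟩ := c.m.fix3 hx
  exact ⟨a, ha, sq ha (by rw [← c.m.f_inv (ev hx), tr_inv, e])⟩

end TauX

open TauX

variable [Finite J] [Finite G]

theorem Fr.exists_ta (c : Fr J G) (h : c.Cp) : ∃ τ₁, c.Ta τ₁ := by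
  have h0 : (Vb.of 343).val ∈ [3, 343, 435] := by decide +kernel
  obtain ⟨a, ha, a2, e⟩ := fix (c := c) h0
  refine ⟨c.ι (c.m.f (tr (Vb.of 343)) * c.m.τ) * c.l a * (c.ι (c.m.f (tr (Vb.of 343)) * c.m.τ))⁻¹,
    c.Xn.conj_mem _ (c.l_mem a) _, ?_, ?_, fun b => ?_⟩
  · rw [tct, conj_mul, c.tlt, ← Fr.κ, c.κ_diag ha, Cf.θ, ← map_inv, ← map_mul, ← map_mul, e]
  · rw [tct, c.tlt]
    exact comm_conj _ (c.ll' a a)
  generalize hτ : c.ι (c.m.f (tr (Vb.of 343)) * c.m.τ) * c.l a *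
    (c.ι (c.m.f (tr (Vb.of 343)) * c.m.τ))⁻¹ = τ₁
  by_cases hb : b ∈ Ns
  swap
  · rw [Fr.l', ex, dif_neg hb, mul_one, c.tt]
    exact Commute.one_right _
  let C : Subgroup AG :=
    { carrier := {p | p ∈ Ns ∧ Commute τ₁ (c.l' p)}
      one_mem' := ⟨one_mem _, c.l'_one ▸ Commute.one_right _⟩
      mul_mem' := fun h1 h2 => ⟨mul_mem h1.1 h2.1, c.l'_mul h1.1 h2.1 ▸ h1.2.mul_right h2.2⟩
      inv_mem' := fun h1 => ⟨inv_mem h1.1, c.l'_inv h1.1 ▸ h1.2.inv_right⟩ }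
  refine (Ns_le_of_inv (C := C) (fun x hx p hp p2 ok => ⟨hp, ?_⟩) (fun p hp p2 ok => ⟨hp, ?_⟩) hb).2
  · by_cases d : x = Vb.of 343
    · subst d
      exact hτ ▸ edge h (ev hx) hp p2 ok
    obtain ⟨a', ha', a2', e'⟩ := fix (c := c) hx
    obtain ⟨u, hu, w, hw, k⟩ := c.m.adj3 hx h0 d
    rw [← hτ, ← adj h hu hw ha' ha k a2' (e'.trans e.symm)]
    exact edge h (ev hx) hp p2 ok
  · obtain ⟨a', ha', e'⟩ := c.m.fix4
    obtain ⟨u, hu, w, hw, k⟩ := c.m.adj4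
    rw [← hτ, ← adj h hu hw ha' ha k (sq ha' e').1 ((sq ha' e').2.trans e.symm)]
    exact edge h inS_cn0.ofC_mem hp p2 ok

end Cfsg.Agent.WJ
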