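import Cfsg.Agent.WJ.MK2
import Cfsg.Agent.WR.Gen

set_option autoImplicit false
set_option linter.unusedSectionVars false

namespace Cfsg.Agent.WJ

open Cfsg.Agent.SGJ4 Cfsg.Agent.J4P Cfsg.Agent.H14 AG Subgroup
open Cfsg.Agent.H42 (SylIn cj)

variable {J G : Type*} [Group J] [Group G] [Finite J] [Finite G]

namespace RQ

/-- two involutions are conjugate or commute with an involution of the dihedral group they generate -/
theorem dih {u t : G} (u2 : u * u = 1) (t2 : t * t = 1) :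
    IsConj t u ∨ ∃ n : ℕ, (u * t) ^ n ≠ 1 ∧ (u * t) ^ n * (u * t) ^ n = 1 ∧ Commute ((u * t) ^ n) t ∧
      Commute ((u * t) ^ n) u := by
  have ti : t⁻¹ = t := inv_eq_of_mul_eq_one_left t2
  have e : ∀ n : ℕ, t * ((u * t) ^ n)⁻¹ = (u * t) ^ n * t := fun n => by
    rw [← inv_pow, ← mul_inv_eq_iff_eq_mul, ← conj_pow, mul_inv_rev, ti, inv_eq_of_mul_eq_one_left u2, ← mul_assoc, t2,
      one_mul]
  rcases Nat.even_or_odd' (orderOf (u * t)) with ⟨n, h | h⟩
  · have p := orderOf_pos (u * t)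
    have w2 : (u * t) ^ n * (u * t) ^ n = 1 := by rw [← pow_add, ← two_mul, ← h, pow_orderOf_eq_one]
    have c : Commute ((u * t) ^ n) t := by
      rw [Commute, SemiconjBy, ← e, inv_eq_of_mul_eq_one_left w2]
    refine .inr ⟨n, pow_ne_one_of_lt_orderOf (by omega) (by omega), w2, c, ?_⟩
    have := ((Commute.refl (u * t)).pow_left n).mul_right c
    rwa [mul_assoc, t2, mul_one] at this
  · refine .inl (isConj_iff.2 ⟨(u * t) ^ (n + 1), ?_⟩)
    rw [mul_assoc, e, ← mul_assoc, ← pow_add, show n + 1 + (n + 1) = 2 * n + 1 + 1 by ring, ← h, pow_succ,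
      pow_orderOf_eq_one, one_mul, mul_assoc, t2, mul_one]

theorem odd_of {H : Subgroup G} (h : ∀ w ∈ H, w * w = 1 → w = 1) {o : G} (ho : o ∈ H) : Odd (orderOf o) := by
  rcases Nat.even_or_odd' (orderOf o) with ⟨n, e | e⟩
  · have p := orderOf_pos o
    exact absurd (h _ (pow_mem ho n) (by rw [← pow_add, ← two_mul, ← e, pow_orderOf_eq_one]))
      (pow_ne_one_of_lt_orderOf (by omega) (by omega))
  · exact ⟨n, e⟩

variable (m : Md J) (s : St J G)

/-- the centraliser of the standard subgroup -/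
abbrev K : Subgroup G := centralizer (s.ι.range : Set G)
/-- the normaliser of the standard subgroup -/
abbrev N : Subgroup G := normalizer (s.ι.range : Set G)

/-- `n` acts on the standard subgroup as `a` -/
def Pr (n : G) (a : J) : Prop := n * (s.ι a)⁻¹ ∈ K s

variable {s}

theorem cK {k : G} (hk : k ∈ K s) (a : J) : Commute (s.ι a) k := hk _ ⟨a, rfl⟩

theorem cN {u x : G} (hu : u ∈ K s) (u2 : u * u = 1) (u1 : u ≠ 1) (c : Commute x u) : x ∈ N s :=
  s.tight x u hu u2 u1 (by rwa [c.mul_inv_cancel])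

theorem conjK {n k : G} (hn : n ∈ N s) (hk : k ∈ K s) : n * k * n⁻¹ ∈ K s :=
  H42.conj_mem_of_mem_normalizer (H42.normalizer_le_normalizer_centralizer _ hn) hk

theorem Pr.ex {n : G} (hn : n ∈ N s) : ∃ a, Pr s n a := by
  obtain ⟨k, hk, a, rfl⟩ := s.out n hn
  exact ⟨a, by rwa [Pr, mul_inv_cancel_right]⟩

theorem Pr.one_iff {n : G} : Pr s n 1 ↔ n ∈ K s := by rw [Pr, map_one, inv_one, mul_one]

theorem Pr.mul {n n' : G} {a a' : J} (h : Pr s n a) (h' : Pr s n' a') : Pr s (n * n') (a * a') := by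
  have := mul_mem h h'
  rw [mul_assoc, ← map_inv, (cK h' _).eq, map_inv] at this
  rw [Pr, map_mul, mul_inv_rev]
  simpa only [mul_assoc] using this

include m

theorem Pr.uniq {n : G} {a a' : J} (h : Pr s n a) (h' : Pr s n a') : a = a' := by
  have := mul_mem (inv_mem h) h'
  rw [mul_inv_rev, inv_inv, mul_assoc, inv_mul_cancel_left, ← map_inv, ← map_mul] at this
  exact mul_inv_eq_one.1 (m.cent fun b => s.inj (by
    have e := (cK this b).eq
    rw [← map_mul, ← map_mul] at e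
    exact e.symm))

theorem Pr.comm {n n' : G} {a a' : J} (h : Pr s n a) (h' : Pr s n' a') (c : Commute n n') : Commute a a' :=
  (h.mul h').uniq m (c.eq ▸ h'.mul h)

theorem Pr.sq {n : G} {a : J} (h : Pr s n a) (n2 : n * n = 1) : a * a = 1 :=
  (h.mul h).uniq m (by rw [n2]; exact Pr.one_iff.2 (one_mem _))

omit m in
theorem Pr.ne {g u : G} {a : J} (hg : g ∉ N s) (hu : u ∈ K s) (u2 : u * u = 1) (u1 : u ≠ 1)
    (h : Pr s (g * u * g⁻¹) a) : a ≠ 1 := fun e => hg (s.tight g u hu u2 u1 (Pr.one_iff.1 (e ▸ h)))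

/-- the pair lemma -/
theorem pair {g u c : G} {a a' : J} (hg : g ∉ N s) (hu : u ∈ K s) (u2 : u * u = 1) (u1 : u ≠ 1)
    (hc : c ∈ K s) (c2 : c * c = 1) (c1 : c ≠ 1) (h : Pr s (g * u * g⁻¹) a) (h' : Pr s (g⁻¹ * c * g) a') :
    ∃ ψ : centralizer ({a} : Set J) →* J, Function.Injective ψ ∧
      (∀ b : centralizer ({a} : Set J), Pr s (g⁻¹ * s.ι b * g) (ψ b)) ∧ ∀ b, Commute (ψ b) a' := by
  have hN : ∀ b : centralizer ({a} : Set J), g⁻¹ * s.ι b * g ∈ N s := fun b => cN hu u2 u1 (by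
    have c0 : Commute (b : J) a := mem_centralizer_singleton_iff.1 b.2
    have := (cK h b).mul_right (c0.map s.ι)
    rw [inv_mul_cancel_right] at this
    simpa [mul_assoc] using this.map (MulAut.conj g⁻¹))
  choose f hf using fun b => Pr.ex (hN b)
  let ψ : centralizer ({a} : Set J) →* J := MonoidHom.mk' f fun b b' => (hf (b * b')).uniq m (by
    simpa [mul_assoc] using (hf b).mul (hf b'))
  have cψ : ∀ b, Commute (ψ b) a' := fun b => (hf b).comm m h' (by
    simpa [mul_assoc] using (cK hc b).map (MulAut.conj g⁻¹))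
  refine ⟨ψ, m.jk (M := (cj g (K s)).comap s.ι) (h.sq m (by rw [conj_mul, u2]; group)) (h.ne hg hu u2 u1)
    (h'.sq m (by rw [show g⁻¹ * c * g * (g⁻¹ * c * g) = g⁻¹ * (c * c) * g by group, c2]; group))
    (Pr.ne (g := g⁻¹) (by rwa [inv_mem_iff]) hc c2 c1 (by rwa [inv_inv]))
    (fun e => s.std g⁻¹ fun b => ?_) (fun v hv v2 v1 b hb => ?_) ψ cψ fun b => ?_, hf, cψ⟩
  · rw [inv_inv]
    exact H42.mem_cj.1 (mem_comap.1 (e.ge (mem_top b)))
  · have c0 : Commute b v := mem_centralizer_singleton_iff.1 hb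
    have n : g⁻¹ * s.ι b * g ∈ N s := cN (H42.mem_cj.1 (mem_comap.1 hv))
      (by rw [show g⁻¹ * s.ι v * g * (g⁻¹ * s.ι v * g) = g⁻¹ * (s.ι v * s.ι v) * g by group, ← map_mul, v2]; simp)
      (fun e => v1 (s.inj (by simpa [mul_assoc, inv_mul_eq_one] using e)))
      (by simpa [mul_assoc] using (c0.map s.ι).map (MulAut.conj g⁻¹))
    refine H42.mem_normalizer_of_conj_mem fun x hx => mem_comap.2 (H42.mem_cj.2 ?_)
    simpa [mul_assoc] using conjK n (H42.mem_cj.1 (mem_comap.1 hx))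
  · rw [mem_comap, H42.mem_cj, ← Pr.one_iff]
    exact ⟨fun e => e ▸ hf b, fun e => (hf b).uniq m e⟩

/-- a conjugate of an involution of `K` does not lie in the standard subgroup -/
theorem not_mem {g u : G} {a : J} (hg : g ∉ N s) (hu : u ∈ K s) (u2 : u * u = 1) (u1 : u ≠ 1)
    (e : g * u * g⁻¹ = s.ι a) : False := by
  have h : Pr s (g * u * g⁻¹) a := by rw [Pr, e, mul_inv_cancel]; exact one_mem _
  obtain ⟨a', h'⟩ := Pr.ex (cN (x := g⁻¹ * u * g) hu u2 u1 (by
    simpa [mul_assoc] using (e ▸ cK hu a : Commute (g * u * g⁻¹) u).symm.map (MulAut.conj g⁻¹)))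
  obtain ⟨ψ, inj, hψ, -⟩ := pair m hg hu u2 u1 hu u2 u1 h h'
  have := (hψ ⟨a, mem_centralizer_singleton_iff.2 rfl⟩).uniq m (Pr.one_iff.2 (by
    show g⁻¹ * s.ι a * g ∈ K s
    rw [← e]
    simpa [mul_assoc] using hu))
  exact h.ne hg hu u2 u1 (congrArg Subtype.val (inj (this.trans (map_one ψ).symm)))

end RQ

open RQ in
theorem St.exists_cf (m : Md J) (s : St J G) : Nonempty (Cf J G) := by
  obtain ⟨g, u, hg, hu, u2, u1, hn⟩ := s.ex
  obtain ⟨t, ht, a, e⟩ := s.out _ hn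
  have h : Pr s (g * u * g⁻¹) a := by rwa [Pr, e, mul_inv_cancel_right]
  have k2 : g * u * g⁻¹ * (g * u * g⁻¹) = 1 := by rw [conj_mul, u2]; group
  have a2 := h.sq m k2
  have t2 : t * t = 1 := by
    rwa [e, (cK ht a).mul_mul_mul_comm, ← map_mul, a2, map_one, mul_one] at k2
  have t1 : t ≠ 1 := fun c => not_mem m hg hu u2 u1 (by rw [e, c, one_mul])
  have hN : ∀ r ∈ K s, Commute r t → g⁻¹ * r * g ∈ N s := fun r hr c => cN hu u2 u1 (by
    simpa [mul_assoc] using (e ▸ c.mul_right (cK hr a).symm : Commute r (g * u * g⁻¹)).map (MulAut.conj g⁻¹))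
  obtain ⟨a', h'⟩ := Pr.ex (hN t ht (Commute.refl t))
  have hg' : g⁻¹ ∉ N s := by rwa [inv_mem_iff]
  have a'2 := h'.sq m (by rw [show g⁻¹ * t * g * (g⁻¹ * t * g) = g⁻¹ * (t * t) * g by group, t2]; group)
  obtain ⟨ψ, inj, hψ, cψ⟩ := pair m hg hu u2 u1 ht t2 t1 h h'
  obtain ⟨ψ', inj', -, cψ'⟩ := pair m (a := a') (a' := a) hg' ht t2 t1 hu u2 u1 (by rwa [inv_inv]) (by rwa [inv_inv])
  have onto : ψ.range = centralizer {a'} := by
    refine eq_of_le_of_card_ge (by rintro _ ⟨b, rfl⟩; exact mem_centralizer_singleton_iff.2 (cψ b)) ?_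
    rw [← Nat.card_congr (MonoidHom.ofInjective inj).toEquiv, Nat.card_congr (MonoidHom.ofInjective inj').toEquiv]
    exact card_le_of_le (by rintro _ ⟨b, rfl⟩; exact mem_centralizer_singleton_iff.2 (cψ' b))
  have odd : ∀ w ∈ K s ⊓ centralizer {t} ⊓ cj g (K s), w * w = 1 → w = 1 := fun w hw w2 => by_contra fun w1 =>
    hg' (s.tight _ w hw.1.1 w2 w1 (by rw [inv_inv]; exact H42.mem_cj.1 hw.2))
  have key : ∀ r ∈ K s, Commute r t → r ∈ K s ⊓ centralizer {t} ⊓ cj g (K s) ∨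
      t * r ∈ K s ⊓ centralizer {t} ⊓ cj g (K s) := fun r hr c => by
    obtain ⟨d, hd⟩ := Pr.ex (hN r hr c)
    rcases cent_cent m.S (g := d) a'2 (Pr.ne hg' ht t2 t1 (by rwa [inv_inv])) (fun b hb => by
      obtain ⟨b, rfl⟩ := onto.ge (mem_centralizer_singleton_iff.2 hb)
      exact (hψ b).comm m hd (by simpa [mul_assoc] using (cK hr b).map (MulAut.conj g⁻¹))) with rfl | rfl
    · exact .inl ⟨⟨hr, mem_centralizer_singleton_iff.2 c⟩, H42.mem_cj.2 (Pr.one_iff.1 hd)⟩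
    · refine .inr ⟨⟨mul_mem ht hr, mem_centralizer_singleton_iff.2 ((Commute.refl t).mul_left c)⟩, H42.mem_cj.2 ?_⟩
      have := h'.mul hd
      rw [a'2, Pr.one_iff] at this
      simpa [mul_assoc] using this
  have two : ∀ w ∈ K s, Commute w t → w * w = 1 → w ≠ 1 → w = t := fun w hw c w2 w1 => by
    rcases key w hw c with k | k
    · exact absurd (odd w k w2) w1
    · have := odd _ k (by rw [c.mul_mul_mul_comm, t2, w2, one_mul])
      rw [eq_inv_of_mul_eq_one_right this, inv_eq_of_mul_eq_one_left t2]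
  refine ⟨⟨m, s.ι, s.X, K s ⊓ centralizer {t} ⊓ cj g (K s), t, s.inj, s.Xn, s.Xs, s.AX, t2, cK ht,
    fun o ho => odd_of odd ho, fun o ho => mem_centralizer_singleton_iff.1 ho.1.2, fun o ho => cK ho.1.1,
    fun x c => ?_, ⟨a, a2, h.ne hg hu u2 u1, IsConj.trans ?_ (isConj_iff.2 ⟨g, e⟩)⟩, fun b c => ?_⟩⟩
  · obtain ⟨r, hr, b, rfl⟩ := s.out x (cN ht t2 t1 c)
    have c' : Commute r t := by simpa using c.mul_left (cK ht b).inv_left
    rcases key r hr c' with k | k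
    · exact ⟨b, r, k, .inl (cK hr b).eq.symm⟩
    · refine ⟨b, _, k, .inr ?_⟩
      rw [← (cK ht b).eq, mul_assoc, ← mul_assoc t, t2, one_mul, (cK hr b).eq]
  · rcases dih u2 t2 with k | ⟨n, w1, w2, c1, c2⟩
    · exact k
    · rw [two _ (pow_mem (mul_mem hu ht) n) c1 w2 w1] at c2
      rw [two u hu c2.symm u2 u1]
  · obtain ⟨x, hx⟩ := isConj_iff.1 c
    by_cases xN : x ∈ N s
    · have : Pr s (s.ι b) b := by rw [Pr, mul_inv_cancel]; exact one_mem _
      rw [this.uniq m (Pr.one_iff.2 (hx ▸ conjK xN ht)), map_one] at hx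
      exact t1 (conj_eq_one_iff.1 hx)
    · exact not_mem m xN ht t2 t1 hx

end Cfsg.Agent.WJ
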