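import Cfsg.Agent.WJ.MJ
import Cfsg.Agent.WR.Gen

/-! Project WJ: basic facts on the configuration. -/

set_option autoImplicit false
set_option linter.unusedSectionVars false

namespace Cfsg.Agent.WJ

open Cfsg.Agent.SGJ4 Cfsg.Agent.J4P Cfsg.Agent.H14 AG Subgroup
open Cfsg.Agent.H42 (SylIn cj)

variable {J G : Type*} [Group J] [Group G]

namespace Cf

variable (c : Cf J G)

theorem θ_mul {a b : AG} (ha : a ∈ Ns) (hb : b ∈ Ns) : c.θ (a * b) = c.θ a * c.θ b := by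
  rw [θ, θ, θ, c.m.f_mul ha hb, map_mul]
theorem θ_one : c.θ 1 = 1 := by rw [θ, c.m.f_one, map_one]
theorem θ_inv {a : AG} (ha : a ∈ Ns) : c.θ a⁻¹ = (c.θ a)⁻¹ := by
  rw [θ, θ, c.m.f_inv ha, map_inv]
theorem θ_pow {a : AG} (ha : a ∈ Ns) (n : ℕ) : c.θ (a ^ n) = c.θ a ^ n := by
  rw [θ, θ, c.m.f_pow ha, map_pow]
theorem θ_conj {a b : AG} (ha : a ∈ Ns) (hb : b ∈ Ns) :
    c.θ (a * b * a⁻¹) = c.θ a * c.θ b * (c.θ a)⁻¹ := by
  rw [c.θ_mul (mul_mem ha hb) (inv_mem ha), c.θ_mul ha hb, c.θ_inv ha]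
theorem θ_inj {a b : AG} (ha : a ∈ Ns) (hb : b ∈ Ns) (h : c.θ a = c.θ b) : a = b :=
  c.m.f_inj ha hb (c.inj h)
theorem θt (a : AG) : Commute (c.θ a) c.t := c.tc _
theorem vt (x : Vb) : Commute (c.v x) c.t := c.tc _
theorem t_inv : c.t⁻¹ = c.t := inv_eq_of_mul_eq_one_right c.tt
theorem t_ne : c.t ≠ 1 := fun h => c.nfus 1 (by rw [h, map_one])
theorem v_zero : c.v 0 = 1 := by rw [v, tr_zero, c.θ_one]
theorem v_add {x y : Vb} (hx : x ∈ Ev) (hy : y ∈ Ev) : c.v (x + y) = c.v x * c.v y := by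
  rw [v, tr_add, c.θ_mul (tr_mem_Ns.2 hx) (tr_mem_Ns.2 hy)]; rfl
theorem v_sq {x : Vb} (hx : x ∈ Ev) : c.v x * c.v x = 1 := by
  rw [← c.v_add hx hx, Vb.add_self, c.v_zero]
theorem v_inv {x : Vb} (hx : x ∈ Ev) : (c.v x)⁻¹ = c.v x := inv_eq_of_mul_eq_one_right (c.v_sq hx)
theorem v_comm {x y : Vb} (hx : x ∈ Ev) (hy : y ∈ Ev) : Commute (c.v x) (c.v y) := by
  show _ = _
  rw [← c.v_add hx hy, ← c.v_add hy hx, add_comm]
theorem v_inj {x y : Vb} (hx : x ∈ Ev) (hy : y ∈ Ev) (h : c.v x = c.v y) : x = y :=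
  tr_inj.1 (c.θ_inj (tr_mem_Ns.2 hx) (tr_mem_Ns.2 hy) h)
theorem conj_v {a : AG} (ha : a ∈ Ns) {x : Vb} (hx : x ∈ Ev) :
    c.θ a * c.v x * (c.θ a)⁻¹ = c.v (a.m x) := by
  rw [v, v, ← c.θ_conj ha (tr_mem_Ns.2 hx), conj_tr]
theorem nmV_θ {a : AG} (ha : a ∈ Ns) : c.NmV (c.θ a) := fun _ hx =>
  ⟨_, (m_mem_Ev ha.1).2 hx, c.conj_v ha hx⟩
theorem ph_zero {g : G} : c.Ph g 0 ↔ Commute g c.t := by
  rw [Ph, c.v_zero, mul_one, mul_inv_eq_iff_eq_mul]; rfl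
theorem Ph.unique {g : G} {x y : Vb} (h : c.Ph g x) (h' : c.Ph g y) (hx : x ∈ Ev) (hy : y ∈ Ev) :
    x = y := c.v_inj hx hy (mul_left_cancel (Eq.trans (Eq.symm h) h'))
theorem Ph.mul {g h : G} {x y : Vb} (h1 : c.Ph g x) (h2 : c.Ph h y) (hg : c.CmV g) (hx : x ∈ Ev)
    (hy : y ∈ Ev) : c.Ph (g * h) (x + y) := by
  unfold Ph at *
  calc g * h * c.t * (g * h)⁻¹ = g * (h * c.t * h⁻¹) * g⁻¹ := by group
    _ = g * c.t * g⁻¹ * (g * c.v y * g⁻¹) := by rw [h2]; group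
    _ = c.t * c.v (x + y) := by
      rw [h1, (hg y hy).eq, mul_inv_cancel_right, c.v_add hx hy, mul_assoc]
theorem Ph.inv {g : G} {x : Vb} (h1 : c.Ph g x) (hg : c.CmV g) (hx : x ∈ Ev) : c.Ph g⁻¹ x := by
  unfold Ph at *
  have h2 : c.t = g * (c.t * c.v x) * g⁻¹ := by
    calc c.t = c.t * c.v x * c.v x := by rw [mul_assoc, c.v_sq hx, mul_one]
      _ = g * c.t * g⁻¹ * (g * c.v x * g⁻¹) := by rw [h1, (hg x hx).eq, mul_inv_cancel_right]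
      _ = _ := by group
  calc g⁻¹ * c.t * g⁻¹⁻¹ = g⁻¹ * (g * (c.t * c.v x) * g⁻¹) * g⁻¹⁻¹ := by rw [← h2]
    _ = _ := by group
theorem Ph.conj {g : G} {x : Vb} (h1 : c.Ph g x) {a : AG} (ha : a ∈ Ns) (hx : x ∈ Ev) :
    c.Ph (c.θ a * g * (c.θ a)⁻¹) (a.m x) := by
  unfold Ph at *
  have h2 : (c.θ a)⁻¹ * c.t * c.θ a = c.t := by
    rw [(c.θt a).inv_left.eq, inv_mul_cancel_right]
  calc c.θ a * g * (c.θ a)⁻¹ * c.t * (c.θ a * g * (c.θ a)⁻¹)⁻¹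
      = c.θ a * (g * ((c.θ a)⁻¹ * c.t * c.θ a) * g⁻¹) * (c.θ a)⁻¹ := by group
    _ = c.θ a * c.t * (c.θ a)⁻¹ * (c.θ a * c.v x * (c.θ a)⁻¹) := by rw [h2, h1]; group
    _ = _ := by rw [c.conj_v ha hx, (c.θt a).eq, mul_inv_cancel_right]
theorem Ph.comm {g h : G} {x : Vb} (h1 : c.Ph g x) (h2 : c.Ph h x) : Commute (g⁻¹ * h) c.t := by
  unfold Ph at *
  show _ = _
  calc g⁻¹ * h * c.t = g⁻¹ * (h * c.t * h⁻¹) * h := by group
    _ = g⁻¹ * (g * c.t * g⁻¹) * h := by rw [h1, h2]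
    _ = _ := by group

/-- the `J`-part of an element of the centraliser of `t` acts on `ι J` as the element -/
theorem conj_ι {g o : G} {a : J} (ho : o ∈ c.O) (h : g = c.ι a * o ∨ g = c.t * c.ι a * o) (b : J) :
    g * c.ι b * g⁻¹ = c.ι (a * b * a⁻¹) := by
  have h1 : c.ι a * o * c.ι b * (c.ι a * o)⁻¹ = c.ι (a * b * a⁻¹) := by
    rw [mul_assoc (c.ι a), ← (c.Oc o ho b).eq, map_mul, map_mul, map_inv]; group
  rcases h with rfl | rfl
  · exact h1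
  · calc c.t * c.ι a * o * c.ι b * (c.t * c.ι a * o)⁻¹
        = c.t * (c.ι a * o * c.ι b * (c.ι a * o)⁻¹) * c.t⁻¹ := by group
      _ = _ := by rw [h1, ← (c.tc _).eq, mul_inv_cancel_right]

theorem t_ne_ι (a : J) : c.t ≠ c.ι a := fun h => c.nfus a (h ▸ IsConj.refl _)

variable [Finite J] [Finite G]

theorem eq_one_aux {u o : G} {k : ℕ} (ho : o ∈ c.O) (hc : Commute u o) (h : (u * o) ^ 2 ^ k = 1)
    {b : J} (hb : u ^ 2 = c.ι b) : o = 1 := by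
  have h1 : c.ι (b ^ 2 ^ k) * o ^ 2 ^ (k + 1) = 1 := by
    rw [map_pow, ← hb, ← pow_mul, ← pow_succ', ← hc.mul_pow, pow_succ, pow_mul, h, one_pow]
  have h2 : b ^ 2 ^ k = 1 := c.m.cent fun a => by
    apply c.inj
    rw [map_mul, map_mul, eq_inv_of_mul_eq_one_left h1]
    exact ((c.Oc o ho a).pow_right _).inv_right.symm.eq
  rw [h2, map_one, one_mul] at h1
  exact WR.eq_one_of_odd (c.Oodd o ho) h1

/-- 2-elements of the centraliser of `t` -/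
theorem cen2 {g : G} {k : ℕ} (h : g ^ 2 ^ k = 1) (ht : Commute g c.t) :
    ∃ a, g = c.ι a ∨ g = c.t * c.ι a := by
  obtain ⟨a, o, ho, e | e⟩ := c.cen g ht
  · refine ⟨a, Or.inl ?_⟩
    rw [e, c.eq_one_aux ho (c.Oc o ho a) (e ▸ h) (map_pow c.ι a 2).symm, mul_one]
  · refine ⟨a, Or.inr ?_⟩
    rw [e, c.eq_one_aux ho ((c.Ot o ho).symm.mul_left (c.Oc o ho a)) (e ▸ h) (b := a ^ 2) (by
      rw [(c.tc a).symm.mul_pow, sq c.t, c.tt, one_mul, map_pow]), mul_one]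
theorem cenV {g : G} (ht : Commute g c.t) (h : c.CmV g) :
    ∃ x ∈ Ev, ∃ o ∈ c.O, g = c.v x * o ∨ g = c.t * c.v x * o := by
  obtain ⟨a, o, ho, e⟩ := c.cen g ht
  obtain ⟨x, hx, rfl⟩ := c.m.cV (g := a) fun x hx => by
    have h1 := c.conj_ι ho e (c.m.f (tr x))
    rw [show c.ι (c.m.f (tr x)) = c.v x from rfl, (h x hx).eq, mul_inv_cancel_right] at h1
    exact mul_inv_eq_iff_eq_mul.1 (c.inj h1).symm
  exact ⟨x, hx, o, ho, e⟩
theorem cenV2 {g : G} {k : ℕ} (h2 : g ^ 2 ^ k = 1) (ht : Commute g c.t) (h : c.CmV g) :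
    ∃ x ∈ Ev, g = c.v x ∨ g = c.t * c.v x := by
  obtain ⟨a, e⟩ := c.cen2 h2 ht
  obtain ⟨x, hx, rfl⟩ := c.m.cV (g := a) fun x hx => by
    have h1 := c.conj_ι (g := g) (a := a) c.O.one_mem (by simpa using e) (c.m.f (tr x))
    rw [show c.ι (c.m.f (tr x)) = c.v x from rfl, (h x hx).eq, mul_inv_cancel_right] at h1
    exact mul_inv_eq_iff_eq_mul.1 (c.inj h1).symm
  exact ⟨x, hx, e⟩
theorem cenN {g : G} (ht : Commute g c.t) (h : c.NmV g) :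
    ∃ a ∈ Ns, ∃ o ∈ c.O, g = c.θ a * o ∨ g = c.t * c.θ a * o := by
  obtain ⟨a, o, ho, e⟩ := c.cen g ht
  obtain ⟨b, hb, rfl⟩ := c.m.nV (g := a) fun x hx => by
    obtain ⟨y, hy, e'⟩ := h x hx
    exact ⟨y, hy, c.inj ((c.conj_ι ho e (c.m.f (tr x))).symm.trans e')⟩
  exact ⟨b, hb, o, ho, e⟩
theorem mem_O {g : G} (ht : Commute g c.t) (h : c.CmV g) (ho : Odd (orderOf g)) : g ∈ c.O := by
  obtain ⟨x, hx, o, ho', e⟩ := c.cenV ht h
  have h1 : g * g = o * o := by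
    have h2 : Commute (c.v x) o := c.Oc o ho' _
    rcases e with rfl | rfl
    · rw [← sq, h2.mul_pow, sq, sq, c.v_sq hx, one_mul]
    · rw [← sq, ((c.Ot o ho').symm.mul_left h2).mul_pow, (c.vt x).symm.mul_pow, sq, sq, sq, c.tt,
        c.v_sq hx, one_mul, one_mul]
  exact WR.mem_of_sq_mem ho (h1 ▸ mul_mem ho' ho')

/-- the `J`-parts of the elements of a subgroup of the centraliser of `t` -/
def pj (B : Subgroup G) : Subgroup J where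
  carrier := {a | c.ι a ∈ B ∨ c.t * c.ι a ∈ B}
  one_mem' := Or.inl (by rw [map_one]; exact B.one_mem)
  mul_mem' := by
    rintro a b (ha | ha) (hb | hb)
    · exact Or.inl (by rw [map_mul]; exact mul_mem ha hb)
    · exact Or.inr (by
        rw [map_mul, ← mul_assoc, ← (c.tc a).eq, mul_assoc]; exact mul_mem ha hb)
    · exact Or.inr (by rw [map_mul, ← mul_assoc]; exact mul_mem ha hb)
    · refine Or.inl ?_
      have := mul_mem ha hb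
      rwa [← mul_assoc, mul_assoc c.t, (c.tc a).eq, ← mul_assoc, c.tt, one_mul, ← map_mul] at this
  inv_mem' := by
    rintro a (ha | ha)
    · exact Or.inl (by rw [map_inv]; exact inv_mem ha)
    · refine Or.inr ?_
      have := inv_mem ha
      rwa [mul_inv_rev, c.t_inv, ← map_inv, (c.tc _).eq] at this

theorem pj_sq {B : Subgroup G} (h : ∀ b ∈ B, b * b = 1) : ∀ a ∈ c.pj B, a * a = 1 := by
  rintro a (ha | ha)
  · exact c.inj (by rw [map_mul, h _ ha, map_one])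
  · have := h _ ha
    rw [← sq, (c.tc a).symm.mul_pow, sq, c.tt, one_mul, ← map_pow, sq] at this
    exact c.inj (by rw [this, map_one])

theorem card_pj (B : Subgroup G) :
    {g | ∃ a ∈ c.pj B, g = c.ι a ∨ g = c.t * c.ι a}.ncard ≤ 2 * Nat.card (c.pj B) := by
  have h1 : {g | ∃ a ∈ c.pj B, g = c.ι a ∨ g = c.t * c.ι a} =
      (fun a => c.ι a) '' (c.pj B : Set J) ∪ (fun a => c.t * c.ι a) '' (c.pj B : Set J) := by
    ext g
    constructor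
    · rintro ⟨a, ha, e | e⟩
      · exact Or.inl ⟨a, ha, e.symm⟩
      · exact Or.inr ⟨a, ha, e.symm⟩
    · rintro (⟨a, ha, e⟩ | ⟨a, ha, e⟩)
      · exact ⟨a, ha, Or.inl e.symm⟩
      · exact ⟨a, ha, Or.inr e.symm⟩
  rw [h1, two_mul]
  exact (Set.ncard_union_le _ _).trans (add_le_add (Set.ncard_image_le (Set.toFinite _))
    (Set.ncard_image_le (Set.toFinite _)))

theorem sub_pj {B : Subgroup G} (h : ∀ b ∈ B, b * b = 1) (ht : ∀ b ∈ B, Commute b c.t) :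
    (B : Set G) ⊆ {g | ∃ a ∈ c.pj B, g = c.ι a ∨ g = c.t * c.ι a} := fun b hb => by
  obtain ⟨a, e | e⟩ := c.cen2 (k := 1) (by rw [pow_one, sq, h b hb]) (ht b hb)
  · exact ⟨a, Or.inl (e ▸ hb), Or.inl e⟩
  · exact ⟨a, Or.inr (e ▸ hb), Or.inr e⟩

theorem rank12 {B : Subgroup G} (h : ∀ b ∈ B, b * b = 1) (ht : ∀ b ∈ B, Commute b c.t) :
    Nat.card B ≤ 2 ^ 12 := by
  have h1 := (Set.ncard_le_ncard (c.sub_pj h ht) (Set.toFinite _)).trans (c.card_pj B)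
  have h2 := c.m.rank (c.pj_sq h)
  have h3 : (B : Set G).ncard = Nat.card B := rfl
  omega
theorem elem12 {B : Subgroup G} (h : ∀ b ∈ B, b * b = 1) (ht : ∀ b ∈ B, Commute b c.t)
    (hc : 2 ^ 12 ≤ Nat.card B) :
    ∃ k : J, ∀ b, b ∈ B ↔ ∃ x ∈ Ev, c.ι k * b * (c.ι k)⁻¹ = c.v x ∨
      c.ι k * b * (c.ι k)⁻¹ = c.t * c.v x := by
  have h0 := c.card_pj B
  have h1 := (Set.ncard_le_ncard (c.sub_pj h ht) (Set.toFinite _)).trans h0
  have h2 := c.m.rank (c.pj_sq h)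
  have h3 : (B : Set G).ncard = Nat.card B := rfl
  have h4 := Set.eq_of_subset_of_ncard_le (c.sub_pj h ht) (by omega) (Set.toFinite _)
  obtain ⟨k, hk⟩ := c.m.rank_eq (c.pj_sq h) (by omega)
  have h5 : ∀ a, c.ι k * (c.t * c.ι a) * (c.ι k)⁻¹ = c.t * c.ι (k * a * k⁻¹) := fun a => by
    rw [← mul_assoc, (c.tc k).eq, map_mul, map_mul, map_inv]; group
  refine ⟨k, fun b => ?_⟩
  rw [← SetLike.mem_coe, h4]
  constructor
  · rintro ⟨a, ha, e⟩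
    obtain ⟨x, hx, e'⟩ := (hk a).1 ha
    refine ⟨x, hx, e.imp ?_ ?_⟩ <;> rintro rfl
    · rw [← map_inv, ← map_mul, ← map_mul, e']; rfl
    · rw [h5, e']; rfl
  · rintro ⟨x, hx, e⟩
    refine ⟨k⁻¹ * c.m.f (tr x) * k, (hk _).2 ⟨x, hx, by group⟩, e.imp ?_ ?_⟩ <;> intro e'
    · rw [map_mul, map_mul, map_inv, show c.ι (c.m.f (tr x)) = c.v x from rfl, ← e']; group
    · have h6 := h5 (k⁻¹ * c.m.f (tr x) * k)
      rw [show k * (k⁻¹ * c.m.f (tr x) * k) * k⁻¹ = c.m.f (tr x) by group,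
        show c.ι (c.m.f (tr x)) = c.v x from rfl, ← e'] at h6
      exact (mul_left_cancel (mul_right_cancel h6)).symm
theorem Xp : ⁅c.X, c.X⁆ = c.X := by
  haveI := c.Xs
  haveI := c.Xn
  have h1 : ⁅c.X, c.X⁆ ≤ c.X := commutator_le_left _ _
  rcases (inferInstance : (⁅c.X, c.X⁆.subgroupOf c.X).Normal).eq_bot_or_eq_top with h | h
  · exfalso
    rw [subgroupOf_eq_bot, disjoint_iff, inf_eq_left.2 h1,
      commutator_eq_bot_iff_le_centralizer] at h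
    have h2 : c.m.f (tr zs) = 1 := c.m.cent fun a => c.inj (by
      rw [map_mul, map_mul]
      exact (h (c.AX _) _ (c.AX a)).symm)
    have h3 := c.m.f_inj zN_mem Ns.one_mem (h2.trans c.m.f_one.symm)
    rw [zN, tr_eq_one, ← Vb.val_inj] at h3
    exact absurd h3 (by decide)
  · exact le_antisymm h1 (subgroupOf_eq_top.1 h)

end Cf

end Cfsg.Agent.WJ
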