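import Cfsg.Agent.WJ.Base

/-! Project WJ: coordinates on `V* = V₁ × V₂`. -/

set_option autoImplicit false
set_option linter.unusedSectionVars false

namespace Cfsg.Agent.WJ

open Cfsg.Agent.SGJ4 Cfsg.Agent.J4P Cfsg.Agent.H14 AG Subgroup
open Cfsg.Agent.H42 (SylIn cj)

variable {J G : Type*} [Group J] [Group G]

namespace Sp

variable (c : Sp J G)

theorem R_inv {a : G} (ha : a ∈ c.R) : a⁻¹ = a := inv_eq_of_mul_eq_one_right (c.s1.sq a ha)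
theorem R_comm {a b : G} (ha : a ∈ c.R) (hb : b ∈ c.R) : Commute a b := by
  have h := c.R_inv (mul_mem ha hb)
  rw [mul_inv_rev, c.R_inv ha, c.R_inv hb] at h
  exact h.symm
theorem s_zero : c.s 0 = 1 := by
  have h := c.sec.add 0 Ev.zero_mem 0 Ev.zero_mem
  rw [add_zero] at h
  exact left_eq_mul.1 h
theorem tst {x : Vb} (hx : x ∈ Ev) : c.t * c.s x * c.t = c.s x * c.v x := by
  have h : c.s x * c.t * (c.s x)⁻¹ = c.t * c.v x := c.sec.φ x hx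
  have h1 := c.sec.mem x hx
  have h2 : c.s x * c.t = c.t * c.v x * c.s x := by rw [← h]; group
  rw [mul_assoc, h2, ← mul_assoc, ← mul_assoc, c.tt, one_mul]
  exact (c.R_comm (c.s1.vR x hx) h1).eq
theorem tst_mem {x : Vb} (hx : x ∈ Ev) : c.t * c.s x * c.t ∈ c.R := by
  rw [c.tst hx]; exact mul_mem (c.sec.mem x hx) (c.s1.vR x hx)
theorem P_mem {x y : Vb} (hx : x ∈ Ev) (hy : y ∈ Ev) : c.P x y ∈ c.R :=
  mul_mem (c.sec.mem x hx) (c.tst_mem hy)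
theorem P_eq {x y : Vb} (hx : x ∈ Ev) (hy : y ∈ Ev) : c.P x y = c.s (x + y) * c.v y := by
  rw [P, c.tst hy, c.sec.add x hx y hy, mul_assoc]
theorem exists_P {r : G} (h : r ∈ c.R) : ∃ x ∈ Ev, ∃ y ∈ Ev, r = c.P x y := by
  obtain ⟨x, hx, h1⟩ := c.s1.φ r h
  obtain ⟨y, hy, e⟩ := c.s1.ker _ (mul_mem (inv_mem (c.sec.mem x hx)) h)
    (Cf.Ph.comm _ (c.sec.φ x hx) h1)
  refine ⟨x + y, add_mem hx hy, y, hy, ?_⟩
  rw [c.P_eq (add_mem hx hy) hy, add_assoc, Vb.add_self, add_zero, ← e, mul_inv_cancel_left]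
theorem P_add {x y x' y' : Vb} (hx : x ∈ Ev) (hy : y ∈ Ev) (hx' : x' ∈ Ev) (hy' : y' ∈ Ev) :
    c.P (x + x') (y + y') = c.P x y * c.P x' y' := by
  have h1 : c.t * c.s (y + y') * c.t = c.t * c.s y * c.t * (c.t * c.s y' * c.t) := by
    rw [c.sec.add y hy y' hy']
    calc c.t * (c.s y * c.s y') * c.t = c.t * c.s y * (c.t * c.t) * c.s y' * c.t := by
          rw [c.tt]; group
      _ = _ := by group
  rw [P, P, P, h1, c.sec.add x hx x' hx', mul_assoc, mul_assoc (c.s x), ← mul_assoc (c.s x'),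
    (c.R_comm (c.sec.mem x' hx') (c.tst_mem hy)).eq, mul_assoc _ (c.s x')]
theorem cmV_R {r : G} (h : r ∈ c.R) : c.CmV r := fun x hx => c.R_comm h (c.s1.vR x hx)
theorem P_ph {x y : Vb} (hx : x ∈ Ev) (hy : y ∈ Ev) : c.Ph (c.P x y) (x + y) := by
  have h := Cf.Ph.mul _ (c.sec.φ _ (add_mem hx hy)) (c.ph_zero.2 (c.vt y))
    (c.cmV_R (c.sec.mem _ (add_mem hx hy))) (add_mem hx hy) Ev.zero_mem
  rwa [add_zero, ← c.P_eq hx hy] at h
theorem P_inj {x y x' y' : Vb} (hx : x ∈ Ev) (hy : y ∈ Ev) (hx' : x' ∈ Ev) (hy' : y' ∈ Ev)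
    (h : c.P x y = c.P x' y') : x = x' ∧ y = y' := by
  have h1 : x + y = x' + y' :=
    Cf.Ph.unique _ (c.P_ph hx hy) (h ▸ c.P_ph hx' hy') (add_mem hx hy) (add_mem hx' hy')
  rw [c.P_eq hx hy, c.P_eq hx' hy', h1] at h
  have h2 := c.v_inj hy hy' (mul_left_cancel h)
  rw [h2] at h1
  exact ⟨add_right_cancel h1, h2⟩
theorem P_left (x : Vb) : c.P x 0 = c.s x := by rw [P, c.s_zero, mul_one, c.tt, mul_one]
theorem P_zero : c.P 0 0 = 1 := by rw [c.P_left, c.s_zero]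
theorem P_right (y : Vb) : c.P 0 y = c.t * c.s y * c.t := by rw [P, c.s_zero, one_mul]
theorem P_diag {x : Vb} (hx : x ∈ Ev) : c.P x x = c.v x := by
  rw [c.P_eq hx hx, Vb.add_self, c.s_zero, one_mul]
theorem act_t : c.Act c.t fun x y => (y, x) := fun x hx y hy => ⟨hy, hx, by
  show _ = c.P y x
  rw [c.t_inv, P, P, (c.R_comm (c.sec.mem y hy) (c.tst_mem hx)).eq]
  calc c.t * (c.s x * (c.t * c.s y * c.t)) * c.t = c.t * c.s x * c.t * c.s y * (c.t * c.t) := by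
        group
    _ = _ := by rw [c.tt, mul_one]⟩
theorem act_θ {a : AG} (ha : a ∈ Ns) : c.Act (c.θ a) fun x y => (a.m x, a.m y) :=
  fun x hx y hy => ⟨(m_mem_Ev ha.1).2 hx, (m_mem_Ev ha.1).2 hy, by
    show _ = c.P (a.m x) (a.m y)
    rw [c.P_eq hx hy, c.P_eq ((m_mem_Ev ha.1).2 hx) ((m_mem_Ev ha.1).2 hy), ← map_add,
      ← c.sec.eqv a ha _ (add_mem hx hy), ← c.conj_v ha hy]
    group⟩
theorem Act.mul {g h : G} {F F' : Vb → Vb → Vb × Vb} (h1 : c.Act g F) (h2 : c.Act h F') :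
    c.Act (g * h) fun x y => F (F' x y).1 (F' x y).2 := fun x hx y hy => by
  obtain ⟨a1, a2, a3⟩ := h2 x hx y hy
  obtain ⟨b1, b2, b3⟩ := h1 _ a1 _ a2
  exact ⟨b1, b2, by rw [← b3, ← a3]; group⟩
theorem Act.congr {g : G} {F F' : Vb → Vb → Vb × Vb} (h1 : c.Act g F)
    (h : ∀ x ∈ Ev, ∀ y ∈ Ev, F x y = F' x y) : c.Act g F' := fun x hx y hy =>
  h x hx y hy ▸ h1 x hx y hy
theorem Act.unique {g : G} {F F' : Vb → Vb → Vb × Vb} (h1 : c.Act g F) (h2 : c.Act g F') :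
    ∀ x ∈ Ev, ∀ y ∈ Ev, F x y = F' x y := fun x hx y hy => by
  obtain ⟨a1, a2, a3⟩ := h1 x hx y hy
  obtain ⟨b1, b2, b3⟩ := h2 x hx y hy
  obtain ⟨e1, e2⟩ := c.P_inj a1 a2 b1 b2 (a3.symm.trans b3)
  exact Prod.ext e1 e2
theorem Act.add {g : G} {F : Vb → Vb → Vb × Vb} (h : c.Act g F) {x y x' y' : Vb} (hx : x ∈ Ev)
    (hy : y ∈ Ev) (hx' : x' ∈ Ev) (hy' : y' ∈ Ev) : F (x + x') (y + y') = F x y + F x' y' := by
  obtain ⟨a1, a2, a3⟩ := h x hx y hy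
  obtain ⟨b1, b2, b3⟩ := h x' hx' y' hy'
  obtain ⟨d1, d2, d3⟩ := h _ (add_mem hx hx') _ (add_mem hy hy')
  obtain ⟨e1, e2⟩ := c.P_inj d1 d2 (add_mem a1 b1) (add_mem a2 b2) (by
    rw [← d3, c.P_add a1 a2 b1 b2, ← a3, ← b3, c.P_add hx hy hx' hy']; group)
  exact Prod.ext e1 e2
theorem Act.nv {g : G} {F : Vb → Vb → Vb × Vb} (h : c.Act g F) : c.NV g := fun r hr => by
  obtain ⟨x, hx, y, hy, rfl⟩ := c.exists_P hr
  obtain ⟨a1, a2, a3⟩ := h x hx y hy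
  exact a3 ▸ c.P_mem a1 a2
theorem NV.exists_act {g : G} (h : c.NV g) : ∃ F, c.Act g F := by
  have h1 : ∀ x y : Vb, ∃ p : Vb × Vb, x ∈ Ev → y ∈ Ev →
      p.1 ∈ Ev ∧ p.2 ∈ Ev ∧ g * c.P x y * g⁻¹ = c.P p.1 p.2 := fun x y => by
    by_cases hxy : x ∈ Ev ∧ y ∈ Ev
    · obtain ⟨u, hu, w, hw, e⟩ := c.exists_P (h _ (c.P_mem hxy.1 hxy.2))
      exact ⟨(u, w), fun _ _ => ⟨hu, hw, e⟩⟩
    · exact ⟨0, fun hx hy => absurd ⟨hx, hy⟩ hxy⟩
  choose F hF using h1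
  exact ⟨F, fun x hx y hy => hF x y hx hy⟩
theorem cv_iff {g : G} : c.CV g ↔ c.Act g fun x y => (x, y) :=
  ⟨fun h x hx y hy => ⟨hx, hy, by rw [(h _ (c.P_mem hx hy)).eq, mul_inv_cancel_right]⟩,
    fun h r hr => by
      obtain ⟨x, hx, y, hy, rfl⟩ := c.exists_P hr
      exact mul_inv_eq_iff_eq_mul.1 (h x hx y hy).2.2⟩
theorem Act.cv {g h : G} {F : Vb → Vb → Vb × Vb} (h1 : c.Act g F) (h2 : c.Act h F) :
    c.CV (g⁻¹ * h) := fun r hr => by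
  obtain ⟨x, hx, y, hy, rfl⟩ := c.exists_P hr
  have e := (h1 x hx y hy).2.2.trans (h2 x hx y hy).2.2.symm
  show _ = _
  calc g⁻¹ * h * c.P x y = g⁻¹ * (h * c.P x y * h⁻¹) * h := by group
    _ = _ := by rw [← e]; group
theorem Act.of_cv {g h : G} {F : Vb → Vb → Vb × Vb} (h1 : c.Act g F) (h2 : c.CV (g⁻¹ * h)) :
    c.Act h F := by
  have h3 := Act.mul c h1 (c.cv_iff.1 h2)
  rwa [mul_inv_cancel_left] at h3
theorem cv_iff_mem {g : G} : c.CV g ↔ g ∈ centralizer (c.R : Set G) :=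
  ⟨fun h r hr => (h r hr).symm.eq, fun h r hr => (h r hr).symm⟩
theorem cv_O {o : G} (h : o ∈ c.O) : c.CV o := fun r hr => (c.s1.cO r hr o h).symm
theorem ncard_P {A B : Set Vb} (hA : A ⊆ Ev) (hB : B ⊆ Ev) :
    ((fun p : Vb × Vb => c.P p.1 p.2) '' (A ×ˢ B)).ncard = A.ncard * B.ncard := by
  rw [Set.InjOn.ncard_image, Set.ncard_prod]
  intro p hp q hq e
  obtain ⟨e1, e2⟩ := c.P_inj (hA hp.1) (hB hp.2) (hA hq.1) (hB hq.2) e
  exact Prod.ext e1 e2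
theorem card_R : Nat.card c.R = 2 ^ 22 := by
  have h1 : (c.R : Set G) = (fun p : Vb × Vb => c.P p.1 p.2) '' ((Ev : Set Vb) ×ˢ (Ev : Set Vb)) := by
    ext r
    constructor
    · intro hr
      obtain ⟨x, hx, y, hy, e⟩ := c.exists_P hr
      exact ⟨(x, y), ⟨hx, hy⟩, e.symm⟩
    · rintro ⟨p, hp, rfl⟩
      exact c.P_mem hp.1 hp.2
  have h2 : (Ev : Set Vb).ncard = 2048 := card_Ev
  show (c.R : Set G).ncard = _
  rw [h1, c.ncard_P subset_rfl subset_rfl, h2]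
  norm_num
/-- number of elements of `V*` that commute with all members of a set acting coordinatewise -/
theorem ncard_fix {ι' : Type*} (g : ι' → G) (a b : ι' → AG)
    (h : ∀ i, c.Act (g i) fun x y => ((a i).m x, (b i).m y)) :
    {r | r ∈ c.R ∧ ∀ i, Commute (g i) r}.ncard =
      (Fx (Set.range a)).ncard * (Fx (Set.range b)).ncard := by
  rw [← c.ncard_P (fun _ h => h.1) (fun _ h => h.1)]
  congr 1
  ext r
  constructor
  · rintro ⟨hr, hc⟩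
    obtain ⟨x, hx, y, hy, rfl⟩ := c.exists_P hr
    have h1 : ∀ i, (a i).m x = x ∧ (b i).m y = y := fun i => by
      obtain ⟨a1, a2, a3⟩ := h i x hx y hy
      rw [(hc i).eq, mul_inv_cancel_right] at a3
      exact c.P_inj a1 a2 hx hy a3.symm
    exact ⟨(x, y), ⟨⟨hx, by rintro _ ⟨i, rfl⟩; exact (h1 i).1⟩,
      ⟨hy, by rintro _ ⟨i, rfl⟩; exact (h1 i).2⟩⟩, rfl⟩
  · rintro ⟨⟨x, y⟩, ⟨⟨hx, h1⟩, ⟨hy, h2⟩⟩, rfl⟩
    refine ⟨c.P_mem hx hy, fun i => ?_⟩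
    have a3 := (h i x hx y hy).2.2
    simp only [h1 _ ⟨i, rfl⟩, h2 _ ⟨i, rfl⟩] at a3
    exact mul_inv_eq_iff_eq_mul.1 a3

variable [Finite J] [Finite G]

theorem nv_iff_mem {g : G} : c.NV g ↔ g ∈ normalizer (c.R : Set G) :=
  ⟨fun h => H42.mem_normalizer_of_conj_mem h, fun h _ hr => H42.conj_mem_of_mem_normalizer h hr⟩
theorem ncard_fix_conj {ι' : Type*} (g : ι' → G) {n : G} (hn : c.NV n) :
    {r | r ∈ c.R ∧ ∀ i, Commute (n⁻¹ * g i * n) r}.ncard =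
      {r | r ∈ c.R ∧ ∀ i, Commute (g i) r}.ncard := by
  have hn' : c.NV n⁻¹ := c.nv_iff_mem.2 (inv_mem (c.nv_iff_mem.1 hn))
  rw [← Set.ncard_image_of_injective _ (MulAut.conj n).injective]
  congr 1
  ext r
  constructor
  · rintro ⟨u, ⟨hu, hc⟩, rfl⟩
    refine ⟨hn u hu, fun i => ?_⟩
    show g i * (n * u * n⁻¹) = n * u * n⁻¹ * g i
    calc g i * (n * u * n⁻¹) = n * (n⁻¹ * g i * n * u) * n⁻¹ := by group
      _ = _ := by rw [(hc i).eq]; group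
  · rintro ⟨hr, hc⟩
    refine ⟨n⁻¹ * r * n⁻¹⁻¹, ⟨hn' r hr, fun i => ?_⟩, by simp [mul_assoc]⟩
    show _ = _
    calc n⁻¹ * g i * n * (n⁻¹ * r * n⁻¹⁻¹) = n⁻¹ * (g i * r) * n := by group
      _ = _ := by rw [(hc i).eq]; group
theorem not_conj {g : G} (h : c.CV g) : ¬ IsConj c.t g := fun hc => by
  obtain ⟨k, rfl⟩ := isConj_iff.1 hc
  have h1 := c.rank12 (B := cj k⁻¹ c.R) (fun b hb => by
    have := c.s1.sq _ (H42.mem_cj.1 hb)
    rw [← back_mul, back_eq] at this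
    rw [this]; group) (fun b hb => by
    have := (h _ (H42.mem_cj.1 hb)).eq
    show _ = _
    calc b * c.t = k⁻¹ * (k⁻¹⁻¹ * b * k⁻¹ * (k * c.t * k⁻¹)) * k := by group
      _ = _ := by rw [← this]; group)
  rw [H42.card_cj, c.card_R] at h1
  exact absurd h1 (by norm_num)
theorem nmV_of_nv {g : G} (h : c.NV g) (ht : Commute g c.t) : c.NmV g := fun x hx =>
  c.s1.ker _ (h _ (c.s1.vR x hx)) ((ht.mul_left (c.vt x)).mul_left ht.inv_left)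
/-- involutions of the centraliser of `t` that are not conjugate to `t` -/
theorem exists_ι {g : G} (h2 : g * g = 1) (ht : Commute g c.t) (h : ¬ IsConj c.t g) :
    ∃ a, g = c.ι a := by
  obtain ⟨a, e | e⟩ := c.cen2 (k := 1) (by rw [pow_one, sq, h2]) ht
  · exact ⟨a, e⟩
  · refine absurd (e ▸ c.all a ?_) h
    rw [e, ← sq, (c.tc a).symm.mul_pow, sq, c.tt, one_mul, ← map_pow, sq] at h2
    exact c.inj (by rw [h2, map_one])

end Sp

end Cfsg.Agent.WJ
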