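import Cfsg.Agent.WJ.Cen

/-! Project WJ: the frame `N × N`. -/

set_option autoImplicit false
set_option linter.unusedSectionVars false

namespace Cfsg.Agent.WJ

open Cfsg.Agent.SGJ4 Cfsg.Agent.J4P Cfsg.Agent.H14 AG Subgroup
open Cfsg.Agent.H42 (SylIn cj)

variable {J G : Type*} [Group J] [Group G]

namespace Fr

variable (c : Fr J G)

theorem tconj_mul (a b : G) : c.t * (a * b) * c.t = c.t * a * c.t * (c.t * b * c.t) := by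
  calc c.t * (a * b) * c.t = c.t * a * (c.t * c.t) * b * c.t := by rw [c.tt]; group
    _ = _ := by group
theorem tconj_tconj (a : G) : c.t * (c.t * a * c.t) * c.t = a := by
  calc c.t * (c.t * a * c.t) * c.t = c.t * c.t * a * (c.t * c.t) := by group
    _ = _ := by rw [c.tt]; group
theorem tconj_inv (a : G) : (c.t * a * c.t)⁻¹ = c.t * a⁻¹ * c.t := by
  rw [mul_inv_rev, mul_inv_rev, c.t_inv, mul_assoc]
theorem tconj_comm {a b : G} (h : Commute a b) : Commute (c.t * a * c.t) (c.t * b * c.t) := by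
  show _ = _
  rw [← c.tconj_mul, ← c.tconj_mul, h.eq]
theorem tconj_mem {a : G} (h : a ∈ c.X) : c.t * a * c.t ∈ c.X := by
  have := c.Xn.conj_mem a h c.t
  rwa [c.t_inv] at this

theorem l_mul {a b : AG} (ha : a ∈ Ns) (hb : b ∈ Ns) : c.l (a * b) = c.l a * c.l b := ex_mul ha hb
theorem l'_mul {a b : AG} (ha : a ∈ Ns) (hb : b ∈ Ns) : c.l' (a * b) = c.l' a * c.l' b := by
  rw [l', ex_mul ha hb, c.tconj_mul]; rfl
theorem l_one : c.l 1 = 1 := ex_one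
theorem l'_one : c.l' 1 = 1 := by rw [l', ex_one, mul_one, c.tt]
theorem l_inv {a : AG} (ha : a ∈ Ns) : c.l a⁻¹ = (c.l a)⁻¹ := ex_inv ha
theorem l'_inv {a : AG} (ha : a ∈ Ns) : c.l' a⁻¹ = (c.l' a)⁻¹ := by
  rw [l', l', ex_inv ha, c.tconj_inv]
theorem tlt (a : AG) : c.t * c.l a * c.t = c.l' a := rfl
theorem tl't (a : AG) : c.t * c.l' a * c.t = c.l a := c.tconj_tconj _
theorem ll' (a b : AG) : Commute (c.l a) (c.l' b) := c.hf.comm a b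
theorem κ_mul {a b a' b' : AG} (ha : a ∈ Ns) (hb : b ∈ Ns) (ha' : a' ∈ Ns) (hb' : b' ∈ Ns) :
    c.κ (a * a') (b * b') = c.κ a b * c.κ a' b' := by
  rw [κ, κ, κ, c.l_mul ha ha', c.l'_mul hb hb', mul_assoc, mul_assoc (c.l a), ← mul_assoc (c.l a'),
    (c.ll' a' b).eq, mul_assoc _ (c.l a')]
theorem κ_inv {a b : AG} (ha : a ∈ Ns) (hb : b ∈ Ns) : c.κ a⁻¹ b⁻¹ = (c.κ a b)⁻¹ := by
  rw [κ, κ, (c.ll' a b).eq, mul_inv_rev, c.l_inv ha, c.l'_inv hb]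
theorem κ_left (a : AG) : c.κ a 1 = c.l a := by rw [κ, c.l'_one, mul_one]
theorem κ_right (b : AG) : c.κ 1 b = c.l' b := by rw [κ, c.l_one, one_mul]
theorem κ_one : c.κ 1 1 = 1 := by rw [c.κ_left, c.l_one]
theorem κ_pow {a b : AG} (ha : a ∈ Ns) (hb : b ∈ Ns) (n : ℕ) :
    c.κ (a ^ n) (b ^ n) = c.κ a b ^ n := by
  induction n with
  | zero => rw [pow_zero, pow_zero, pow_zero, c.κ_one]
  | succ n ih => rw [pow_succ, pow_succ, pow_succ, c.κ_mul (pow_mem ha n) (pow_mem hb n) ha hb, ih]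
theorem κ_diag {a : AG} (ha : a ∈ Ns) : c.κ a a = c.θ a := c.hf.diag a ha
theorem tκt (a b : AG) : c.t * c.κ a b * c.t = c.κ b a := by
  rw [κ, c.tconj_mul, c.tlt, c.tl't, κ, (c.ll' b a).eq]
theorem κ_conj {a b a' b' : AG} (ha : a ∈ Ns) (hb : b ∈ Ns) (ha' : a' ∈ Ns) (hb' : b' ∈ Ns) :
    c.κ (a * a' * a⁻¹) (b * b' * b⁻¹) = c.κ a b * c.κ a' b' * (c.κ a b)⁻¹ := by
  rw [c.κ_mul (mul_mem ha ha') (mul_mem hb hb') (inv_mem ha) (inv_mem hb), c.κ_mul ha hb ha' hb',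
    c.κ_inv ha hb]
theorem l_inj {a b : AG} (ha : a ∈ Ns) (hb : b ∈ Ns) (h : c.l a = c.l b) : a = b :=
  c.θ_inj ha hb (by rw [← c.κ_diag ha, ← c.κ_diag hb, κ, κ, ← c.tlt, ← c.tlt, h])
theorem l'_inj {a b : AG} (ha : a ∈ Ns) (hb : b ∈ Ns) (h : c.l' a = c.l' b) : a = b :=
  c.l_inj ha hb (by rw [← c.tl't, ← c.tl't, h])
theorem κ_inj {a b a' b' : AG} (ha : a ∈ Ns) (hb : b ∈ Ns) (ha' : a' ∈ Ns) (hb' : b' ∈ Ns)
    (h : c.κ a b = c.κ a' b') : a = a' ∧ b = b' := by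
  have hu : a'⁻¹ * a ∈ Ns := mul_mem (inv_mem ha') ha
  have h1 : c.l (a'⁻¹ * a) = c.l' (b' * b⁻¹) := by
    rw [c.l_mul (inv_mem ha') ha, c.l'_mul hb' (inv_mem hb), c.l_inv ha', c.l'_inv hb]
    calc (c.l a')⁻¹ * c.l a = (c.l a')⁻¹ * c.κ a b * (c.l' b)⁻¹ := by rw [κ]; group
      _ = _ := by rw [h, κ]; group
  have h2 : a'⁻¹ * a = 1 := eq_one_of_cent_Ns hu fun d hd =>
    c.l_inj (mul_mem hu hd) (mul_mem hd hu) (by
      rw [c.l_mul hu hd, c.l_mul hd hu, h1, (c.ll' d _).eq])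
  have h3 := (inv_mul_eq_one.1 h2).symm
  subst h3
  exact ⟨rfl, c.l'_inj hb hb' (mul_left_cancel h)⟩
theorem l_tr {x : Vb} (hx : x ∈ Ev) : c.l (tr x) = c.s x := c.hf.tr x hx
theorem κ_tr {x y : Vb} (hx : x ∈ Ev) (hy : y ∈ Ev) : c.κ (tr x) (tr y) = c.P x y := by
  rw [κ, ← c.tlt, c.l_tr hx, c.l_tr hy]; rfl
theorem act_κ {a b : AG} (ha : a ∈ Ns) (hb : b ∈ Ns) :
    c.Act (c.κ a b) fun x y => (a.m x, b.m y) := fun x hx y hy =>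
  ⟨(m_mem_Ev ha.1).2 hx, (m_mem_Ev hb.1).2 hy, by
    show _ = c.P (a.m x) (b.m y)
    rw [← c.κ_tr hx hy, ← c.κ_conj ha hb (tr_mem_Ns.2 hx) (tr_mem_Ns.2 hy), conj_tr, conj_tr,
      c.κ_tr ((m_mem_Ev ha.1).2 hx) ((m_mem_Ev hb.1).2 hy)]⟩
theorem θ_l {a b : AG} (ha : a ∈ Ns) (hb : b ∈ Ns) :
    c.θ a * c.l b * (c.θ a)⁻¹ = c.l (a * b * a⁻¹) := by
  rw [← c.κ_diag ha, ← c.κ_left b, ← c.κ_conj ha ha hb Ns.one_mem, mul_one, mul_inv_cancel,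
    c.κ_left]
theorem l_mem (a : AG) : c.l a ∈ c.X := by
  by_cases ha : a ∈ Ns
  · have h1 : (⊤ : Subgroup Ns) ≤ c.X.comap c.lam := by
      rw [← perfect_Ns, commutator_le]
      intro u _ w _
      have h2 : c.l u * c.θ w * (c.l u)⁻¹ * (c.θ w)⁻¹ ∈ c.X :=
        mul_mem (c.Xn.conj_mem _ (c.AX _) _) (inv_mem (c.AX _))
      rw [mul_assoc (c.l u), mul_assoc (c.l u), ← c.l_inv u.2, c.θ_l w.2 (inv_mem u.2),
        ← c.l_mul u.2 (mul_mem (mul_mem w.2 (inv_mem u.2)) (inv_mem w.2)), ← mul_assoc,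
        ← mul_assoc] at h2
      rw [mem_comap, ← ex_coe]
      exact h2
    rw [l, ex_eq ha]
    exact h1 (mem_top _)
  · rw [l, ex, dif_neg ha]; exact one_mem _
theorem l'_mem (a : AG) : c.l' a ∈ c.X := c.tconj_mem (c.l_mem a)
theorem κ_mem (a b : AG) : c.κ a b ∈ c.X := mul_mem (c.l_mem a) (c.l'_mem b)
theorem κ_O (a b : AG) {o : G} (h : o ∈ c.O) : Commute (c.κ a b) o :=
  (c.hf.cO a o h).mul_left (((c.Ot o h).symm.mul_left (c.hf.cO b o h)).mul_left (c.Ot o h).symm)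
/-- `x t x⁻¹ = p t` for the first component `x` of an involution `p` -/
theorem l_t {p : AG} (hp : p ∈ Ns) (h : p * p = 1) : c.l p * c.t * (c.l p)⁻¹ = c.θ p * c.t := by
  rw [← c.l_inv hp, inv_eq_of_mul_eq_one_right h, ← c.κ_diag hp, κ, ← c.tlt, mul_assoc (c.l p),
    mul_assoc (c.l p), mul_assoc _ c.t c.t, c.tt, mul_one]

/-- the second factor version of `Fu` -/
theorem Fu.symm (h : c.Fu) : ∀ a ∈ Ns, a * a = 1 → ∃ g ∈ c.X, (∀ b, Commute g (c.l b)) ∧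
    ∃ x ∈ Ev, g * c.l' a * g⁻¹ = c.P 0 x := fun a ha h2 => by
  obtain ⟨g, hg, h1, x, hx, e⟩ := h a ha h2
  refine ⟨c.t * g * c.t, c.tconj_mem hg, fun b => c.tl't b ▸ c.tconj_comm (h1 b), x, hx, ?_⟩
  rw [c.P_right, ← e, c.tconj_mul, c.tconj_mul, c.tlt, c.tconj_inv]

/-- involutions of `N × N` fuse into `V*` -/
theorem Fu.pair (h : c.Fu) {a b : AG} (ha : a ∈ Ns) (hb : b ∈ Ns) (h1 : a * a = 1) (h2 : b * b = 1) :
    ∃ g ∈ c.X, ∃ x ∈ Ev, ∃ y ∈ Ev, g * c.κ a b * g⁻¹ = c.P x y ∧ (x = 0 ↔ a = 1) ∧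
      (y = 0 ↔ b = 1) := by
  obtain ⟨g, hg, g1, x, hx, e⟩ := h a ha h1
  obtain ⟨k, hk, k1, y, hy, e'⟩ := Fu.symm c h b hb h2
  refine ⟨k * g, mul_mem hk hg, x, hx, y, hy, ?_, ⟨fun e0 => ?_, fun e0 => ?_⟩, fun e0 => ?_,
    fun e0 => ?_⟩
  · calc k * g * c.κ a b * (k * g)⁻¹ = k * (g * c.l a * g⁻¹ * (g * c.l' b * g⁻¹)) * k⁻¹ := by
          rw [κ]; group
      _ = k * c.l (tr x) * k⁻¹ * (k * c.l' b * k⁻¹) := by
          rw [e, (g1 b).eq, mul_inv_cancel_right, c.l_tr hx]; group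
      _ = _ := by rw [e', (k1 _).eq, mul_inv_cancel_right, c.l_tr hx, c.P_right]; rfl
  · rw [e0, c.s_zero, conj_eq_one_iff] at e
    exact c.l_inj ha Ns.one_mem (e.trans c.l_one.symm)
  · rw [e0, c.l_one, mul_one, mul_inv_cancel, ← c.P_left, ← c.P_zero] at e
    exact (c.P_inj hx Ev.zero_mem Ev.zero_mem Ev.zero_mem e.symm).1
  · rw [e0, c.P_zero, conj_eq_one_iff] at e'
    exact c.l'_inj hb Ns.one_mem (e'.trans c.l'_one.symm)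
  · rw [e0, c.l'_one, mul_one, mul_inv_cancel, ← c.P_zero] at e'
    exact (c.P_inj Ev.zero_mem hy Ev.zero_mem Ev.zero_mem e'.symm).2

/-- first projection of a subgroup of `T × T` -/
def pj1 {T : Subgroup AG} (hT : T ≤ Ns) (B : Subgroup G) : Subgroup AG where
  carrier := {a | a ∈ T ∧ ∃ b ∈ T, c.κ a b ∈ B}
  one_mem' := ⟨T.one_mem, 1, T.one_mem, by rw [c.κ_one]; exact B.one_mem⟩
  mul_mem' := fun ⟨ha, b, hb, h⟩ ⟨ha', b', hb', h'⟩ => ⟨mul_mem ha ha', b * b', mul_mem hb hb', by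
    rw [c.κ_mul (hT ha) (hT hb) (hT ha') (hT hb')]; exact mul_mem h h'⟩
  inv_mem' := fun ⟨ha, b, hb, h⟩ => ⟨inv_mem ha, b⁻¹, inv_mem hb, by
    rw [c.κ_inv (hT ha) (hT hb)]; exact inv_mem h⟩

/-- second projection of a subgroup of `T × T` -/
def pj2 {T : Subgroup AG} (hT : T ≤ Ns) (B : Subgroup G) : Subgroup AG where
  carrier := {b | b ∈ T ∧ ∃ a ∈ T, c.κ a b ∈ B}
  one_mem' := ⟨T.one_mem, 1, T.one_mem, by rw [c.κ_one]; exact B.one_mem⟩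
  mul_mem' := fun ⟨ha, b, hb, h⟩ ⟨ha', b', hb', h'⟩ => ⟨mul_mem ha ha', b * b', mul_mem hb hb', by
    rw [c.κ_mul (hT hb) (hT ha) (hT hb') (hT ha')]; exact mul_mem h h'⟩
  inv_mem' := fun ⟨ha, b, hb, h⟩ => ⟨inv_mem ha, b⁻¹, inv_mem hb, by
    rw [c.κ_inv (hT hb) (hT ha)]; exact inv_mem h⟩

theorem sq_of_κ {a b : AG} (ha : a ∈ Ns) (hb : b ∈ Ns) (h : c.κ a b * c.κ a b = 1) :
    a * a = 1 ∧ b * b = 1 :=
  c.κ_inj (mul_mem ha ha) (mul_mem hb hb) Ns.one_mem Ns.one_mem (by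
    rw [c.κ_mul ha hb ha hb, h, c.κ_one])

variable [Finite J] [Finite G]

/-- `V*` is the only elementary abelian subgroup of order `2²²` of `T × T` -/
theorem Sy.uniq {T : Subgroup AG} {S B : Subgroup G} (h : c.Sy T S) (hB : B ≤ S)
    (h2 : ∀ b ∈ B, b * b = 1) (hc : 2 ^ 22 ≤ Nat.card B) : B = c.R := by
  have hT : T ≤ Ns := h.ts.syl.le
  obtain ⟨a1, a2⟩ := c.m.uniq h.ts (B := c.pj1 hT B) (fun _ ha => ha.1) fun a ⟨ha, b, hb, e⟩ =>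
    (c.sq_of_κ (hT ha) (hT hb) (h2 _ e)).1
  obtain ⟨b1, b2⟩ := c.m.uniq h.ts (B := c.pj2 hT B) (fun _ ha => ha.1) fun b ⟨hb, a, ha, e⟩ =>
    (c.sq_of_κ (hT ha) (hT hb) (h2 _ e)).2
  have h3 : (B : Set G) ⊆ (fun p : AG × AG => c.κ p.1 p.2) ''
      ((c.pj1 hT B : Set AG) ×ˢ (c.pj2 hT B : Set AG)) := fun g hg => by
    obtain ⟨a, ha, b, hb, rfl⟩ := (h.mem g).1 (hB hg)
    exact ⟨(a, b), ⟨⟨ha, b, hb, hg⟩, ⟨hb, a, ha, hg⟩⟩, rfl⟩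
  have h4 : Nat.card B ≤ Nat.card (c.pj1 hT B) * Nat.card (c.pj2 hT B) :=
    (Set.ncard_le_ncard h3 (Set.toFinite _)).trans
      ((Set.ncard_image_le (Set.toFinite _)).trans_eq Set.ncard_prod)
  have h5 := a2 (by
    by_contra hlt
    have := Nat.mul_lt_mul_of_lt_of_le (not_le.1 hlt) b1 (by norm_num)
    omega)
  have h6 := b2 (by
    by_contra hlt
    have := Nat.mul_lt_mul_of_le_of_lt a1 (not_le.1 hlt) (by norm_num)
    omega)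
  refine eq_of_le_of_card_ge (fun g hg => ?_) (c.card_R ▸ hc)
  obtain ⟨⟨a, b⟩, ⟨ha, hb⟩, rfl⟩ := h3 hg
  obtain ⟨x, hx, rfl⟩ := mem_Vs.1 (h5 ▸ ha : a ∈ Vs)
  obtain ⟨y, hy, rfl⟩ := mem_Vs.1 (h6 ▸ hb : b ∈ Vs)
  show c.κ _ _ ∈ c.R
  rw [c.κ_tr hx hy]
  exact c.P_mem hx hy

end Fr

end Cfsg.Agent.WJ
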