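import Cfsg.Agent.WJ.Base2

set_option autoImplicit false
set_option linter.unusedSectionVars false

namespace Cfsg.Agent.WJ

open Cfsg.Agent.SGJ4 Cfsg.Agent.J4P Cfsg.Agent.H14 AG Subgroup
open Cfsg.Agent.H42 (SylIn cj)

variable {J G : Type*} [Group J] [Group G] [Finite J] [Finite G]

namespace CenX

open Cfsg.Agent.H42 (mem_normalizer_of_conj_mem conj_mem_of_mem_normalizer)

/-- a subgroup consisting of the elements of odd order -/
theorem exists_odd {C A : Subgroup G} (sq : ∀ a ∈ A, a * a = 1)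
    (hc : ∀ x ∈ C, ∀ a ∈ A, Commute x a) (ho : ¬ 2 ∣ A.relIndex C) :
    ∃ K : Subgroup G, ∀ x, x ∈ K ↔ x ∈ C ∧ Odd (orderOf x) := by
  haveI : (A.subgroupOf C).Normal := ⟨fun a ha x => by
    rw [mem_subgroupOf] at ha ⊢
    simpa [(hc x x.2 a ha).eq] using ha⟩
  have p2 : IsPGroup 2 (A.subgroupOf C) := fun a => ⟨1, Subtype.ext (Subtype.ext (by
    simpa [pow_two] using sq _ a.2))⟩
  obtain ⟨n, hn⟩ := IsPGroup.iff_card.1 p2
  have o1 : Odd (A.subgroupOf C).index := Nat.odd_iff.2 (Nat.two_dvd_ne_zero.1 ho)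
  obtain ⟨K, hK⟩ := exists_right_complement'_of_coprime (N := A.subgroupOf C)
    (hn ▸ (Nat.coprime_two_left.2 o1).pow_left n)
  have o2 : Odd (Nat.card (K.map C.subtype)) := by
    rwa [card_map_of_injective C.subtype_injective, ← hK.symm.index_eq_card]
  refine ⟨K.map C.subtype, fun x => ⟨fun hx => ⟨map_subtype_le _ hx, o2.of_dvd_nat (orderOf_dvd_natCard _ hx)⟩,
    fun ⟨hx, ox⟩ => ?_⟩⟩
  obtain ⟨⟨a, k⟩, e⟩ := hK.2 (⟨x, hx⟩ : C)
  have e' : (a : G) * k = x := congrArg Subtype.val e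
  refine WR.mem_of_sq_mem ox ?_
  have hk : ((k : C) : G) ∈ K.map C.subtype := mem_map_of_mem _ k.2
  have : x * x = k * k := by
    have c1 : Commute ((a : C) : G) k := (hc _ (k : C).2 _ a.2).symm
    have c2 : ((a : C) : G) * a = 1 := sq _ a.2
    rw [← e', ← pow_two, c1.mul_pow, pow_two, c2, one_mul, pow_two]
  exact this ▸ mul_mem hk hk

theorem mem_sup_t {t : G} (tt : t * t = 1) {K : Subgroup G} (hK : t ∈ normalizer (K : Set G)) {y : G}
    (hy : y ∈ zpowers t ⊔ K) : y ∈ K ∨ t * y ∈ K := by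
  obtain ⟨_, ⟨k, rfl⟩, x, hx, rfl⟩ := H42.exists_mul_of_mem_sup (zpowers_le.2 hK) hy
  have t2 : t ^ (2 : ℤ) = 1 := by rw [zpow_two, tt]
  rcases Int.even_or_odd' k with ⟨j, rfl | rfl⟩
  · exact .inl (by simpa [zpow_mul, t2] using hx)
  · exact .inr (by simpa [zpow_mul, zpow_add, t2, ← mul_assoc, tt] using hx)

variable (c : Sp J G)

theorem t_R : c.t ∈ normalizer (c.R : Set G) := c.nv_iff_mem.1 (Sp.Act.nv c c.act_t)

theorem t_C : c.t ∈ normalizer (centralizer (c.R : Set G) : Set G) :=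
  H42.normalizer_le_normalizer_centralizer _ (t_R c)

theorem R_le : c.R ≤ centralizer (c.R : Set G) := fun _ ha _ hb => (c.R_comm hb ha).eq

theorem syl : SylIn 2 c.R (centralizer (c.R : Set G)) := by
  have tn : c.t ∉ centralizer (c.R : Set G) := fun k => c.not_conj (c.cv_iff_mem.2 k) (IsConj.refl _)
  have p1 : IsPGroup 2 c.R := fun a => ⟨1, Subtype.ext (by simpa [pow_two] using c.s1.sq _ a.2)⟩
  have p2 : IsPGroup 2 (zpowers c.t) := IsPGroup.of_card (n := 1) (by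
    rw [Nat.card_zpowers, orderOf_eq_prime (p := 2) (by rw [pow_two, c.tt]) c.toCf.t_ne, pow_one])
  have p3 : IsPGroup 2 ↥(zpowers c.t ⊔ c.R) := p2.to_sup_of_normal_right' p1 (zpowers_le.2 (t_R c))
  obtain ⟨Q, hQ, le⟩ := H42.exists_sylIn p3 (sup_le_sup_left (R_le c) _)
  have tR : c.t ∈ zpowers c.t ⊔ c.R := mem_sup_left (mem_zpowers _)
  have key : ∀ x ∈ centralizer (c.R : Set G), x ∈ Q →
      x ∈ normalizer ((zpowers c.t ⊔ c.R : Subgroup G) : Set G) → x ∈ zpowers c.t ⊔ c.R := by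
    intro x hx xQ xN
    rcases mem_sup_t c.tt (t_R c) (conj_mem_of_mem_normalizer xN tR) with k | k
    · exact absurd (isConj_iff.2 ⟨x, rfl⟩) (c.not_conj (c.cv_iff_mem.2 (R_le c k)))
    · have k2 : Commute (c.t * (x * c.t * x⁻¹)) c.t := by
        have := c.s1.sq _ k
        have e : x * c.t * x⁻¹ * (x * c.t * x⁻¹) = 1 := by rw [conj_mul, c.tt, mul_one, mul_inv_cancel]
        generalize x * c.t * x⁻¹ = u at this e
        show c.t * u * c.t = c.t * (c.t * u)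
        rw [← mul_assoc c.t, c.tt, one_mul, ← mul_right_cancel_iff (a := u), mul_assoc, this, e]
      obtain ⟨e, he, k3⟩ := c.s1.ker _ k k2
      obtain ⟨d, hd, k4⟩ := c.s1.onto e he
      have k5 : c.Ph x e := by rw [Cf.Ph, ← k3, ← mul_assoc, c.tt, one_mul]
      obtain ⟨i, hi⟩ := hQ.isP ⟨_, mul_mem (inv_mem (le (mem_sup_right hd))) xQ⟩
      rw [← Subgroup.mul_mem_cancel_left _ (inv_mem (mem_sup_right hd : d ∈ zpowers c.t ⊔ c.R))]
      obtain ⟨y, hy, k6 | k6⟩ := c.toCf.cenV2 (g := d⁻¹ * x) (congrArg Subtype.val hi) (Cf.Ph.comm _ k4 k5) fun y hy =>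
        (mul_mem (inv_mem (R_le c hd)) hx _ (c.s1.vR y hy)).symm
      · exact k6 ▸ mem_sup_right (c.s1.vR y hy)
      · exact k6 ▸ mul_mem tR (mem_sup_right (c.s1.vR y hy))
  have eq : zpowers c.t ⊔ c.R = Q := by
    by_contra ne
    obtain ⟨y, ⟨y1, y2⟩, y3⟩ := SetLike.exists_of_lt (H42.lt_inf_normalizer hQ.isP (lt_of_le_of_ne le ne))
    rcases mem_sup_t c.tt (t_C c) (hQ.le y1) with k | k
    · exact y3 (key y k y1 y2)
    · exact y3 ((Subgroup.mul_mem_cancel_left _ tR).1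
        (key _ k (mul_mem (le tR) y1) (mul_mem (le_normalizer tR) y2)))
  have := hQ.inf_normal (M := centralizer (c.R : Set G)) le_sup_right
    (sup_le (zpowers_le.2 (t_C c)) le_normalizer)
  rwa [← eq, show (zpowers c.t ⊔ c.R) ⊓ centralizer (c.R : Set G) = c.R from le_antisymm (fun x hx =>
    (mem_sup_t c.tt (t_R c) hx.1).resolve_right fun k =>
      tn ((Subgroup.mul_mem_cancel_right _ hx.2).1 (R_le c k))) (le_inf le_sup_right (R_le c))] at this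

end CenX

theorem Sp.exists_cn (c : Sp J G) : ∃ O', Cn c O' := by
  have S := CenX.syl c
  obtain ⟨K, hK⟩ := CenX.exists_odd c.s1.sq (fun x hx a ha => (hx a ha).symm) S.ndvd
  refine ⟨K, fun g => by rw [hK, c.cv_iff_mem], fun x hx => ?_⟩
  have le := zpowers_le.2 (c.cv_iff_mem.1 hx)
  obtain ⟨a, o, k, a1, o1, a2, o2, e, -⟩ := WR.exists_parts x
  refine ⟨a, ?_, o, (hK o).2 ⟨le o1, o2⟩, e⟩
  obtain ⟨g, hg, e⟩ := S.exists_conj (R := zpowers a) (IsPGroup.of_card_dvd_pow (n := k) (by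
    rw [Nat.card_zpowers]; exact orderOf_dvd_of_pow_eq_one a2)) (zpowers_le.2 (le a1))
  have := e a (mem_zpowers a)
  have k := hg _ this
  rwa [show g * a * g⁻¹ = a from mul_left_cancel (k.symm.trans (inv_mul_cancel_right _ _))] at this

theorem Cn.bar {c : Sp J G} {O' : Subgroup G} (h : Cn c O') {n : G} (hn : c.NV n)
    (ht : c.CV (n * c.t * n⁻¹ * c.t)) :
    ∃ a ∈ Ns, c.Act n (fun x y => (a.m x, a.m y)) ∨ c.Act n fun x y => (a.m y, a.m x) := by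
  obtain ⟨r, hr, o, ho, e⟩ := h.dec _ ht
  obtain ⟨oC, oo⟩ := (h.mem o).1 ho
  have ti := c.toCf.t_inv
  have r' : c.t * r * c.t⁻¹ ∈ c.R := Sp.Act.nv c c.act_t r hr
  have o' : c.t * o * c.t⁻¹ ∈ O' := (h.mem _).2 ⟨c.cv_iff_mem.2 (H42.conj_mem_of_mem_normalizer (CenX.t_C c)
    (c.cv_iff_mem.1 oC)), (MulAut.conj c.t).orderOf_eq o ▸ oo⟩
  have e1 : c.t * o * c.t⁻¹ * o = (c.t * r * c.t⁻¹)⁻¹ * r⁻¹ := by
    have k : c.t * (r * o) * c.t⁻¹ * (r * o) = 1 := by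
      rw [← e, ti]
      calc _ = c.t * n * (c.t * (n⁻¹ * (c.t * c.t) * n) * c.t) * n⁻¹ * c.t := by group
        _ = 1 := by simp [c.tt]
    rw [← (oC r hr).eq] at k
    calc _ = (c.t * r * c.t⁻¹)⁻¹ * (c.t * (r * o) * c.t⁻¹ * (o * r)) * r⁻¹ := by group
      _ = _ := by rw [← (oC r hr).eq, k, mul_one]
  have e2 : c.t * o * c.t⁻¹ * o = 1 := WR.eq_one_of_odd (k := 1) ((h.mem _).1 (mul_mem o' ho)).2
    (by rw [pow_one, pow_two, e1]; exact c.s1.sq _ (mul_mem (inv_mem r') (inv_mem hr)))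
  have e3 : Commute r c.t := by
    rw [e2, ← mul_inv_rev, eq_comm, inv_eq_one] at e1
    exact (mul_inv_eq_iff_eq_mul.1 (mul_left_cancel (e1.trans (c.s1.sq r hr).symm))).symm
  obtain ⟨x, hx, rfl⟩ := c.s1.ker r hr e3
  obtain ⟨d, hd, k⟩ := c.s1.onto x hx
  obtain ⟨i, hi⟩ := oo
  have uC : o ^ (i + 1) ∈ centralizer (c.R : Set G) := pow_mem (c.cv_iff_mem.1 oC) _
  have e4 : o ^ (i + 1) * c.t * (o ^ (i + 1))⁻¹ = o * c.t := by
    have k1 : c.t * o ^ (i + 1) * c.t⁻¹ = (o ^ (i + 1))⁻¹ := by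
      rw [← conj_pow, eq_inv_of_mul_eq_one_left e2, inv_pow]
    have k2 : o ^ (i + 1) * o ^ (i + 1) = o := by
      rw [← pow_add, show i + 1 + (i + 1) = orderOf o + 1 by omega, pow_succ, pow_orderOf_eq_one, one_mul]
    rw [← k1, ← mul_assoc, ← mul_assoc, mul_assoc _ c.t c.t, c.tt, mul_one, k2, ti]
  have dC := mul_mem uC (CenX.R_le c hd)
  have e5 : Commute ((o ^ (i + 1) * d)⁻¹ * n) c.t := by
    have k1 : n * c.t * n⁻¹ = o ^ (i + 1) * d * c.t * (o ^ (i + 1) * d)⁻¹ := by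
      calc _ = c.v x * (o * c.t) := by rw [← mul_assoc, ← e, mul_assoc _ c.t c.t, c.tt, mul_one]
        _ = o ^ (i + 1) * (c.t * c.v x) * (o ^ (i + 1))⁻¹ := by
          rw [← e4, ← e3.eq, ← mul_assoc, ← mul_assoc, uC _ hr, mul_assoc _ (c.v x)]
        _ = _ := by rw [← k]; group
    refine mul_inv_eq_iff_eq_mul.1 ?_
    calc _ = (o ^ (i + 1) * d)⁻¹ * (n * c.t * n⁻¹) * (o ^ (i + 1) * d) := by group
      _ = _ := by rw [k1]; group
  have A := c.cv_iff.1 (c.cv_iff_mem.2 dC)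
  obtain ⟨a, ha, p, hp, k1 | k1⟩ := c.toCf.cenN e5 (c.nmV_of_nv (c.nv_iff_mem.2
    (mul_mem (inv_mem (centralizer_le_normalizer _ dC)) (c.nv_iff_mem.1 hn))) e5) <;>
    rw [inv_mul_eq_iff_eq_mul.1 k1]
  · have := Sp.Act.mul c A (Sp.Act.mul c (c.act_θ ha) (c.cv_iff.1 (c.cv_O hp)))
    dsimp only at this
    exact ⟨a, ha, .inl this⟩
  · have := Sp.Act.mul c A (Sp.Act.mul c (Sp.Act.mul c c.act_t (c.act_θ ha)) (c.cv_iff.1 (c.cv_O hp)))
    dsimp only at this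
    exact ⟨a, ha, .inr this⟩

theorem Cn.mem_R {c : Sp J G} {O' : Subgroup G} (h : Cn c O') {g : G} {k : ℕ} (hg : c.CV g)
    (h2 : g ^ 2 ^ k = 1) : g ∈ c.R := by
  obtain ⟨r, hr, o, ho, e⟩ := h.dec g hg
  obtain ⟨o1, o2⟩ := (h.mem o).1 ho
  rwa [WR.two_unique o2 (o1 r hr) h2 (j := 1) (by simpa [pow_two] using c.s1.sq r hr) e]

end Cfsg.Agent.WJ
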