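import Cfsg.Agent.WJ.BaseF
import Cfsg.Agent.WJ.MH
import Cfsg.Agent.WJ.CompatX

set_option autoImplicit false

namespace Cfsg.Agent.WJ

open Cfsg.Agent.SGJ4 Cfsg.Agent.J4P Cfsg.Agent.H14 AG Subgroup
open Cfsg.Agent.H42 (SylIn cj)

variable {J G : Type*} [Group J] [Group G] [Finite J] [Finite G]

namespace Cp2

def cq2 : ℕ := nat_lit 0x49f4007b41000100400200809b3004e3ab1d0d93484a332396a6b2a74180f18ae5
def cq3 : ℕ := nat_lit 0x8e3a7b4ecc0040029b3c75800080040b667ad2673480bce45b0ea20d191520f0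

theorem inS_cq2 : InS KT cq2 := inS_KT (by decide +kernel)
theorem inS_cq3 : InS KT cq3 := inS_KT (by decide +kernel)

theorem sq_of {c : ℕ} (h : InS KT c) (e : cmul c c = cone) : ofC c * ofC c = 1 := by
  rw [← cd_inj, cd_mul, h.cd_ofC, cd_one, e]

theorem fix0 {v : Vb} (hv : v ∈ Ev) (h : ∀ q ∈ KT, q * q = 1 → q.m v = v) : v = 0 := by
  have k : all2 64 64 (fun n => bimp (Nat.beq (pn n) 0 && Nat.beq (ap (cA ckx) n) n &&
      Nat.beq (ap (cA cq2) n) n && Nat.beq (ap (cA cq3) n) n) (Nat.beq n 0)) = true := by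
    decide +kernel
  have h1 := h _ inS_ckx.ofC_mem (sq_of inS_ckx (by decide +kernel))
  have h2 := h _ inS_cq2.ofC_mem (sq_of inS_cq2 (by decide +kernel))
  have h3 := h _ inS_cq3.ofC_mem (sq_of inS_cq3 (by decide +kernel))
  rw [← Vb.val_inj, val_m] at h1 h2 h3
  rw [inS_ckx.cd_ofC] at h1
  rw [inS_cq2.cd_ofC] at h2
  rw [inS_cq3.cd_ofC] at h3
  refine Vb.ext (beq_iff.1 (bimp_iff.1 (all2_iff.1 k _ v.lt) ?_))
  simp only [Bool.and_eq_true, beq_iff]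
  exact ⟨⟨⟨mem_Ev'.1 hv, h1⟩, h2⟩, h3⟩

omit [Finite J] [Finite G] in
theorem half (c : Fr J G) (h : ∀ x ∈ Ev, ∀ p' ∈ Ns,
    c.m.τ * c.m.f p' * c.m.τ = c.m.f (tr x) → c.ι c.m.τ * c.l p' * c.ι c.m.τ = c.s x)
    {p p' : AG} (hp : c.m.Rl p p') (h2 : p * p = 1) : ∃ w ∈ Ev, c.Y p' = c.l p * c.v w := by
  have hY : ∀ {x : Vb} {a : AG}, c.m.Rl (tr x) a → c.Y a = c.s x := fun {x a} e =>
    h x (tr_mem_Ns.1 e.1) a e.2.1 e.2.2
  have k : ∀ i < 9, vb i ∈ Ev ∧ Commute ((c.l p)⁻¹ * c.Y p') (c.s (vb i)) ∧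
      Commute ((c.l p)⁻¹ * c.Y p') (c.t * c.s (vb i) * c.t) := fun i hi => by
    have h3 := Md.Rl.vb (m := c.m) hi
    have h4 := tr_mem_Ns.1 h3.1
    refine ⟨h4, ?_, ?_⟩
    · have h5 := (hp.mul h3).mul hp.inv
      rw [conj_tr] at h5
      have h6 := hY h5
      rw [c.Y_mul (mul_mem hp.2.1 h3.2.1) (inv_mem hp.2.1), c.Y_mul hp.2.1 h3.2.1, c.Y_inv hp.2.1,
        hY h3, ← c.l_tr (tr_mem_Ns.1 h5.1), ← conj_tr, c.l_mul (mul_mem hp.1 h3.1) (inv_mem hp.1),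
        c.l_mul hp.1 h3.1, c.l_inv hp.1, c.l_tr h4] at h6
      rw [Commute, SemiconjBy]
      calc _ = (c.l p)⁻¹ * (c.Y p' * c.s (vb i) * (c.Y p')⁻¹) * c.Y p' := by group
        _ = _ := by rw [h6]; group
    · refine Commute.mul_left (Commute.inv_left ?_) (hY h3 ▸ c.Y_comm p' (al i))
      rw [← c.l_tr h4, c.tlt]
      exact c.ll' _ _
  have ht : Commute ((c.l p)⁻¹ * c.Y p') c.t := by
    have h3 := (c.Y_t hp h2).trans (c.l_t hp.1 h2).symm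
    rw [Commute, SemiconjBy]
    calc _ = (c.l p)⁻¹ * (c.Y p' * c.t * (c.Y p')⁻¹) * c.Y p' := by group
      _ = _ := by rw [h3]; group
  obtain ⟨w, hw, o, ho, e⟩ := c.cen9 ht fun i hi => by
    obtain ⟨h3, h4, h5⟩ := k i hi
    rw [← c.P_diag h3]
    exact h4.mul_right h5
  have hv := c.s1.vR w hw
  rcases e with e | e
  · refine ⟨w, hw, ?_⟩
    rw [inv_mul_eq_iff_eq_mul] at e
    have h3 : p' * p' = 1 := (hp.mul hp).unique (by rw [h2]; exact Md.Rl.one)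
    have h4 : c.Y p' * c.Y p' = 1 := by rw [← c.Y_mul hp.2.1 hp.2.1, h3, c.Y_one]
    have h5 : c.l p * c.l p = 1 := by rw [← c.l_mul hp.1 hp.1, h2, c.l_one]
    have h6 : Commute (c.l p) o := c.κ_left p ▸ c.κ_O p 1 ho
    have h7 : c.l p * c.v w * (c.l p)⁻¹ ∈ c.R :=
      c.κ_left p ▸ (Sp.Act.nv _ (c.act_κ hp.1 (one_mem _))) _ hv
    have h8 : Commute (c.v w) o := c.s1.cO _ hv o ho
    have h9 : (c.l p * c.v w * (c.l p)⁻¹ * c.v w) * (o * o) = 1 := by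
      rw [← h4, e, inv_eq_of_mul_eq_one_right h5]
      calc _ = c.l p * c.v w * (c.l p * (c.v w * o)) * o := by group
        _ = c.l p * c.v w * (o * (c.l p * c.v w)) * o := by
          rw [← (h6.mul_left h8).eq, mul_assoc (c.l p) (c.v w) o]
        _ = _ := by group
    have h10 : o * o ∈ c.R := by
      rw [← inv_eq_of_mul_eq_one_right h9]
      exact inv_mem (mul_mem h7 hv)
    have h11 : o ^ 2 ^ 2 = 1 := by
      rw [← c.s1.sq _ h10, show 2 ^ 2 = 2 + 2 from rfl, pow_add, pow_two]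
    have h12 : o = 1 := by
      rw [← orderOf_eq_one_iff]
      exact Nat.eq_one_of_dvd_coprimes ((Nat.coprime_two_right.2 (c.Oodd o ho)).pow_right 2) dvd_rfl
        (orderOf_dvd_of_pow_eq_one h11)
    rw [e, h12, mul_one]
  · exfalso
    obtain ⟨h3, h4, -⟩ := k 0 (by omega)
    have h5 := c.sec.mem _ h3
    rw [e] at h4
    have h6 := (h4.mul_left (c.s1.cO _ h5 o ho).symm.inv_left).mul_left (c.R_comm hv h5).inv_left
    rw [mul_inv_cancel_right, mul_inv_cancel_right] at h6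
    have h7 := c.tst h3
    rw [h6.eq, mul_assoc, c.tt, mul_one, left_eq_mul, ← c.v_zero] at h7
    have h8 := congrArg Vb.val (c.v_inj h3 Ev.zero_mem h7)
    exact absurd h8 (by decide +kernel)

end Cp2

theorem Fr.compat2 (c : Fr J G) (h : ∀ x ∈ Ev, ∀ p' ∈ Ns,
    c.m.τ * c.m.f p' * c.m.τ = c.m.f (tr x) → c.ι c.m.τ * c.l p' * c.ι c.m.τ = c.s x) :
    c.Cp := by
  intro p hp p' hp' h2 e
  obtain ⟨w, hw, e1⟩ := Cp2.half c h ⟨hp, hp', e⟩ h2
  have hw' := tr_mem_Ns.2 hw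
  obtain rfl : w = 0 := Cp2.fix0 hw fun q hq hq2 => by
    have hq' := Ks_le_Ns (KT_le_Ks hq)
    obtain ⟨z, hz, e2⟩ := Cp2.half c h (Md.Rl.kt hq) hq2
    have hz' := tr_mem_Ns.2 hz
    have h3 := (c.Y_comm p' q).eq
    have h4 : c.t * c.Y q * c.t = c.κ (tr z) (q * tr z) := by
      rw [e2, ← c.tκt, ← c.κ_left, Cf.v, ← c.κ_diag hz', ← c.κ_mul hq' (one_mem _) hz' hz', one_mul]
    have h5 : c.Y p' = c.κ (p * tr w) (tr w) := by
      rw [e1, ← c.κ_left, Cf.v, ← c.κ_diag hw', ← c.κ_mul hp (one_mem _) hw' hw', one_mul]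
    rw [h4, h5, ← c.κ_mul (mul_mem hp hw') hw' hz' (mul_mem hq' hz'),
      ← c.κ_mul hz' (mul_mem hq' hz') (mul_mem hp hw') hw'] at h3
    have h6 := (c.κ_inj (mul_mem (mul_mem hp hw') hz') (mul_mem hw' (mul_mem hq' hz'))
      (mul_mem hz' (mul_mem hp hw')) (mul_mem (mul_mem hq' hz') hw') h3).2
    rw [mul_assoc, tr_comm z w, ← mul_assoc, ← mul_assoc, mul_left_inj, mul_tr, mul_left_inj,
      tr_inj] at h6
    exact h6.symm
  rw [c.v_zero, mul_one] at e1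
  exact e1

end Cfsg.Agent.WJ
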