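import Cfsg.Agent.J4P.OfSetup
import Cfsg.Agent.H42.SylIn

/-! Project WJ (standard subgroups isomorphic to `J₄`): definitions. -/

set_option autoImplicit false

namespace Cfsg.Agent.WJ

open Cfsg.Agent.SGJ4 Cfsg.Agent.J4P Cfsg.Agent.H14 AG Subgroup
open Cfsg.Agent.H42 (SylIn cj)

/-! ### the octad group -/

/-- codes of the sixteen elements that fix the octad `oc3` pointwise; `i` codes `e₀^a e₁^b e₂^c e₃^d` -/
def eL : List ℕ := [nat_lit 0x800400200100080040020010008004002001bdab49ca307b9ac5a928398a418820,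
  nat_lit 0x8009b30800082003da020002100004010e3ab926faa22da3a0b6255231cb618820,
  nat_lit 0x800ecc0020400101000200803da004200b1db99b28523343aaa4b16f258a718820,
  nat_lit 0x8001ed0103da0020080202000400040807b4b9e086be3593a6952d94b10a618820,
  nat_lit 0x8003dab1d1ed7b49b3020e3aecc004001002ba1474922b3398d85676a3cb218820,
  nat_lit 0x8000407b4eccb1d4000200011ed004e3a010bc92655a2c3b9706cea47d0a818820,
  nat_lit 0x8000080019b3e3a1ed0207b4400004b1d200bbd8459e29b39559b606920b418820,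
  nat_lit 0x800100e3a400001ecc020b1d9b30047b4080bd17661a2a23933ac1a7448af18820,
  nat_lit 0x8007b40400023da2000200080100041001edba64d4562f83a87312d362caa18820,
  nat_lit 0x800b1d3da010040080020100002004008eccba91094e346b9e63d8955b0a918820,
  nat_lit 0x800e3a1002000080020203da0800040409b3bae957b6289ba44b1cd0524ac18820,
  nat_lit 0x8000010080801000100200402000043da400bb1f3a4232ab916218ed4a8ab18820,
  nat_lit 0x8000809b3001400b1d020ecce3a0041ed100bcc8cb2a265b8f47c9096c0b518820,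
  nat_lit 0x800200400e3a9b37b40201ed001004ecc008bd6cb22627638cfa224a834b318820,
  nat_lit 0x8000101edb1decc0010204007b40049b3040bc0ea332364b892451ebaccad18820,
  nat_lit 0x800002ecc7b41ede3a0209b3b1d0044003dabb4c93ae2453ac893e8c9d4b018820]

noncomputable def ee (i : ℕ) : AG := ofC (nthD eL cone i)

theorem inS_eL (i : ℕ) : InS Ks (nthD eL cone i) := by
  by_cases h : i < 16
  · exact inS_Ks (allN_iff.1 (show allN 16 (fun i => inKs (nthD eL cone i)) = true by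
      decide +kernel) i h)
  · rw [OfS.nthD_ge (show eL.length ≤ i from not_lt.1 h)]
    exact InS.one _

theorem ee_mem (i : ℕ) : ee i ∈ Ks := (inS_eL i).ofC_mem
theorem ee_mem' (i : ℕ) : ee i ∈ Ns := Ks_le_Ns (ee_mem i)
theorem cd_ee (i : ℕ) : cd (ee i) = nthD eL cone i := (inS_eL i).cd_ofC

/-- the involution `e₀` -/
noncomputable def e0 : AG := ee 1

/-- the vectors fixed by a set of elements -/
def Fx (s : Set AG) : Set Vb := {v | v ∈ Ev ∧ ∀ a ∈ s, a.m v = v}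

/-- `a` maps the octad `oc3` to itself -/
def StO (a : AG) : Prop := ∀ x ∈ bits oc3, a.p x ∈ bits oc3

/-- a Sylow 2-subgroup of the model that fixes the octad and the sextet `zs` -/
structure TS (T : Subgroup AG) : Prop where
  syl : SylIn 2 T Ns
  card : Nat.card T = 2 ^ 21
  tr : ∀ v ∈ Ev, tr v ∈ T
  ee : ∀ i, ee i ∈ T
  sto : ∀ a ∈ T, StO a
  zs : ∀ a ∈ T, a.m zs = zs

/-! ### the model of `J₄` -/

structure Md (J : Type*) [Group J] where
  S : Setup J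
  A : Amal J
  h : ∀ a ∈ Ns, ex A.φ a = S.th (sig a)
  tH : A.t ∈ S.H
  tpi : S.pi A.t = bt0

section
variable {J G : Type*} [Group J] [Group G]

/-- the embedding of `2¹¹ : M₂₄` -/
noncomputable def Md.f (m : Md J) (a : AG) : J := ex m.A.φ a
/-- the further involution -/
def Md.τ (m : Md J) : J := m.A.t

/-- a standard subgroup `ι J` of `G`, not normal, inside the simple normal subgroup `X` -/
structure St (J G : Type*) [Group J] [Group G] where
  ι : J →* G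
  X : Subgroup G
  inj : Function.Injective ι
  Xn : X.Normal
  Xs : IsSimpleGroup X
  AX : ∀ a, ι a ∈ X
  out : ∀ g ∈ normalizer (ι.range : Set G), ∃ k ∈ centralizer (ι.range : Set G), ∃ a, g = k * ι a
  tight : ∀ g u, u ∈ centralizer (ι.range : Set G) → u * u = 1 → u ≠ 1 →
    g * u * g⁻¹ ∈ centralizer (ι.range : Set G) → g ∈ normalizer (ι.range : Set G)
  std : ∀ g, ¬ ∀ a, g * ι a * g⁻¹ ∈ centralizer (ι.range : Set G)
  ex : ∃ g u, g ∉ normalizer (ι.range : Set G) ∧ u ∈ centralizer (ι.range : Set G) ∧ u * u = 1 ∧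
    u ≠ 1 ∧ g * u * g⁻¹ ∈ normalizer (ι.range : Set G)

/-- the configuration in the centraliser of the involution `t` -/
structure Cf (J G : Type*) [Group J] [Group G] where
  m : Md J
  ι : J →* G
  X : Subgroup G
  O : Subgroup G
  t : G
  inj : Function.Injective ι
  Xn : X.Normal
  Xs : IsSimpleGroup X
  AX : ∀ a, ι a ∈ X
  tt : t * t = 1
  tc : ∀ a, Commute (ι a) t
  Oodd : ∀ o ∈ O, Odd (orderOf o)
  Ot : ∀ o ∈ O, Commute o t
  Oc : ∀ o ∈ O, ∀ a, Commute (ι a) o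
  cen : ∀ g, Commute g t → ∃ a, ∃ o ∈ O, g = ι a * o ∨ g = t * ι a * o
  fus : ∃ a, a * a = 1 ∧ a ≠ 1 ∧ IsConj t (t * ι a)
  nfus : ∀ a, ¬ IsConj t (ι a)

namespace Cf

variable (c : Cf J G)

/-- the model in `G` -/
noncomputable def θ (a : AG) : G := c.ι (c.m.f a)
/-- the elements of `V` -/
noncomputable def v (x : Vb) : G := c.θ (tr x)
/-- `g` normalises `V` -/
def NmV (g : G) : Prop := ∀ x ∈ Ev, ∃ y ∈ Ev, g * c.v x * g⁻¹ = c.v y
/-- `g` centralises `V` -/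
def CmV (g : G) : Prop := ∀ x ∈ Ev, Commute g (c.v x)
/-- `g` moves `t` by the element `x` of `V` -/
def Ph (g : G) (x : Vb) : Prop := g * c.t * g⁻¹ = c.t * c.v x

end Cf

/-- the group of order `2²³` over `⟨t⟩ × V` -/
structure DD (c : Cf J G) (Q : Subgroup G) : Prop where
  p2 : IsPGroup 2 Q
  cV : ∀ q ∈ Q, c.CmV q
  cO : ∀ q ∈ Q, ∀ o ∈ c.O, Commute q o
  φ : ∀ q ∈ Q, ∃ x ∈ Ev, c.Ph q x
  onto : ∀ x ∈ Ev, ∃ q ∈ Q, c.Ph q x
  max : ∀ g (k : ℕ), g ^ 2 ^ k = 1 → c.CmV g → (∃ x ∈ Ev, c.Ph g x) → g ∈ Q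

/-- the homocyclic case -/
structure HC (c : Cf J G) (R : Subgroup G) : Prop where
  comm : ∀ a ∈ R, ∀ b ∈ R, Commute a b
  sq : ∀ r ∈ R, ∃ x ∈ Ev, r * r = c.v x
  onto : ∀ x ∈ Ev, ∃ r ∈ R, r * r = c.v x
  ker : ∀ r ∈ R, r * r = 1 → ∃ x ∈ Ev, r = c.v x
  norm : ∀ a ∈ Ns, ∀ r ∈ R, c.θ a * r * (c.θ a)⁻¹ ∈ R

/-- the elementary abelian subgroup of order `2²²` -/
structure S1 (c : Cf J G) (R : Subgroup G) : Prop where
  sq : ∀ r ∈ R, r * r = 1
  vR : ∀ x ∈ Ev, c.v x ∈ R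
  cO : ∀ r ∈ R, ∀ o ∈ c.O, Commute r o
  φ : ∀ r ∈ R, ∃ x ∈ Ev, c.Ph r x
  onto : ∀ x ∈ Ev, ∃ r ∈ R, c.Ph r x
  ker : ∀ r ∈ R, Commute r c.t → ∃ x ∈ Ev, r = c.v x
  norm : ∀ a ∈ Ns, ∀ r ∈ R, c.θ a * r * (c.θ a)⁻¹ ∈ R
  max : ∀ g, g * g = 1 → c.CmV g → (∃ x ∈ Ev, x ≠ 0 ∧ c.Ph g x) → g ∈ R

/-- a section of `φ`, equivariant under the elements of `K` -/
structure Sec (c : Cf J G) (R : Subgroup G) (K : Subgroup AG) (s : Vb → G) : Prop where
  mem : ∀ x ∈ Ev, s x ∈ R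
  add : ∀ x ∈ Ev, ∀ y ∈ Ev, s (x + y) = s x * s y
  φ : ∀ x ∈ Ev, c.Ph (s x) x
  eqv : ∀ a ∈ K, ∀ x ∈ Ev, c.θ a * s x * (c.θ a)⁻¹ = s (a.m x)

/-- the configuration with the splitting `V* = V₁ × V₂` -/
structure Sp (J G : Type*) [Group J] [Group G] extends Cf J G where
  R : Subgroup G
  s : Vb → G
  s1 : S1 toCf R
  sec : Sec toCf R Ns s
  all : ∀ a, a * a = 1 → IsConj t (t * ι a)

namespace Sp

variable (c : Sp J G)

/-- the element of `V₁ × V₂` with coordinates `x`, `y` -/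
def P (x y : Vb) : G := c.s x * (c.t * c.s y * c.t)
/-- `g` normalises `V*` -/
def NV (g : G) : Prop := ∀ r ∈ c.R, g * r * g⁻¹ ∈ c.R
/-- `g` centralises `V*` -/
def CV (g : G) : Prop := ∀ r ∈ c.R, Commute g r
/-- `g` acts on `V*` as `F` -/
def Act (g : G) (F : Vb → Vb → Vb × Vb) : Prop :=
  ∀ x ∈ Ev, ∀ y ∈ Ev, (F x y).1 ∈ Ev ∧ (F x y).2 ∈ Ev ∧ g * c.P x y * g⁻¹ = c.P (F x y).1 (F x y).2

end Sp

/-- the centraliser of `V*` -/
structure Cn (c : Sp J G) (O' : Subgroup G) : Prop where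
  mem : ∀ g, g ∈ O' ↔ c.CV g ∧ Odd (orderOf g)
  dec : ∀ g, c.CV g → ∃ r ∈ c.R, ∃ o ∈ O', g = r * o

/-- a half frame: the first factor of `N × N` -/
structure HF (c : Sp J G) (lam : Ns →* G) : Prop where
  comm : ∀ a b, Commute (ex lam a) (c.t * ex lam b * c.t)
  diag : ∀ a ∈ Ns, ex lam a * (c.t * ex lam a * c.t) = c.θ a
  cO : ∀ a, ∀ o ∈ c.O, Commute (ex lam a) o
  tr : ∀ x ∈ Ev, ex lam (tr x) = c.s x

/-- the configuration with the frame -/
structure Fr (J G : Type*) [Group J] [Group G] extends Sp J G where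
  O' : Subgroup G
  lam : Ns →* G
  cn : Cn toSp O'
  hf : HF toSp lam

namespace Fr

variable (c : Fr J G)

noncomputable def l (a : AG) : G := ex c.lam a
noncomputable def l' (a : AG) : G := c.t * ex c.lam a * c.t
noncomputable def κ (a b : AG) : G := c.l a * c.l' b

/-- the frames of `N` and of its conjugate under `τ` agree on involutions -/
def Cp : Prop := ∀ p ∈ Ns, ∀ p' ∈ Ns, p * p = 1 → c.m.τ * c.m.f p' * c.m.τ = c.m.f p →
  c.ι c.m.τ * c.l p' * c.ι c.m.τ = c.l p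

/-- the first component of `τ` -/
structure Ta (τ₁ : G) : Prop where
  mem : τ₁ ∈ c.X
  diag : τ₁ * (c.t * τ₁ * c.t) = c.ι c.m.τ
  comm : Commute τ₁ (c.t * τ₁ * c.t)
  comm' : ∀ a, Commute τ₁ (c.l' a)

/-- involutions of the first factor fuse into `V₁` inside the centraliser of the second factor -/
def Fu : Prop := ∀ a ∈ Ns, a * a = 1 → ∃ g ∈ c.X, (∀ b, Commute g (c.l' b)) ∧
  ∃ x ∈ Ev, g * c.l a * g⁻¹ = c.s x

/-- `S = T × T` is a Sylow 2-subgroup of `X` -/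
structure Sy (T : Subgroup AG) (S : Subgroup G) : Prop where
  ts : TS T
  mem : ∀ g, g ∈ S ↔ ∃ a ∈ T, ∃ b ∈ T, g = c.κ a b
  syl : SylIn 2 S c.X

/-- the normaliser of `V*` in `X` normalises `V₁` -/
def N4 : Prop := ∀ n ∈ c.X, c.NV n → ∀ x ∈ Ev, ∃ y ∈ Ev, n * c.s x * n⁻¹ = c.s y

/-- conjugates of elements of `V₁` in `T × T` lie in the first factor -/
def In (T : Subgroup AG) : Prop := ∀ g ∈ c.X, ∀ x ∈ Ev, ∀ a ∈ T, ∀ b ∈ T,
  g * c.s x * g⁻¹ = c.κ a b → b = 1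

end Fr

end

end Cfsg.Agent.WJ
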