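import Cfsg.Agent.WJ.MJ
import Cfsg.Agent.SGJ4.ElY
import Cfsg.Agent.H3.Transfer2

/-! Project WJ: normal subgroups of the two involution centralisers of `J₄`. -/

set_option autoImplicit false
set_option linter.unusedSectionVars false

namespace Cfsg.Agent.WJ

open Cfsg.Agent.SGJ4 Cfsg.Agent.J4P Cfsg.Agent.H14 AG Subgroup
open Cfsg.Agent.H42 (SylIn cj)

namespace MK33

def irL : List ℕ := [0x44f85d00e00701c00e00704309204905402a,
  0x41f80100b00d01300b00d00b01300b00d016, 0x400800001001001001001001001001001002]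

/-- `X` is irreducible on `Vb` -/
theorem irr_X {W : AddSubgroup Vb} (h : ∀ a ∈ X, ∀ v ∈ W, a.m v ∈ W) {v : Vb} (hv : v ∈ W)
    (h0 : v ≠ 0) (w : Vb) : w ∈ W := by
  have k : allN 3 (fun τ => force (nthD irL 0 τ) fun t => allN 12 fun i =>
      Nat.beq (ty (col t i)) (τ + 1) && Nat.beq (ty ((col t i ^^^ 2 ^ i) % 4096)) (τ + 1)) = true := by
    decide +kernel
  have k1 : ∀ w : Vb, ty w.val = ty v.val → w ∈ W := fun w e => by
    obtain ⟨a, ha, -, rfl⟩ := orbit_ty e.symm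
    exact h a ha v hv
  obtain ⟨τ, hτ⟩ : ∃ τ, ty v.val = τ + 1 :=
    Nat.exists_eq_succ_of_ne_zero fun e => h0 (ty_eq_zero.1 e)
  have h3 : τ < 3 := by have := ty_lt v.val; omega
  have k2 := allN_iff.1 k τ h3
  simp only [force_eq, Bool.and_eq_true, beq_iff, allN_iff] at k2
  refine Vb.induction (P := fun w => w ∈ W) W.zero_mem (fun i hi => ?_)
    (fun a b => W.add_mem) w
  have e : Vb.e i = Vb.of (col (nthD irL 0 τ) i) + Vb.of (col (nthD irL 0 τ) i ^^^ 2 ^ i) := by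
    rw [Vb.of_xor, Vb.add_add_cancel]; rfl
  rw [e]
  exact W.add_mem (k1 _ (by rw [Vb.val_of_lt (col_lt _ _), hτ]; exact (k2 i hi).1))
    (k1 _ (by rw [Vb.val_of, hτ]; exact (k2 i hi).2))

def decT : List ℕ := [0xb1c85e, 0xaf027c, 0x1ec9d4, 0x9b29d4, 0x2aeba8, 0x249d4, 0xb46ba8,
  0x600000, 0x8bc000, 0x7da000, 0x8c7000]

theorem eq_one_of_mod_ts {b : AG} (hb : b ∈ Nf) (h : ∀ v ∈ Ev, b.m v = v ∨ b.m v = v + ts) :
    lin b = 1 := by
  have k : allN 11 (fun i => force (nthD decT 0 i) fun t =>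
      Nat.beq (col t 0 ^^^ col t 1) (col BM i) && allN 2 fun j =>
      Nat.beq (col t j) 0 || (Nat.beq (bt DT (col t j)) 1 &&
        Nat.beq (bt DT (col t j ^^^ 1141)) 0)) = true := by decide +kernel
  have k1 : ∀ v : Vb, v.val = 0 ∨ (bt DT v.val = 1 ∧ bt DT (v.val ^^^ 1141) = 0) → b.m v = v := by
    rintro v (h1 | h1)
    · rw [(Vb.ext h1 : v = 0), map_zero]
    · have h2 := isDuad_iff.2 h1.1
      refine (h v h2.mem_Ev).resolve_right fun e => ?_
      have := isDuad_iff.1 (e ▸ (isDuad_m hb).2 h2)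
      exact absurd (this.symm.trans h1.2) (by decide)
  refine lin_eq_one_of_Ev hb fun v hv => Ev_induction (P := fun v => b.m v = v) (map_zero _)
    (fun i hi => ?_) (fun x y _ _ h1 h2 => by rw [map_add, h1, h2]) hv
  have h1 := allN_iff.1 k i hi
  simp only [force_eq, Bool.and_eq_true, beq_iff, allN_iff, Bool.or_eq_true] at h1
  have h2 : ∀ j < 2, b.m (Vb.of (col (nthD decT 0 i) j)) = Vb.of (col (nthD decT 0 i) j) :=
    fun j hj => k1 _ (by rw [Vb.val_of_lt (col_lt _ _)]; exact h1.2 j hj)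
  rw [bv, ← h1.1, Vb.of_xor, map_add, h2 0 (by decide), h2 1 (by decide)]

/-- subgroups of the even cocode that contain the duad and are invariant under `y0` -/
theorem sub_y {R : AddSubgroup Vb} (h1 : R ≤ Ev) (h2 : ts ∈ R) (h3 : ∀ v ∈ R, El.y0.m v ∈ R) :
    (∀ v ∈ R, v = 0 ∨ v = ts) ∨ R = Ev := by
  have : Fact (Nat.Prime 11) := ⟨by decide⟩
  have hn : zpowers El.y0 ≤ normalizer (trS R : Set AG) := zpowers_le.2
    (mem_normalizer_fintype (by
      rintro _ ⟨v, hv, rfl⟩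
      rw [conj_tr]; exact ⟨_, h3 v hv, rfl⟩))
  have hp : IsPGroup 11 (zpowers El.y0) :=
    IsPGroup.of_card (n := 1) (by rw [Nat.card_zpowers, El.orderOf_y0, pow_one])
  have hc := H3.card_modEq_card_inf_centralizer hp hn
  have cp : ∀ g, g ∈ centralizer (zpowers El.y0 : Set AG) ↔ g * El.y0 = El.y0 * g := fun g =>
    ⟨fun h => (h _ (mem_zpowers _)).symm, by
      rintro h _ ⟨i, rfl⟩; exact (Commute.zpow_right h i).eq.symm⟩
  have he : trS R ⊓ centralizer (zpowers El.y0 : Set AG) = zpowers tN := by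
    refine le_antisymm ?_ (zpowers_le.2 (mem_inf.2 ⟨tr_mem_trS.2 h2, (cp _).2 El.tN_y0⟩))
    rintro g hg
    obtain ⟨⟨v, hv, rfl⟩, h4⟩ := mem_inf.1 hg
    rcases (El.fix_y0 (h1 hv)).1 (El.tr_comm_iff.1 ((cp _).1 h4)) with rfl | rfl
    exacts [one_mem _, mem_zpowers _]
  have h4 : Nat.card (trS R ⊓ centralizer (zpowers El.y0 : Set AG) : Subgroup AG) = 2 := by
    rw [he, Nat.card_zpowers, El.orderOf_tN]
  have h5 : Nat.card R ∣ 2 ^ 11 := by
    have := AddSubgroup.card_dvd_of_le h1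
    rwa [card_Ev] at this
  obtain ⟨j, hj, e⟩ := (Nat.dvd_prime_pow Nat.prime_two).1 h5
  rw [h4, card_trS, e] at hc
  have h6 : j = 1 ∨ j = 11 := by
    interval_cases j <;> first | exact absurd hc (by decide) | simp
  rcases h6 with rfl | rfl
  · refine Or.inl fun v hv => ?_
    have h7 := eq_of_le_of_card_ge (inf_le_left (a := trS R)
      (b := centralizer (zpowers El.y0 : Set AG))) (by rw [h4, card_trS, e]; rfl)
    have h8 : tr v ∈ trS R ⊓ centralizer (zpowers El.y0 : Set AG) := by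
      rw [h7]; exact tr_mem_trS.2 hv
    exact (El.fix_y0 (h1 hv)).1 (El.tr_comm_iff.1 ((cp _).1 (mem_inf.1 h8).2))
  · exact Or.inr (AddSubgroup.eq_of_le_of_card_ge h1 (by rw [card_Ev, e]; rfl))

def cf : ℕ := nat_lit 0xc75400200d4bb660400200017b40043da01005aa22ca2c4b910585ed38e6435157

theorem exists_f : ∃ f ∈ Ks, f.m ts = ts ∧ ∃ x ∈ Ev, f.m x = x + ts := by
  have h : InS Ks cf := inS_Ks (by decide +kernel)
  refine ⟨ofC cf, h.ofC_mem, ?_, Vb.of 15, mem_Ev'.2 (by decide +kernel), ?_⟩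
  · rw [← Vb.val_inj, val_m, h.cd_ofC]; decide +kernel
  · rw [← Vb.val_inj, val_m, h.cd_ofC]; decide +kernel

theorem sq_mem_zpowers {G : Type*} [Group G] {z g : G} (h : g = 1 ∨ g = z) : g ∈ zpowers z := by
  rcases h with rfl | rfl
  exacts [one_mem _, mem_zpowers _]

theorem mem_of_le {G : Type*} [Group G] {z : G} {M : Subgroup G} (h : ∀ g ∈ M, g = 1 ∨ g = z)
    (h1 : M ≠ ⊥) : z ∈ M := by
  by_contra h2
  exact h1 (eq_bot_iff.2 fun g hg => (h g hg).resolve_right fun e => h2 (e ▸ hg))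

variable {J : Type*} [Group J] (S : Setup J)

theorem th_comm {v w : Vb} (hv : v ∈ Ev) (hw : w ∈ Ev) :
    S.th (tr v) * S.th (tr w) = S.th (tr w) * S.th (tr v) := by
  rw [← Setup.th_tr_add hv hw, add_comm, Setup.th_tr_add hw hv]

theorem th_sq {v : Vb} (hv : v ∈ Ev) : S.th (tr v) * S.th (tr v) = 1 := by
  rw [← Setup.th_tr_add hv hv, Vb.add_self, tr_zero, Setup.th_one]

theorem th_comm_tr {a : AG} (ha : a ∈ Ns) {v : Vb} (hv : v ∈ Ev) :
    S.th a * S.th (tr v) = S.th (tr v) * S.th a ↔ a.m v = v := by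
  have h := tr_mem_Ns.2 hv
  rw [← Setup.th_mul ha h, ← Setup.th_mul h ha, Setup.th_inj (mul_mem ha h) (mul_mem h ha), eq_comm,
    El.tr_comm_iff]

theorem th_mem_C {a : AG} (ha : a ∈ Ns) : S.th a ∈ centralizer {S.t} ↔ a.m ts = ts := by
  rw [mem_centralizer_singleton_iff]; exact th_comm_tr S ha ts_mem

theorem tr_mem_E {v : Vb} (hv : v ∈ Ev) (h : uv v = 0) : S.th (tr v) ∈ S.E :=
  Setup1.mem_E.2 ⟨Setup.th_tr_mem_H hv, wv v, by rw [Setup.pi_th_tr hv, rho, h, ub_zero, mul_one]⟩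

end MK33

open MK33

variable {J : Type*} [Group J] [Finite J] (S : Setup J)

theorem norm_z {M : Subgroup J} (h : M ≤ S.H) (hn : S.H ≤ normalizer (M : Set J)) (h1 : M ≠ ⊥) :
    S.z ∈ M ∧ (M ≤ zpowers S.z ∨ S.E ≤ M) := by
  have cj : ∀ g ∈ S.H, ∀ m ∈ M, g * m * g⁻¹ ∈ M := fun g hg m hm =>
    (mem_normalizer_iff.1 (hn hg) m).1 hm
  let W : AddSubgroup Vb :=
    { carrier := {v | ∃ g ∈ M, S.pi g = tr v}
      zero_mem' := ⟨1, one_mem _, Setup1.pi_one⟩
      add_mem' := by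
        rintro v w ⟨g, hg, e1⟩ ⟨k, hk, e2⟩
        exact ⟨g * k, mul_mem hg hk, by rw [Setup1.pi_mul (h hg) (h hk), e1, e2, tr_add]⟩
      neg_mem' := fun hv => hv }
  by_cases h2 : ∀ v ∈ W, v = 0
  · have k : ∀ g ∈ M, g = 1 ∨ g = S.z := fun g hg => by
      have h3 : lin (S.pi g) = 1 := eq_one_of_m (lin_mem_X (Setup1.pi_mem g)) fun w => by
        obtain ⟨e, he, ew⟩ := Setup1.exists_tr (S := S.toSetup1) w
        have h4 := h2 (w + (S.pi g).m w) ⟨e * (g * e⁻¹ * g⁻¹), by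
          have := mul_mem (cj e he g hg) (inv_mem hg)
          convert this using 1; group, by
          rw [Setup1.pi_mul he (Setup1.conj_mem_H (h hg) (inv_mem he)),
            Setup1.pi_conj_tr (h hg) (inv_mem he) (v := w) (by rw [Setup1.pi_inv he, ew, tr_inv]),
            ew, tr_add]⟩
        exact (Vb.add_eq_zero'.1 h4).symm
      rw [lin_eq_one] at h3
      rw [← Setup1.pi_eq_one (h hg), h3, tr_eq_one]
      exact h2 _ ⟨g, hg, h3⟩
    exact ⟨mem_of_le k h1, Or.inl fun g hg => sq_mem_zpowers (k g hg)⟩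
  · push Not at h2
    obtain ⟨v, hv, h0⟩ := h2
    have hW : ∀ w, w ∈ W := irr_X (by
      rintro a ha w ⟨g, hg, e⟩
      obtain ⟨k, hk, rfl⟩ := Setup1.exists_pi (S := S.toSetup1) (X_le_Hb ha)
      exact ⟨_, cj k hk g hg, Setup1.pi_conj_tr hk (h hg) e⟩) hv h0
    have hz : S.z ∈ M := by
      obtain ⟨w, hw⟩ : ∃ w, B v w ≠ 0 := by
        by_contra h3
        push Not at h3
        exact h0 (eq_zero_of_B h3)
      obtain ⟨g, hg, e1⟩ := hv
      obtain ⟨k, hk, e2⟩ := hW w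
      have h3 := Setup1.comm_of_pi (h hg) (h hk) e1 e2
      rw [zp, if_neg hw] at h3
      exact (M.mul_mem_cancel_left (mul_mem hk hg)).1 (h3 ▸ mul_mem hg hk)
    refine ⟨hz, Or.inr fun g hg => ?_⟩
    obtain ⟨h3, w, e⟩ := Setup1.mem_E.1 hg
    obtain ⟨k, hk, e2⟩ := hW w
    rcases (Setup1.pi_eq_iff h3 (h hk)).1 (e.symm.trans e2.symm) with rfl | rfl
    exacts [hk, mul_mem hk hz]

theorem norm_t {M : Subgroup J} (h : M ≤ centralizer {S.t})
    (hn : centralizer {S.t} ≤ normalizer (M : Set J)) (h1 : M ≠ ⊥) :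
    S.t ∈ M ∧ (M ≤ zpowers S.t ∨ S.V ≤ M) := by
  have cj : ∀ a ∈ Ns, a.m ts = ts → ∀ m ∈ M, S.th a * m * (S.th a)⁻¹ ∈ M := fun a ha e m hm =>
    (mem_normalizer_iff.1 (hn ((th_mem_C S ha).2 e)) m).1 hm
  have cj' : ∀ a ∈ Ns, a.m ts = ts → ∀ v ∈ Ev, S.th (tr v) ∈ M → S.th (tr (a.m v)) ∈ M :=
    fun a ha e v hv hm => Setup.conj_th_tr (S := S) ha hv ▸ cj a ha e _ hm
  have ad : ∀ v ∈ Ev, ∀ w ∈ Ev, S.th (tr v) ∈ M → S.th (tr w) ∈ M → S.th (tr (v + w)) ∈ M :=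
    fun v hv w hw h2 h3 => Setup.th_tr_add (S := S) hv hw ▸ mul_mem h2 h3
  let R : AddSubgroup Vb :=
    { carrier := {v | v ∈ Ev ∧ (S.th (tr v) ∈ M ∨ S.th (tr (v + ts)) ∈ M)}
      zero_mem' := ⟨Ev.zero_mem, Or.inl (by rw [tr_zero, Setup.th_one]; exact one_mem _)⟩
      add_mem' := by
        rintro v w ⟨hv, h2⟩ ⟨hw, h3⟩
        have hv' := Ev.add_mem hv ts_mem
        have hw' := Ev.add_mem hw ts_mem
        refine ⟨Ev.add_mem hv hw, ?_⟩
        rcases h2 with h2 | h2 <;> rcases h3 with h3 | h3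
        · exact Or.inl (ad _ hv _ hw h2 h3)
        · exact Or.inr (add_assoc v w ts ▸ ad _ hv _ hw' h2 h3)
        · exact Or.inr (add_right_comm v ts w ▸ ad _ hv' _ hw h2 h3)
        · have := ad _ hv' _ hw' h2 h3
          rw [add_add_add_comm, Vb.add_self, add_zero] at this
          exact Or.inl this
      neg_mem' := fun hv => hv }
  have hR : ∀ a ∈ Ns, a.m ts = ts → ∀ v ∈ R, a.m v ∈ R := by
    rintro a ha e v ⟨hv, h2⟩
    refine ⟨(m_mem_Ev ha.1).2 hv, h2.imp (cj' a ha e v hv) fun h3 => ?_⟩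
    have := cj' a ha e _ (Ev.add_mem hv ts_mem) h3
    rwa [map_add, e] at this
  have ht : ts ∈ R := ⟨ts_mem, Or.inr (by
    rw [Vb.add_self, tr_zero, Setup.th_one]; exact one_mem _)⟩
  rcases sub_y (R := R) (fun v hv => hv.1) ht
    (hR _ El.y0_Ns ((El.fix_y0 ts_mem).2 (Or.inr rfl))) with h2 | h2
  · have k : ∀ g ∈ M, g = 1 ∨ g = S.t := fun g hg => by
      obtain ⟨a, ha, rfl⟩ := Setup.mem_N.1 (Setup.cent_t_le (h hg))
      have h3 : lin a = 1 := eq_one_of_mod_ts ha.1 fun v hv => by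
        have hv' := (m_mem_Ev ha.1).2 hv
        have h4 := mul_mem (cj _ (tr_mem_Ns.2 hv) rfl _ hg) (inv_mem hg)
        have h5 : S.th (tr v) * S.th a * (S.th (tr v))⁻¹ * (S.th a)⁻¹ = S.th (tr (v + a.m v)) := by
          rw [Setup.th_tr_add hv hv', ← Setup.conj_th_tr ha hv, ← Setup.th_inv (tr_mem_Ns.2 hv),
            tr_inv]
          group
        rcases h2 _ ⟨Ev.add_mem hv hv', Or.inl (h5 ▸ h4)⟩ with e | e
        · exact Or.inl (Vb.add_eq_zero'.1 e).symm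
        · exact Or.inr (by rw [← e, Vb.add_add_cancel])
      rw [lin_eq_one] at h3
      rw [h3] at hg ⊢
      rcases h2 _ ⟨ha.2, Or.inl hg⟩ with e | e <;> rw [e]
      · exact Or.inl (by rw [tr_zero, Setup.th_one])
      · exact Or.inr rfl
    exact ⟨mem_of_le k h1, Or.inl fun g hg => sq_mem_zpowers (k g hg)⟩
  · have h3 : ∀ v ∈ Ev, S.th (tr v) ∈ M ∨ S.th (tr (v + ts)) ∈ M := fun v hv =>
      (show v ∈ R from h2 ▸ hv).2
    have h4 : S.th (tr ts) ∈ M := by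
      obtain ⟨f, hf, e1, x, hx, e2⟩ := exists_f
      have hx' := Ev.add_mem hx ts_mem
      have h5 : S.th (tr x) ∈ M ∧ S.th (tr (x + ts)) ∈ M := by
        rcases h3 x hx with h5 | h5
        · exact ⟨h5, e2 ▸ cj' f (Ks_le_Ns hf) e1 x hx h5⟩
        · have := cj' f (Ks_le_Ns hf) e1 _ hx' h5
          rw [map_add, e1, e2, add_assoc, Vb.add_self, add_zero] at this
          exact ⟨this, h5⟩
      have := ad _ hx _ hx' h5.1 h5.2
      rwa [Vb.add_add_cancel] at this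
    refine ⟨h4, Or.inr fun g hg => ?_⟩
    obtain ⟨v, hv, rfl⟩ := Setup.mem_V.1 hg
    refine (h3 v hv).elim id fun h5 => ?_
    have := ad _ (Ev.add_mem hv ts_mem) _ ts_mem h5 h4
    rwa [add_assoc, Vb.add_self, add_zero] at this

theorem ti_top {M : Subgroup J}
    (ti : ∀ u ∈ M, u * u = 1 → u ≠ 1 → centralizer {u} ≤ normalizer (M : Set J))
    (h : S.E ≤ M ∨ S.V ≤ M) : M = ⊤ := by
  have k : ∀ v ∈ Ev, uv v = 0 → S.th (tr v) ∈ M := fun v hv e =>
    h.elim (fun h => h (tr_mem_E S hv e)) fun h => h (Setup.mem_V.2 ⟨v, hv, rfl⟩)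
  have hz : S.z ∈ M := h.elim (fun h => h Setup1.z_mem_E)
    fun h => h (Setup.mem_V.2 ⟨zs, zs_mem, Setup.th_zN⟩)
  have hH : S.H ≤ normalizer (M : Set J) := ti _ hz S.z_mul_z S.z_ne_one
  have k2 : ∀ a ∈ Ns, ∀ v ∈ Ev, uv v = 0 → v ≠ 0 → a.m v = v →
      S.th a ∈ normalizer (M : Set J) := fun a ha v hv e h0 e2 =>
    ti _ (k v hv e) (th_sq S hv) (fun h3 => h0 (tr_eq_one.1 ((Setup.th_eq_one (tr_mem_Ns.2 hv)).1 h3)))
      (mem_centralizer_singleton_iff.2 ((th_comm_tr S ha hv).2 e2))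
  have hx := k2 kx (Ks_le_Ns kx_mem) (Vb.of 36) (mem_Ev'.2 (by decide +kernel)) (by decide +kernel)
    (by decide +kernel) (by rw [← Vb.val_inj, val_m, kx, inS_ckx.cd_ofC]; decide +kernel)
  have hy := k2 ky (Ks_le_Ns ky_mem) (Vb.of 2516) (mem_Ev'.2 (by decide +kernel)) (by decide +kernel)
    (by decide +kernel) (by rw [← Vb.val_inj, val_m, ky, inS_cky.cd_ofC]; decide +kernel)
  let L : Subgroup AG :=
    { carrier := {a | a ∈ Ns ∧ S.th a ∈ normalizer (M : Set J)}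
      one_mem' := ⟨one_mem _, by rw [Setup.th_one]; exact one_mem _⟩
      mul_mem' := fun ha hb => ⟨mul_mem ha.1 hb.1, by
        rw [Setup.th_mul ha.1 hb.1]; exact mul_mem ha.2 hb.2⟩
      inv_mem' := fun ha => ⟨inv_mem ha.1, by rw [Setup.th_inv ha.1]; exact inv_mem ha.2⟩ }
  have hL : Ns ≤ L := by
    rw [Ns_eq, Ks_eq]
    refine sup_le ((closure_le _).2 ?_) (zpowers_le.2 ⟨zN_mem, by
      rw [Setup.th_zN]; exact hH S.z_mem⟩)
    rintro _ (rfl | rfl)
    exacts [⟨Ks_le_Ns kx_mem, hx⟩, ⟨Ks_le_Ns ky_mem, hy⟩]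
  have hN : S.N ≤ normalizer (M : Set J) := fun g hg => by
    obtain ⟨a, ha, rfl⟩ := Setup.mem_N.1 hg
    exact (hL ha).2
  have := isSimpleGroup_of_setup S
  exact (normalizer_eq_top_iff.1 (eq_top_of_le S hH hN)).eq_bot_or_eq_top.resolve_left fun e =>
    S.z_ne_one (mem_bot.1 (e ▸ hz))

include S in
theorem cent_cent {a g : J} (h2 : a * a = 1) (h1 : a ≠ 1) (h : ∀ b, Commute b a → Commute b g) :
    g = 1 ∨ g = a := by
  have ho : orderOf a = 2 := by
    have : Fact (Nat.Prime 2) := ⟨Nat.prime_two⟩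
    exact orderOf_eq_prime (by rw [sq]; exact h2) h1
  have k : ∀ u : J, IsConj u a → (∀ x, (∀ b, b * u = u * b → x * b = b * x) → x = 1 ∨ x = u) →
      g = 1 ∨ g = a := fun u hu hk => by
    obtain ⟨c, rfl⟩ := isConj_iff.1 hu
    rcases hk (c⁻¹ * g * c) (fun b hb => by
      have h3 := (h (c * b * c⁻¹) (by
        rw [Commute, SemiconjBy, conj_mul, conj_mul, hb])).eq
      calc c⁻¹ * g * c * b = c⁻¹ * (g * (c * b * c⁻¹)) * c := by group
        _ = _ := by rw [← h3]; group) with e | e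
    · left
      calc g = c * (c⁻¹ * g * c) * c⁻¹ := by group
        _ = 1 := by rw [e]; group
    · right
      rw [← e]; group
  rcases Setup.two' (S := S) ho with hc | hc
  · exact k _ hc fun x hx => Setup1.eq_of_comm_E fun e he => hx e (S.mem_H.1 (Setup1.E_le_H he))
  · refine k _ hc fun x hx => ?_
    have h3 : x ∈ S.V := by
      rw [Setup.V_eq]
      refine Setup1.mem_V1_of_comm fun e he => hx e ?_
      rw [← Setup.V_eq] at he
      obtain ⟨v, hv, rfl⟩ := Setup.mem_V.1 he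
      exact th_comm S hv ts_mem
    obtain ⟨v, hv, rfl⟩ := Setup.mem_V.1 h3
    rcases (El.fix_y0 hv).1 ((th_comm_tr S El.y0_Ns hv).1 (hx _ El.t_yy.symm).symm) with rfl | rfl
    · exact Or.inl (by rw [tr_zero, Setup.th_one])
    · exact Or.inr rfl

end Cfsg.Agent.WJ
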