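import Cfsg.Agent.WJ.MK1
import Cfsg.Agent.WJ.MOct
import Cfsg.Agent.SGJ4.Conj

set_option autoImplicit false

namespace Cfsg.Agent.WJ

open Cfsg.Agent.SGJ4 Cfsg.Agent.J4P Cfsg.Agent.H14 AG Subgroup
open Cfsg.Agent.H42 (SylIn cj)

namespace MK2

def cy : ℕ := nat_lit 0x8002009b33da004020b1d001eccd4b080002bd4887454c30a6d19d762c0327a680
def cf : ℕ := nat_lit 0xc75400200d4bb660400200017b40043da01005aa22ca2c4b910585ed38e6435157

theorem inS_cy : InS Ks cy := inS_Ks (by decide +kernel)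
theorem inS_cf : InS Ks cf := inS_Ks (by decide +kernel)

noncomputable def yy : AG := ofC cy
noncomputable def ff : AG := ofC cf

theorem yy_mem : yy ∈ Ns := Ks_le_Ns inS_cy.ofC_mem
theorem ff_mem : ff ∈ Ns := Ks_le_Ns inS_cf.ofC_mem
theorem cd_yy : cd yy = cy := inS_cy.cd_ofC
theorem cd_ff : cd ff = cf := inS_cf.cd_ofC

theorem yy_ts : yy.m ts = ts := Vb.ext (by rw [val_m, cd_yy]; decide +kernel)
theorem ff_ts : ff.m ts = ts := Vb.ext (by rw [val_m, cd_ff]; decide +kernel)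
theorem ff_sq : ff * ff = 1 := cd_inj.1 (by rw [cd_mul, cd_ff, cd_one]; decide +kernel)

/-- `x + a x ∈ {0, ts}` on codes -/
def tst (c n : ℕ) : Bool :=
  Nat.beq (pn n) 0 && (Nat.beq (Nat.xor n (ap (cA c) n)) 0 || Nat.beq (Nat.xor n (ap (cA c) n)) 1141)

theorem tst_iff (a : AG) (x : Vb) :
    tst (cd a) x.val = true ↔ x ∈ Ev ∧ (x + a.m x = 0 ∨ x + a.m x = ts) := by
  rw [tst, Bool.and_eq_true, Bool.or_eq_true, H14.beq_iff, H14.beq_iff, H14.beq_iff, mem_Ev',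
    ← Vb.val_inj, ← Vb.val_inj, Vb.val_add, val_m]
  rfl

theorem y_chk : all2 64 64 (fun n => bimp (tst cy n) (Nat.beq n 0 || Nat.beq n 1141)) = true := by
  decide +kernel

theorem y_fix {x : Vb} (hx : x ∈ Ev) (h : x + yy.m x = 0 ∨ x + yy.m x = ts) : x = 0 ∨ x = ts := by
  have := bimp_iff.1 (all2_iff.1 y_chk x.val x.lt) (by rw [← cd_yy, tst_iff]; exact ⟨hx, h⟩)
  rw [Bool.or_eq_true, H14.beq_iff, H14.beq_iff] at this
  exact this.imp (fun e => Vb.ext e) (fun e => Vb.ext e)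

theorem f_card : {x : Vb | x ∈ Ev ∧ (x + ff.m x = 0 ∨ x + ff.m x = ts)}.ncard = 256 :=
  (Vb.ncard_eq _ (tst cf) fun v => by rw [← cd_ff, tst_iff]).trans (by decide +kernel)

theorem f_three : Vb.of 3 ∈ Ev ∧ ¬ (Vb.of 3 + ff.m (Vb.of 3) = 0 ∨ Vb.of 3 + ff.m (Vb.of 3) = ts) := by
  have h : Vb.of 3 ∈ Ev := mem_Ev'.2 (by decide +kernel)
  refine ⟨h, fun h' => ?_⟩
  have := (tst_iff ff _).2 ⟨h, h'⟩
  rw [cd_ff] at this
  revert this
  decide +kernel

/-- a linear form that does not vanish on `ts` -/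
def la (x : Vb) : ZMod 2 := (bt x.val 0 : ℕ)

theorem la_add (x y : Vb) : la (x + y) = la x + la y := bt_xor _ _ _
theorem la_ts : la ts = 1 := by decide +kernel
theorem la_zero : la 0 = 0 := by decide +kernel

variable {J : Type*} [Group J]

theorem th_mem (S : Setup J) {a : AG} (ha : a ∈ Ns) (h : a.m ts = ts) :
    S.th a ∈ centralizer ({S.t} : Set J) :=
  (Setup.th_mem_cent_t ha).2 ((fix_ts_iff ha.1).1 h)

theorem z2 (c : ZMod 2) : c = 0 ∨ c = 1 := by revert c; decide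

/-- transport along a conjugation -/
def cjH {s a c : J} (h : c * s * c⁻¹ = a) : centralizer ({s} : Set J) →* centralizer ({a} : Set J) where
  toFun x := ⟨c * x * c⁻¹, by
    have := mem_centralizer_singleton_iff.1 x.2
    rw [mem_centralizer_singleton_iff, ← h]
    calc c * x * c⁻¹ * (c * s * c⁻¹) = c * (x * s) * c⁻¹ := by group
      _ = c * s * c⁻¹ * (c * x * c⁻¹) := by rw [this]; group⟩
  map_one' := Subtype.ext (by simp)
  map_mul' x y := Subtype.ext (by simp [mul_assoc])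

theorem coe_cjH {s a c : J} (h : c * s * c⁻¹ = a) (x : centralizer ({s} : Set J)) :
    (cjH h x : J) = c * x * c⁻¹ := rfl

end MK2

open MK2

variable {J : Type*} [Group J] [Finite J] (m : Md J)

theorem Md.ker_z (ψ : m.S.H →* J) (h : ψ ⟨m.S.z, m.S.z_mem⟩ = 1) :
    ∃ x, ψ x = 1 ∧ (x : J) ∉ zpowers m.S.z := by
  by_contra hcon
  push Not at hcon
  let φ : m.S.E →* J := ψ.comp (inclusion Setup1.E_le_H)
  have h1 : Nat.card φ.range ≤ 2 ^ 11 := by
    refine m.rank ?_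
    rintro _ ⟨e, rfl⟩
    obtain ⟨he, v, hv⟩ := Setup1.mem_E.1 e.2
    have hs := Setup1.sq_of_pi he hv.symm
    rw [← map_mul]
    rcases z2 (q v) with h0 | h0 <;> rw [h0] at hs
    · rw [show e * e = 1 from Subtype.ext hs, map_one]
    · exact (congrArg ψ (Subtype.ext hs)).trans h
  have h2 : Nat.card φ.ker ≤ 2 := by
    have := Nat.card_le_card_of_injective
      (fun x : φ.ker => (⟨x.1.1, hcon (inclusion Setup1.E_le_H x.1) x.2⟩ : zpowers m.S.z))
      fun x y e => Subtype.ext (Subtype.ext (congrArg (fun u : zpowers m.S.z => (u : J)) e))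
    rwa [Nat.card_zpowers, m.S.ord_z] at this
  have h3 := card_eq_card_quotient_mul_card_subgroup φ.ker
  rw [Nat.card_congr (QuotientGroup.quotientKerEquivRange φ).toEquiv, Setup1.card_E] at h3
  have := Nat.mul_le_mul h1 h2
  omega

theorem Md.ker_t (ψ : centralizer ({m.S.t} : Set J) →* J) {a' : J} (h2 : a' * a' = 1) (h1 : a' ≠ 1)
    (hc : ∀ b, Commute (ψ b) a')
    (h : ∀ x : centralizer ({m.S.t} : Set J), (x : J) = m.S.t → ψ x = 1) :
    ∃ x, ψ x = 1 ∧ (x : J) ∉ zpowers m.S.t := by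
  classical
  by_contra hcon
  push Not at hcon
  have tt : m.S.t * m.S.t = 1 := by
    rw [Setup.t, ← Setup.th_mul tN_mem tN_mem, tN, tr_mul_self, Setup.th_one]
  -- the map on the stabiliser of `ts`
  obtain ⟨ρ, hρ⟩ : ∃ ρ : AG → J, ∀ a (ha : a ∈ Ns) (hs : a.m ts = ts),
      ρ a = ψ ⟨m.S.th a, th_mem m.S ha hs⟩ :=
    ⟨fun a => if h : a ∈ Ns ∧ a.m ts = ts then ψ ⟨m.S.th a, th_mem m.S h.1 h.2⟩ else 1,
      fun a ha hs => dif_pos ⟨ha, hs⟩⟩
  have ρmul : ∀ a b, a ∈ Ns → a.m ts = ts → b ∈ Ns → b.m ts = ts → ρ (a * b) = ρ a * ρ b := by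
    intro a b ha hs hb hs'
    rw [hρ a ha hs, hρ b hb hs', hρ (a * b) (mul_mem ha hb) (by rw [mul_m, hs', hs]), ← map_mul]
    exact congrArg ψ (Subtype.ext (Setup.th_mul ha hb))
  have ρone : ρ 1 = 1 := by
    rw [hρ 1 (one_mem _) rfl, ← map_one ψ]
    exact congrArg ψ (Subtype.ext Setup.th_one)
  have ρc : ∀ a, a ∈ Ns → a.m ts = ts → Commute (ρ a) a' := fun a ha hs => by
    rw [hρ a ha hs]; exact hc _
  have trN : ∀ {x}, x ∈ Ev → tr x ∈ Ns := fun hx => tr_mem_Ns.2 hx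
  have wadd : ∀ x ∈ Ev, ∀ y ∈ Ev, ρ (tr (x + y)) = ρ (tr x) * ρ (tr y) := fun x hx y hy => by
    rw [tr_add, ρmul _ _ (trN hx) rfl (trN hy) rfl]
  have wsq : ∀ x ∈ Ev, ρ (tr x) * ρ (tr x) = 1 := fun x hx => by
    rw [← wadd x hx x hx, Vb.add_self, tr_zero, ρone]
  have wts : ρ (tr ts) = 1 := by
    rw [hρ _ (trN ts_mem) rfl]; exact h _ rfl
  have wone : ∀ x ∈ Ev, ρ (tr x) = 1 → x = 0 ∨ x = ts := by
    intro x hx e
    rw [hρ _ (trN hx) rfl] at e
    obtain ⟨k, hk⟩ := mem_zpowers_iff.1 (hcon _ e)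
    have hk' : m.S.t ^ k = m.S.th (tr x) := hk
    have hti : m.S.t ^ (2 : ℤ) = 1 := by rw [zpow_two, tt]
    rcases Int.emod_two_eq_zero_or_one k with h0 | h0 <;>
      rw [zpow_eq_zpow_emod k hti, h0] at hk'
    · left
      rw [zpow_zero] at hk'
      exact tr_eq_one.1 ((Setup.th_eq_one (trN hx)).1 hk'.symm)
    · right
      rw [zpow_one] at hk'
      exact tr_inj.1 ((Setup.th_inj (trN hx) tN_mem).1 hk'.symm)
  have wconj : ∀ a, a ∈ Ns → a.m ts = ts → ∀ x ∈ Ev, ρ a * ρ (tr x) = ρ (tr (a.m x)) * ρ a := by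
    intro a ha hs x hx
    rw [← ρmul _ _ ha hs (trN hx) rfl, mul_tr,
      ρmul _ _ (trN ((m_mem_Ev ha.1).2 hx)) rfl ha hs]
  have weq : ∀ x ∈ Ev, ∀ y ∈ Ev, ρ (tr x) = ρ (tr y) → x + y = 0 ∨ x + y = ts := by
    intro x hx y hy e
    exact wone _ (add_mem hx hy) (by rw [wadd x hx y hy, e, wsq y hy])
  have weq' : ∀ x ∈ Ev, ∀ y ∈ Ev, x + y = 0 ∨ x + y = ts → ρ (tr x) = ρ (tr y) := by
    intro x hx y hy e
    have : ρ (tr x) * ρ (tr y) = 1 := by
      rw [← wadd x hx y hy]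
      rcases e with e | e <;> rw [e]
      exacts [by rw [tr_zero, ρone], wts]
    exact mul_right_cancel (this.trans (wsq y hy).symm)
  have hna : ∀ x ∈ Ev, ρ (tr x) ≠ a' := by
    intro x hx e
    have e1 := wconj yy yy_mem yy_ts x hx
    rw [e, (ρc yy yy_mem yy_ts).eq, mul_left_inj, ← e] at e1
    rcases y_fix hx (weq x hx _ ((m_mem_Ev yy_mem.1).2 hx) e1) with rfl | rfl
    · exact h1 (by rw [← e, tr_zero, ρone])
    · exact h1 (by rw [← e, wts])
  have zc : ∀ a, a ∈ Ns → a.m ts = ts → ∀ c, Commute (ρ a) (zp a' c) := by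
    intro a ha hs c
    rcases z2 c with rfl | rfl
    exacts [Commute.one_right _, ρc a ha hs]
  -- the elementary abelian group of order `2¹¹`
  let g : Vb → J := fun x => ρ (tr x) * zp a' (la x)
  have gadd : ∀ x ∈ Ev, ∀ y ∈ Ev, g (x + y) = g x * g y := by
    intro x hx y hy
    simp only [g]
    rw [wadd x hx y hy, la_add, zp_add h2, mul_assoc, mul_assoc, ← mul_assoc (ρ (tr y)),
      (zc _ (trN hy) rfl (la x)).eq, mul_assoc]
  have g0 : g 0 = 1 := by simp only [g]; rw [tr_zero, ρone, la_zero, zp_zero, mul_one]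
  have gone : ∀ x ∈ Ev, g x = 1 → x = 0 := by
    intro x hx e
    simp only [g] at e
    rcases z2 (la x) with h0 | h0 <;> rw [h0] at e
    · rcases wone x hx (by simpa [zp_zero] using e) with rfl | rfl
      · rfl
      · rw [la_ts] at h0; exact absurd h0 (by decide)
    · exact absurd (mul_right_cancel (e.trans h2.symm)) (hna x hx)
  have gsq : ∀ x ∈ Ev, g x * g x = 1 := fun x hx => by rw [← gadd x hx x hx, Vb.add_self, g0]
  have ginj : ∀ x ∈ Ev, ∀ y ∈ Ev, g x = g y → x = y := fun x hx y hy e =>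
    Vb.add_eq_zero'.1 (gone _ (add_mem hx hy) (by rw [gadd x hx y hy, e, gsq y hy]))
  let B : Subgroup J :=
    { carrier := {b | ∃ x ∈ Ev, g x = b}
      one_mem' := ⟨0, zero_mem _, g0⟩
      mul_mem' := by
        rintro _ _ ⟨x, hx, rfl⟩ ⟨y, hy, rfl⟩
        exact ⟨x + y, add_mem hx hy, gadd x hx y hy⟩
      inv_mem' := by
        rintro _ ⟨x, hx, rfl⟩
        exact ⟨x, hx, (inv_eq_of_mul_eq_one_right (gsq x hx)).symm⟩ }
  have hBc : 2 ^ 11 ≤ Nat.card B := by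
    have := Nat.card_le_card_of_injective (fun x : Ev => (⟨g x, x, x.2, rfl⟩ : B))
      fun x y e => Subtype.ext (ginj _ x.2 _ y.2 (congrArg Subtype.val e))
    rwa [card_Ev] at this
  obtain ⟨k, hk⟩ := m.rank_eq (B := B) (by rintro _ ⟨x, hx, rfl⟩; exact gsq x hx) hBc
  have gts : g ts = a' := by simp only [g]; rw [wts, la_ts, zp_one, one_mul]
  have wB : ∀ x ∈ Ev, ρ (tr x) ∈ B := by
    intro x hx
    have e : ρ (tr x) = g x * (zp a' (la x))⁻¹ := by simp only [g]; rw [mul_inv_cancel_right]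
    rw [e]
    refine mul_mem ⟨x, hx, rfl⟩ (inv_mem ?_)
    rcases z2 (la x) with h0 | h0 <;> rw [h0]
    exacts [one_mem _, ⟨ts, ts_mem, gts⟩]
  have Fg : ∀ x ∈ Ev, ρ ff * g x * (ρ ff)⁻¹ = ρ (tr (ff.m x)) * zp a' (la x) := by
    intro x hx
    simp only [g]
    rw [← mul_assoc, wconj ff ff_mem ff_ts x hx, mul_assoc (ρ (tr _)),
      (zc ff ff_mem ff_ts _).eq, ← mul_assoc, mul_inv_cancel_right]
  have FB : ∀ b ∈ B, ρ ff * b * (ρ ff)⁻¹ ∈ B := by
    rintro _ ⟨x, hx, rfl⟩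
    rw [Fg x hx]
    refine mul_mem (wB _ ((m_mem_Ev ff_mem.1).2 hx)) ?_
    rcases z2 (la x) with h0 | h0 <;> rw [h0]
    exacts [one_mem _, ⟨ts, ts_mem, gts⟩]
  have hB : ∀ x ∈ Ev, k⁻¹ * m.f (tr x) * k ∈ B := fun x hx => (hk _).2 ⟨x, hx, by group⟩
  obtain ⟨a, ha, ea⟩ := m.nV (g := k * ρ ff * k⁻¹) fun x hx => by
    obtain ⟨y, hy, e⟩ := (hk _).1 (FB _ (hB x hx))
    exact ⟨y, hy, by rw [← e]; group⟩
  have cjf : ∀ y ∈ Ev, m.f a * m.f (tr y) * (m.f a)⁻¹ = m.f (tr (a.m y)) := fun y hy => by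
    rw [← m.f_inv ha, ← m.f_mul ha (trN hy), ← m.f_mul (mul_mem ha (trN hy)) (inv_mem ha), conj_tr]
  have FF : ρ ff * ρ ff = 1 := by rw [← ρmul _ _ ff_mem ff_ts ff_mem ff_ts, ff_sq, ρone]
  have aa : a * a = 1 := by
    refine m.f_inj (mul_mem ha ha) (one_mem _) ?_
    rw [m.f_mul ha ha, ← ea, m.f_one]
    calc k * ρ ff * k⁻¹ * (k * ρ ff * k⁻¹) = k * (ρ ff * ρ ff) * k⁻¹ := by group
      _ = 1 := by rw [FF]; group
  have key : ∀ x ∈ Ev, ∀ y ∈ Ev, k * g x * k⁻¹ = m.f (tr y) →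
      (a.m y = y ↔ ρ (tr (ff.m x)) = ρ (tr x)) := by
    intro x hx y hy e
    have e1 : m.f (tr (a.m y)) = k * (ρ (tr (ff.m x)) * zp a' (la x)) * k⁻¹ := by
      rw [← cjf y hy, ← ea, ← e, ← Fg x hx]; group
    constructor
    · intro e2
      rw [e2, ← e] at e1
      exact (mul_right_cancel (mul_left_cancel (mul_right_cancel e1))).symm
    · intro e2
      rw [e2] at e1
      exact tr_inj.1 (m.f_inj (trN ((m_mem_Ev ha.1).2 hy)) (trN hy) (e1.trans e))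
  have hl : lin a ≠ 1 := by
    intro e
    obtain ⟨y, hy, e1⟩ := (hk _).1 ⟨_, f_three.1, rfl⟩
    have e2 : a.m y = y := by rw [← lin_m, e]; rfl
    exact f_three.2 (weq _ f_three.1 _ ((m_mem_Ev ff_mem.1).2 f_three.1)
      ((key _ f_three.1 y hy e1).1 e2).symm)
  have hle := ncard_fx_le (lin_mem_Ks ha.1) (by rw [← map_mul, aa, map_one]) hl
  choose! Y hY1 hY2 using fun x (hx : x ∈ Ev) => (hk (g x)).1 ⟨x, hx, rfl⟩
  have := Set.ncard_le_ncard_of_injOn (s := {x : Vb | x ∈ Ev ∧ (x + ff.m x = 0 ∨ x + ff.m x = ts)})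
    (t := Fx {lin a}) Y (fun x hx => ⟨hY1 x hx.1, by
      rintro _ rfl
      exact (key x hx.1 _ (hY1 x hx.1) (hY2 x hx.1)).2
        (weq' x hx.1 _ ((m_mem_Ev ff_mem.1).2 hx.1) hx.2).symm⟩)
    (fun x hx y hy e => ginj x hx.1 y hy.1 (by
      have := (hY2 x hx.1).trans (e ▸ (hY2 y hy.1).symm)
      exact mul_left_cancel (mul_right_cancel this)))
  rw [f_card] at this
  omega

include m in
theorem Md.jk {a a' : J} (h2 : a * a = 1) (h1 : a ≠ 1) (h2' : a' * a' = 1) (h1' : a' ≠ 1)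
    {M : Subgroup J} (hM : M ≠ ⊤)
    (ti : ∀ u ∈ M, u * u = 1 → u ≠ 1 → centralizer {u} ≤ normalizer (M : Set J))
    (ψ : centralizer ({a} : Set J) →* J) (hc : ∀ b, Commute (ψ b) a')
    (hk : ∀ b, ψ b = 1 ↔ (b : J) ∈ M) : Function.Injective ψ := by
  rw [injective_iff_map_eq_one]
  intro b hb
  by_contra hb1
  have key : ∀ s c : J, (e : c * s * c⁻¹ = a) → ∃ M' K : Subgroup J, M' ≠ ⊤ ∧
      (∀ u ∈ M', u * u = 1 → u ≠ 1 → centralizer {u} ≤ normalizer (M' : Set J)) ∧ K ≤ M' ∧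
      K ≤ centralizer {s} ∧ centralizer {s} ≤ normalizer (K : Set J) ∧ K ≠ ⊥ ∧
      ∀ x, ψ (cjH e x) = 1 ↔ (x : J) ∈ K := by
    intro s c e
    have mem : ∀ x, x ∈ cj c⁻¹ M ↔ c * x * c⁻¹ ∈ M := fun x => by rw [H42.mem_cj, inv_inv]
    have hK : ∀ x : centralizer ({s} : Set J), ψ (cjH e x) = 1 ↔
        (x : J) ∈ cj c⁻¹ M ⊓ centralizer {s} := fun x => by
      rw [hk, coe_cjH, mem_inf, mem]
      exact (and_iff_left x.2).symm
    refine ⟨cj c⁻¹ M, cj c⁻¹ M ⊓ centralizer {s}, fun h => hM ?_, fun u hu uu u1 g hg => ?_,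
      inf_le_left, inf_le_right, fun g hg => ?_, fun h => hb1 ?_, hK⟩
    · rw [eq_top_iff]
      intro x _
      have := (mem (c⁻¹ * x * c)).1 (h ▸ mem_top _)
      rwa [show c * (c⁻¹ * x * c) * c⁻¹ = x by group] at this
    · have h3 := ti _ ((mem u).1 hu)
        (by rw [show c * u * c⁻¹ * (c * u * c⁻¹) = c * (u * u) * c⁻¹ by group, uu]; group)
        (fun h => u1 (by simpa using h)) (cjH (s := u) (c := c) rfl ⟨g, hg⟩).2
      refine H42.mem_normalizer_of_conj_mem fun x hx => (mem _).2 ?_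
      have := H42.conj_mem_of_mem_normalizer h3 ((mem x).1 hx)
      rw [coe_cjH] at this
      rwa [show c * (g * x * g⁻¹) * c⁻¹ = c * g * c⁻¹ * (c * x * c⁻¹) * (c * g * c⁻¹)⁻¹ by group]
    · refine H42.mem_normalizer_of_conj_mem fun x hx => ?_
      have := (hK ⟨x, hx.2⟩).2 hx
      exact (hK (⟨g, hg⟩ * ⟨x, hx.2⟩ * ⟨g, hg⟩⁻¹)).1 (by
        rw [map_mul, map_mul, map_mul, map_mul, this, map_inv, map_inv]; group)
    · have e' : c⁻¹ * a * c⁻¹⁻¹ = s := by rw [← e]; group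
      have h3 : cjH e (cjH e' b) = b := Subtype.ext (by rw [coe_cjH, coe_cjH]; group)
      have h4 := (hK (cjH e' b)).1 (by rw [h3, hb])
      rw [h, mem_bot, coe_cjH] at h4
      exact Subtype.ext (show (b : J) = 1 by
        rw [show (b : J) = c * (c⁻¹ * b * c⁻¹⁻¹) * c⁻¹ by group, h4]; group)
  rcases Setup.two' (S := m.S) (orderOf_eq_prime (by rw [sq, h2]) h1) with h | h
  · obtain ⟨c, e⟩ := isConj_iff.1 h
    obtain ⟨M', K, h3, h4, h5, h6, h7, h8, h9⟩ := key _ c e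
    obtain ⟨hz, h10⟩ := norm_z m.S h6 h7 h8
    obtain ⟨x, hx, hx'⟩ := m.ker_z (ψ.comp (cjH e)) ((h9 _).2 hz)
    rcases h10 with h10 | h10
    · exact hx' (h10 ((h9 x).1 hx))
    · exact h3 (ti_top m.S h4 (Or.inl (h10.trans h5)))
  · obtain ⟨c, e⟩ := isConj_iff.1 h
    obtain ⟨M', K, h3, h4, h5, h6, h7, h8, h9⟩ := key _ c e
    obtain ⟨hz, h10⟩ := norm_t m.S h6 h7 h8
    obtain ⟨x, hx, hx'⟩ := m.ker_t (ψ.comp (cjH e)) h2' h1' (fun b => hc _)
      fun x hx => (h9 _).2 (by rw [hx]; exact hz)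
    rcases h10 with h10 | h10
    · exact hx' (h10 ((h9 x).1 hx))
    · exact h3 (ti_top m.S h4 (Or.inr (h10.trans h5)))

end Cfsg.Agent.WJ
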