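import Cfsg.Agent.WJ.MOct

set_option autoImplicit false

namespace Cfsg.Agent.WJ

open Cfsg.Agent.SGJ4 Cfsg.Agent.J4P Cfsg.Agent.H14 AG Subgroup
open Cfsg.Agent.H42 (SylIn cj)
open scoped Pointwise

namespace MT

/-- the six tetrads of the sextet `zs` -/
def tetL : List ℕ := [15, 5264, 8536096, 4196928, 622848, 3416064]

/-- the fifteen octads made of two tetrads -/
def ocL : List ℕ := [8536111, 4202192, 628112, 4038912, 3416079, 11952160, 7612992, 12733024,
  4196943, 4819776, 9158944, 622863, 5279, 3421328, 8541360]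

/-- elements of the sextet group that carry `oc3` to them -/
def cL : List ℕ := [nat_lit 0x800400200100080040020010008004002001bdab49ca307b9ac5a928398a418820,
  nat_lit 0x16e33da0100020089b31000401ed08080060d106bc9491e771141570551b2cc9,
  nat_lit 0x80200400e3a800ecc0100200040087b4c759d6cbb9a1173d20a0da50c902510ec,
  nat_lit 0x80b66b1d1ed7b49b3008e3aecc010001c7599547491eb3418070ef614501ad24d,
  nat_lit 0xc75b1db660207b4004d4be3aecc49f800080028b14b84b306f32219679c70ad24d,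
  nat_lit 0x43da6e349f7b4c75800e3aecc020d4b9b372061482eb344449a9f6640a7ad24d,
  nat_lit 0x23dab1d1edc759b310049fd4b0400018006a1470128114997816638beaeb1969,
  nat_lit 0x8003da6e349f002d4b004100040020c75001ba061689d49440c7aa75240a7b2cc9,
  nat_lit 0xd4bb1db66020002800c7510004049f004008128b16dc14905cf6209599c70b2cc9,
  nat_lit 0x7b4b66b1d9b3c751ede3ad4b49fecc0010024954401d620998d8d6e393ad4441f3,
  nat_lit 0x8004006e349f001d4b0041ed9b3020c75002bd861609c72440d3552a92cb4441f3,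
  nat_lit 0xd4b200b66020001800c751ed9b349f004ecc154b165c07205c66da4a4d06b441f3,
  nat_lit 0x1200400ecc080e3a1ed0100089b37b4800656c69acf079137915a88d14e18820,
  nat_lit 0x9b36e33da0107b4080001e3aecc1ed00800420d104cd8b31dee01456b8551ad24d,
  nat_lit 0x44006e349f080c75800010008020d4b04075861982f07c4524d4c86acb451c8c]

theorem tet_chk : all2 64 64 (fun y => force (Nat.xor (enc y) 15) fun m =>
    bimp (Nat.beq (pc m) 4) (anyL tetL fun t => Nat.beq t m)) = true := by decide +kernel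

theorem tet {s : Finset GolayPt} (h4 : s.card = 4) (h : cl s = zs) : ∃ t ∈ tetL, s = bits t := by
  have h0 : cl (bits 15) = zs := Vb.ext (by rw [val_cl_bits (by norm_num)]; decide +kernel)
  obtain ⟨y, hy, e⟩ := mem_cSets_iff.1 (cl_eq_cl.1 (h.trans h0.symm))
  have e' : s = bits (enc y ^^^ 15) := by
    rw [bits_xor, ← e, symmDiff_symmDiff_cancel_right]
  have := all2_iff.1 tet_chk y hy
  simp only [force_eq, bimp_iff, beq_iff, anyL_iff] at this
  obtain ⟨t, ht, e2⟩ := this (by rw [e', card_bits] at h4; exact h4)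
  exact ⟨t, ht, by rw [e', e2]; rfl⟩

theorem or_chk : ∀ t ∈ tetL, ∀ t' ∈ tetL, pc (t ||| t') = 8 → t ||| t' ∈ ocL := by decide +kernel

theorem mem_N1 {a : AG} : a ∈ N1 ↔ a ∈ Ns ∧ a.m zs = zs := by
  rw [N1, mem_inf, mem_centralizer_singleton_iff, zN, mul_tr, mul_left_inj, tr_inj]

theorem smul_oc {a : AG} (ha : a ∈ N1) : ∃ o ∈ ocL, a.p • bits oc3 = bits o := by
  obtain ⟨h1, h2⟩ := mem_N1.1 ha
  have hf := (mem_Nf.1 (Ns_le_Nf h1)).2
  have key : ∀ t < 2 ^ 24, pc t = 4 → syn t = 834 → ∃ t' ∈ tetL, a.p • bits t = bits t' := by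
    intro t ht h4 hs
    refine tet (by rw [Finset.card_smul_finset, card_bits, h4]) ?_
    rw [← hf, cl_bits ht, hs]
    exact h2
  obtain ⟨t, ht, e⟩ := key 15 (by norm_num) (by decide +kernel) (by decide +kernel)
  obtain ⟨t', ht', e'⟩ := key 8536096 (by norm_num) (by decide +kernel) (by decide +kernel)
  have e0 : bits oc3 = bits 15 ∪ bits 8536096 := by rw [← bits_or]; rfl
  have e1 : a.p • bits oc3 = bits (t ||| t') := by
    rw [e0, Finset.smul_finset_union, e, e', bits_or]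
  refine ⟨_, or_chk t ht t' ht' ?_, e1⟩
  rw [← card_bits, ← e1, Finset.card_smul_finset, card_bits]
  decide +kernel

theorem c_chk : allN 15 (fun i => inKS (nthD cL cone i) &&
    Nat.beq (img (nat_lit 5) (nat_lit 32) (nat_lit 24) (cP (nthD cL cone i)) oc3)
      (nthD ocL 0 i)) = true := by decide +kernel

theorem oc_idx : ∀ o ∈ ocL, anyN 15 (fun i => Nat.beq (nthD ocL 0 i) o) = true := by
  decide +kernel

theorem exists_smul {o : ℕ} (ho : o ∈ ocL) : ∃ a ∈ N1, a.p • bits oc3 = bits o := by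
  obtain ⟨i, hi, e⟩ := anyN_iff.1 (oc_idx o ho)
  have := allN_iff.1 c_chk i hi
  simp only [Bool.and_eq_true, beq_iff] at this e
  obtain ⟨a, ha, ea⟩ := inS_KS this.1
  refine ⟨a, KS_le_N1 ha, ?_⟩
  rw [H14.smul_bits, ← cP_cd, ea, this.2, e]

/-- the stabiliser of octad and sextet -/
def Y : Subgroup AG := N1 ⊓ (MulAction.stabilizer (Equiv.Perm GolayPt) (bits oc3)).comap pr

theorem mem_Y {a : AG} : a ∈ Y ↔ a ∈ N1 ∧ a.p • bits oc3 = bits oc3 := Iff.rfl

theorem relIndex_Y : Y.relIndex N1 = 15 := by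
  classical
  let _ : MulAction N1 (Finset GolayPt) := MulAction.compHom _ (pr.comp N1.subtype)
  have hs : ∀ (a : N1) (s : Finset GolayPt), a • s = (a : AG).p • s := fun _ _ => rfl
  have h1 : Y.subgroupOf N1 = MulAction.stabilizer N1 (bits oc3) := by
    ext a
    rw [mem_subgroupOf, mem_Y, MulAction.mem_stabilizer_iff, hs]
    exact and_iff_right a.2
  have h2 : MulAction.orbit N1 (bits oc3) = ↑(ocL.toFinset.image bits) := by
    ext s
    rw [MulAction.mem_orbit_iff, Finset.mem_coe, Finset.mem_image]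
    constructor
    · rintro ⟨a, rfl⟩
      obtain ⟨o, ho, e⟩ := smul_oc a.2
      exact ⟨o, List.mem_toFinset.2 ho, e.symm⟩
    · rintro ⟨o, ho, rfl⟩
      obtain ⟨a, ha, e⟩ := exists_smul (List.mem_toFinset.1 ho)
      exact ⟨⟨a, ha⟩, e⟩
  rw [relIndex, h1, MulAction.index_stabilizer, h2, Set.ncard_coe_finset,
    Finset.card_image_of_injOn, List.toFinset_card_of_nodup (by decide +kernel)]
  · rfl
  · have hl : ∀ o ∈ ocL, o < 2 ^ 24 := by decide +kernel
    intro a ha b hb h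
    exact bits_inj (hl a (List.mem_toFinset.1 ha)) (hl b (List.mem_toFinset.1 hb)) h

theorem card_Y : Nat.card Y = 2 ^ 21 * 9 := by
  have := H42.card_mul_relIndex (show Y ≤ N1 from inf_le_left)
  rw [relIndex_Y, card_N1] at this
  omega

/-- the group `2¹¹ : 2⁴` -/
def P0 : Subgroup AG where
  carrier := {a | a ∈ Ns ∧ ∃ i < 16, lin a = ee i}
  one_mem' := ⟨one_mem _, 0, by norm_num, by rw [map_one, ee_zero]⟩
  mul_mem' := by
    rintro a b ⟨ha, i, hi, e⟩ ⟨hb, j, hj, e'⟩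
    exact ⟨mul_mem ha hb, i ^^^ j, Nat.xor_lt_two_pow (n := 4) hi hj,
      by rw [map_mul, e, e', ee_mul hi hj]⟩
  inv_mem' := by
    rintro a ⟨ha, i, hi, e⟩
    refine ⟨inv_mem ha, i, hi, ?_⟩
    rw [map_inv, e]
    exact inv_eq_of_mul_eq_one_right (by rw [ee_mul hi hi, Nat.xor_self, ee_zero])

theorem isP_P0 : IsPGroup 2 P0 := by
  rintro ⟨a, ha, i, hi, e⟩
  refine ⟨2, Subtype.ext ?_⟩
  have h1 : lin (a * a) = 1 := by rw [map_mul, e, ee_mul hi hi, Nat.xor_self, ee_zero]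
  have h2 := lin_eq_one.1 h1
  show a ^ 2 ^ 2 = 1
  have : a ^ 2 ^ 2 = (a * a) * (a * a) := by
    rw [show 2 ^ 2 = 2 + 2 from rfl, pow_add, pow_two]
  rw [this, h2, tr_mul_self]

theorem e_chk : allN 16 (fun i => Nat.beq
    (img (nat_lit 5) (nat_lit 32) (nat_lit 24) (cP (nthD eL cone i)) oc3) oc3) = true := by
  decide +kernel

theorem P0_le : P0 ≤ Y := by
  rintro a ⟨ha, i, hi, e⟩
  refine mem_Y.2 ⟨mem_N1.2 ⟨ha, ?_⟩, ?_⟩
  · rw [← lin_m, e]; exact (ee_fix i).2
  · rw [← lin_p, e, H14.smul_bits, ← cP_cd, cd_ee, beq_iff.1 (allN_iff.1 e_chk i hi)]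

end MT

theorem exists_ts : ∃ T, TS T := by
  obtain ⟨T, hT, hle⟩ := H42.exists_sylIn MT.isP_P0 MT.P0_le
  have hN : T ≤ Ns := hT.le.trans (inf_le_left.trans N1_le_Ns)
  have hc : Nat.card T = 2 ^ 21 := by
    obtain ⟨k, hk⟩ := IsPGroup.iff_card.1 hT.isP
    have h1 := H42.card_mul_relIndex hT.le
    rw [MT.card_Y, hk] at h1
    have h2 : Nat.Coprime (2 ^ 21) (T.relIndex MT.Y) :=
      Nat.Coprime.pow_left _ ((Nat.Prime.coprime_iff_not_dvd Nat.prime_two).2 hT.ndvd)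
    have h3 : 2 ^ 21 ∣ 2 ^ k := h2.dvd_of_dvd_mul_right (h1 ▸ Dvd.intro _ rfl)
    have h4 : 2 ^ k ∣ 2 ^ 21 :=
      (Nat.Coprime.pow_left k (by norm_num : Nat.Coprime 2 9)).dvd_of_dvd_mul_right
        (h1 ▸ Dvd.intro _ rfl)
    rw [hk]
    exact Nat.dvd_antisymm h4 h3
  refine ⟨T, ⟨hN, hT.isP, ?_⟩, hc, fun v hv => hle ⟨tr_mem_Ns.2 hv, 0, by norm_num, ?_⟩,
    fun i => ?_, fun a ha x hx => ?_, fun a ha => (MT.mem_N1.1 (MT.mem_Y.1 (hT.le ha)).1).2⟩
  · have h1 := H42.card_mul_relIndex hN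
    rw [hc, card_Ns] at h1
    omega
  · rw [lin_tr, ee_zero]
  · by_cases hi : i < 16
    · exact hle ⟨ee_mem' i, i, hi, lin_eq_self.2 (mem_Ks.1 (ee_mem i)).2⟩
    · rw [ee_ge (not_lt.1 hi)]; exact one_mem _
  · have := (MT.mem_Y.1 (hT.le ha)).2
    rw [← this]
    exact apply_mem_perm_smul_finset.2 hx

end Cfsg.Agent.WJ
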